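import Groth.Agent.HTopHyper.VCover
import Groth.Agent.DescentBase.FpqcCover

/-! Examples of V coverings (fpqc, proper surjective, coproducts); standard ph coverings. -/

set_option autoImplicit false

universe w w' w'' u

open CategoryTheory CategoryTheory.Limits AlgebraicGeometry IsLocalRing MorphismProperty

namespace Groth.HTopHyper

theorem isStandardPh_pullback₁ {T T' : Scheme.{u}} [IsAffine T'] (g : T' ⟶ T)
    (E : PreZeroHypercover.{w} T) (hE : HTop.IsStandardPh E) :
    HTop.IsStandardPh (E.pullback₁ g) := by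
  obtain ⟨U, f, ι, _, _, hι, hfac, hcov⟩ := hE.exists_proper
  have := hE.isAffine
  have sq : ∀ j, IsPullback (pullback.lift (pullback.fst g (E.f j))
      (pullback.snd g (E.f j) ≫ ι j) (by rw [Category.assoc, hfac j, pullback.condition]) :
        pullback g (E.f j) ⟶ pullback g f) (pullback.snd g (E.f j)) (pullback.snd g f) (ι j) :=
    fun j => by
      refine (IsPullback.of_right (h₁₂ := pullback.fst g f) (v₁₃ := g) (h₂₂ := f) ?_
        (pullback.lift_snd _ _ _) (IsPullback.of_hasPullback g f).flip.flip)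
      simpa only [pullback.lift_fst, hfac j] using IsPullback.of_hasPullback g (E.f j)
  have hp : IsProper (pullback.fst g f) := inferInstance
  have hs : Surjective (pullback.fst g f) := inferInstance
  refine ⟨inferInstance, hE.finite_index, (fun j => ?_),
    pullback g f, pullback.fst g f, _, hp, hs,
    fun j => MorphismProperty.of_isPullback (P := @IsOpenImmersion) (sq j).flip (hι j),
    fun j => pullback.lift_fst _ _ _, fun x => ?_⟩
  · have := hE.isAffine_obj j
    exact inferInstanceAs (IsAffine (pullback g (E.f j)))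
  · obtain ⟨j, y, hy⟩ := hcov (pullback.snd g f x)
    obtain ⟨z, hz, -⟩ := Scheme.Pullback.exists_preimage_pullback
      (f := pullback.snd g f) (g := ι j) x y hy.symm
    refine ⟨j, (sq j).isoPullback.inv z, ?_⟩
    exact (Scheme.Hom.comp_apply _ _ z).symm.trans
      ((congrArg (fun q : pullback _ _ ⟶ pullback g f => q z) (sq j).isoPullback_inv_fst).trans hz)

theorem isVCover_of_fpqc {T : Scheme.{u}} (𝒰 : Scheme.Cover.{w} Scheme.fpqcPrecoverage T) :
    HTop.IsVCover 𝒰.toPreZeroHypercover := by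
  intro U
  have : IsAffine ((U : T.Opens) : Scheme.{u}) := U.2
  obtain ⟨m, _, W, hW, s, a, ha, ⟨⟨hsurj, -⟩, -⟩⟩ :=
    Groth.DescentBase.exists_affine_refinement (𝒰.pullback₁ (U : T.Opens).ι)
  obtain ⟨n, ⟨e⟩⟩ := Finite.exists_equiv_fin m
  refine ⟨PreZeroHypercover.mk (Fin n) (fun k => W (e.symm k))
      (fun k => a (e.symm k) ≫ (𝒰.pullback₁ (U : T.Opens).ι).f (s (e.symm k))),
    isStandardV_of_flat _ (fun k => hW _) (fun k => ?_) (fun t => ?_), fun k => ?_⟩
  · have := ha (e.symm k)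
    have : Flat ((𝒰.pullback₁ (U : T.Opens).ι).f (s (e.symm k))) :=
      ((𝒰.pullback₁ (U : T.Opens).ι).mem₀.2).2 ⟨_⟩
    infer_instance
  · obtain ⟨z, hz⟩ := hsurj.surj t
    obtain ⟨i, w, rfl⟩ := (sigmaOpenCover W).exists_eq z
    obtain ⟨k, rfl⟩ := e.symm.surjective i
    refine ⟨k, w, ?_⟩
    exact (congrArg (fun q : W (e.symm k) ⟶ _ => q w)
      (Sigma.ι_desc (f := W) (fun j => a j ≫ (𝒰.pullback₁ (U : T.Opens).ι).f (s j))
        (e.symm k))).symm.trans ((Scheme.Hom.comp_apply _ _ w).trans hz)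
  · refine ⟨s (e.symm k), a (e.symm k) ≫ pullback.snd _ _, ?_⟩
    change _ = (a _ ≫ pullback.fst _ _) ≫ _
    exact (Category.assoc _ _ _).trans
      ((congrArg (_ ≫ ·) pullback.condition.symm).trans (Category.assoc _ _ _).symm)

theorem isVCover_singleton_iff {X Y : Scheme.{u}} (f : X ⟶ Y) [QuasiCompact f] :
    HTop.IsVCover (PreZeroHypercover.singleton.{w} f) ↔
      HTop.HasValLift (PreZeroHypercover.singleton.{w} f) :=
  ⟨hasValLift_of_isVCover,
    have : Finite (PreZeroHypercover.singleton.{w} f).I₀ := inferInstanceAs (Finite PUnit)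
    isVCover_of_hasValLift fun _ => ‹QuasiCompact f›⟩

theorem hasValLift_singleton_iff {X Y : Scheme.{u}} (f : X ⟶ Y) :
    HTop.HasValLift (PreZeroHypercover.singleton.{w} f) ↔
      ∀ (Z : Scheme.{u}) (g : Z ⟶ Y) (z' z : Z), z' ⤳ z → ∃ w' x : ↑(pullback g f), w' ⤳ x ∧
        pullback.fst g f w' = z' ∧ pullback.fst g f x = z := by
  constructor
  · intro H Z g z' z h
    obtain ⟨V, _, _, l, hl', hl⟩ := exists_valRing h
    obtain ⟨W, _, _, φ, ⟨hinj, hloc⟩, -, (g' : Spec W ⟶ X), (hg' : g' ≫ f = Spec.map φ ≫ l ≫ g)⟩ :=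
      H V (l ≫ g)
    let m : Spec W ⟶ pullback g f := pullback.lift (Spec.map φ ≫ l) g'
      (by rw [Category.assoc, hg'])
    refine ⟨m (genPt W), m (clPt W), (genPt_specializes _).map m.continuous, ?_, ?_⟩
    · rw [← Scheme.Hom.comp_apply, pullback.lift_fst, Scheme.Hom.comp_apply,
        (specMap_genPt_iff φ).mpr hinj, hl']
    · rw [← Scheme.Hom.comp_apply, pullback.lift_fst, Scheme.Hom.comp_apply,
        (specMap_closedPoint_iff φ).mpr hloc, hl]
  · intro H
    rw [hasValLift_iff]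
    intro V _ _ g
    exact ⟨PUnit.unit, H (Spec V) g (genPt V) (clPt V) (genPt_specializes _)⟩

theorem isVCover_of_refinesOver_id {T : Scheme.{u}} {E : PreZeroHypercover.{w} T}
    {E' : PreZeroHypercover.{w'} T} (hE : HTop.IsVCover E) (h : HTop.RefinesOver (𝟙 T) E E') :
    HTop.IsVCover E' := by
  intro U
  obtain ⟨F, hF, hr⟩ := hE U
  refine ⟨F, hF, fun k => ?_⟩
  obtain ⟨i, r, hi⟩ := hr k
  obtain ⟨m, s, hs⟩ := h i
  exact ⟨m, r ≫ s, by rw [Category.assoc, hs, Category.comp_id, hi]⟩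

/-- Open covers are V coverings. -/
theorem isVCover_openCover {T : Scheme.{u}} (𝒰 : T.OpenCover) :
    HTop.IsVCover 𝒰.toPreZeroHypercover := by
  intro U
  have : IsAffine ((U : T.Opens) : Scheme.{u}) := U.2
  obtain ⟨n, V, a, hle, hstd⟩ := exists_zariski_std
    (fun i => (U : T.Opens).ι ⁻¹ᵁ (𝒰.f i).opensRange) fun y => by
      obtain ⟨i, z, hz⟩ := 𝒰.exists_eq ((U : T.Opens).ι y)
      exact ⟨i, z, hz⟩
  refine ⟨_, hstd, fun k => ⟨a k, IsOpenImmersion.lift (𝒰.f (a k)) ((V k : _) |>.1.ι ≫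
    (U : T.Opens).ι) ?_, IsOpenImmersion.lift_fac _ _ _⟩⟩
  rintro _ ⟨z, rfl⟩
  exact hle k z.2

set_option backward.isDefEq.respectTransparency false in
theorem isHCover_sigma_iff {T : Scheme.{u}} (E : PreZeroHypercover.{u} T)
    (hE : ∀ i, LocallyOfFinitePresentation (E.f i)) :
    HTop.IsHCover E ↔ HTop.IsHCover (PreZeroHypercover.singleton.{w} (Sigma.desc E.f)) := by
  have hlfp : LocallyOfFinitePresentation (Sigma.desc E.f) :=
    IsZariskiLocalAtSource.sigmaDesc (P := @LocallyOfFinitePresentation) hE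

  constructor
  · rintro ⟨-, hV⟩
    refine ⟨fun _ => hlfp, isVCover_of_refinesOver_id hV fun i => ⟨PUnit.unit, Sigma.ι E.X i, ?_⟩⟩
    exact (Sigma.ι_desc _ _).trans (Category.comp_id _).symm
  · rintro ⟨-, hV⟩
    refine ⟨hE, ?_⟩
    have h := isVCover_bind _ hV
      (fun _ => (sigmaOpenCover E.X).toPreZeroHypercover) fun _ => isVCover_openCover _
    refine isVCover_of_refinesOver_id h fun ⟨_, i⟩ => ⟨i, 𝟙 _, ?_⟩
    refine (Category.id_comp _).trans ?_
    change E.f i = ((sigmaOpenCover E.X).f i ≫ Sigma.desc E.f) ≫ 𝟙 T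
    rw [Category.comp_id]
    exact (Sigma.ι_desc _ _).symm

theorem isVCover_of_proper {X Y : Scheme.{u}} (f : Y ⟶ X) [IsProper f] [Surjective f] :
    HTop.IsVCover (PreZeroHypercover.singleton.{w} f) :=
  (isVCover_singleton_iff f).mpr <|
    @hasValLift_of_universallyClosed _ _ (PreZeroHypercover.singleton.{w} f) f (fun _ => 𝟙 Y)
      inferInstance inferInstance (fun _ => (inferInstance : IsOpenImmersion (𝟙 Y)))
      (fun _ => Category.id_comp _) fun x => ⟨PUnit.unit, x, rfl⟩

end Groth.HTopHyper
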