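import Groth.Agent.HTopHyper.HFinitePresentation
import Groth.Agent.HTopHyper.Coverings
import Groth.Agent.Limits.ProperDescent
import Groth.Agent.Limits.DescentStage
import Groth.Agent.SpectralTopology.DescendFP

/-! Standard h coverings descend along cofiltered limits of affine schemes. -/

set_option autoImplicit false
set_option backward.isDefEq.respectTransparency false

universe w u

open CategoryTheory CategoryTheory.Limits AlgebraicGeometry

namespace Groth.HTopHyper

open Groth.SpectralTopology Groth.Limits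

variable {I : Type u} [Category.{u} I] [IsCofiltered I] {D : I ⥤ Scheme.{u}} [∀ i, IsAffine (D.obj i)]
  {c : Cone D} (hc : IsLimit c)

include hc

/-- An affine scheme of finite presentation over the limit has an affine model at a stage. -/
theorem exists_affine_stageModel [IsAffine c.pt] {X : Scheme.{u}} [IsAffine X] (f : X ⟶ c.pt)
    [LocallyOfFinitePresentation f] :
    ∃ (i : I) (M : StageModel f i), IsAffine M.obj := by
  obtain ⟨i, ⟨M⟩⟩ := exists_stageModel hc f
  have : ∀ j : Over i, CompactSpace ((pullbackDiagram D i M.hom).obj j) := fun j =>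
    QuasiCompact.compactSpace_of_compactSpace (pullback.fst (D.map j.hom) M.hom)
  have : ∀ j : Over i, QuasiSeparatedSpace ((pullbackDiagram D i M.hom).obj j) := fun j =>
    quasiSeparatedSpace_of_quasiSeparated (pullback.fst (D.map j.hom) M.hom)
  have : IsAffine (pullbackCone D i M.hom c).pt := .of_isIso M.sq.flip.isoPullback.inv
  obtain ⟨j, hj⟩ := Scheme.exists_isAffine_of_isLimit _ _ (isLimitPullbackCone D i M.hom hc)
  exact ⟨j.left, M.pull j.hom, hj⟩

/-- A proper surjective morphism of finite presentation to the limit has a proper surjective model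
at a stage. -/
theorem exists_properSurj_stageModel [IsAffine c.pt] {Y : Scheme.{u}} (g : Y ⟶ c.pt) [IsProper g]
    [Surjective g] [LocallyOfFinitePresentation g] :
    ∃ (i : I) (N : StageModel g i), IsProper N.hom ∧ Surjective N.hom := by
  obtain ⟨i, ⟨N₀⟩⟩ := exists_stageModel hc g
  have : IsProper (pullback.snd N₀.hom (c.π.app i)) := by
    rw [← N₀.sq.isoPullback_inv_snd]; infer_instance
  have : ∀ (a b : Over i) (m : a ⟶ b), IsAffineHom ((Over.forget i ⋙ D).map m) := fun _ _ m =>
    inferInstanceAs (IsAffineHom (D.map m.left))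
  have : ∀ a : Over i, CompactSpace ↥((Over.forget i ⋙ D).obj a) := fun a =>
    inferInstanceAs (CompactSpace ↥(D.obj a.left))
  have : ∀ a : Over i, QuasiSeparatedSpace ↥((Over.forget i ⋙ D).obj a) := fun a =>
    inferInstanceAs (QuasiSeparatedSpace ↥(D.obj a.left))
  obtain ⟨j, hj⟩ := exists_isProper_bcTrans
    ((Functor.Initial.isLimitWhiskerEquiv (Over.forget i) c).symm hc) (overTrans D i) (c.π.app i)
    (fun j => c.w j.hom) N₀.hom
  have hjp : IsProper (pullback.snd N₀.hom (D.map j.hom)) := hj
  let N := N₀.pull j.hom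
  have : IsProper N.hom := by
    show IsProper (pullback.fst (D.map j.hom) N₀.hom)
    rw [← pullbackSymmetry_hom_comp_snd]; infer_instance
  have hcons : Topology.IsConstructible (Set.range N.hom) := by
    rw [← Set.image_univ]
    exact N.hom.isConstructible_image Topology.IsConstructible.univ
  obtain ⟨k, ψ, hk⟩ := exists_preimage_eq_empty D c hc
    (pc_of_isConstructible hcons.compl).qcImage (by
      refine Set.eq_empty_iff_forall_notMem.mpr fun x hx => hx ?_
      obtain ⟨y, rfl⟩ := g.surjective x
      exact ⟨N.map y, by rw [← Scheme.Hom.comp_apply, N.sq.w, Scheme.Hom.comp_apply]; rfl⟩)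
  refine ⟨k, N.pull ψ, MorphismProperty.pullback_fst _ _ this, ⟨fun z => ?_⟩⟩
  have hz : z ∉ D.map ψ ⁻¹' (Set.range N.hom)ᶜ := fun h => hk.le h
  have : z ∈ Set.range (pullback.fst (D.map ψ) N.hom) := by
    rw [Scheme.Pullback.range_fst]
    simpa using hz
  exact this

omit hc [IsCofiltered I] [∀ i, IsAffine (D.obj i)] in
theorem isAffine_pull {X : Scheme.{u}} {f : X ⟶ c.pt} {i k : I} (M : StageModel f i) (φ : k ⟶ i)
    [IsAffine M.obj] [IsAffine (D.obj i)] [IsAffine (D.obj k)] : IsAffine (M.pull φ).obj :=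
  inferInstanceAs (IsAffine (pullback (D.map φ) M.hom))

theorem exists_isStandardH_descends [IsAffine c.pt] (V : PreZeroHypercover.{w} c.pt)
    (hV : HTop.IsStandardH V) :
    ∃ (i : I) (W : PreZeroHypercover.{w} (D.obj i)), HTop.IsStandardH W ∧
      ∃ (σ : V.I₀ ≃ W.I₀) (e : ∀ j, V.X j ≅ pullback (c.π.app i) (W.f (σ j))),
        ∀ j, (e j).hom ≫ pullback.fst (c.π.app i) (W.f (σ j)) = V.f j := by
  classical
  have := hV.finite_index
  have := hV.isAffine_obj
  have := hV.finitePresentation
  obtain ⟨Y, g, n, U, hg, hgs, hglfp, hUa, hUc, hUh⟩ :=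
    exists_fp_refinement V ⟨hV.finitePresentation, hV.isVCover⟩
  choose idx h hh using hUh
  choose iM M hM using fun j => exists_affine_stageModel hc (V.f j)
  obtain ⟨iN, N, hN, hNs⟩ := exists_properSurj_stageModel hc g
  cases nonempty_fintype V.I₀
  obtain ⟨i, hi⟩ := IsCofiltered.inf_objs_exists (insert iN (Finset.univ.image iM))
  obtain ⟨ψN⟩ := hi (Finset.mem_insert_self _ _)
  have ψM : ∀ j, Nonempty (i ⟶ iM j) := fun j =>
    hi (Finset.mem_insert_of_mem (Finset.mem_image_of_mem _ (Finset.mem_univ j)))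
  replace ψM := fun j => (ψM j).some
  let M' := fun j => (M j).pull (ψM j)
  let N' := N.pull ψN
  have : IsProper N'.hom := MorphismProperty.pullback_fst _ _ hN
  have : Surjective N'.hom := MorphismProperty.pullback_fst _ _ hNs
  have hM' : ∀ j, IsAffine (M' j).obj := fun j => have := hM j; isAffine_pull _ _
  let P := pullbackDiagram D i N'.hom
  have : ∀ j : Over i, CompactSpace (P.obj j) := fun j =>
    QuasiCompact.compactSpace_of_compactSpace (pullback.fst (D.map j.hom) N'.hom)
  have : ∀ j : Over i, QuasiSeparatedSpace (P.obj j) := fun j =>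
    quasiSeparatedSpace_of_quasiSeparated (pullback.fst (D.map j.hom) N'.hom)
  let e := N'.sq.flip.isoPullback
  let st : P ⟶ (Functor.const (Over i)).obj (D.obj i) :=
    { app := fun j => pullback.snd (D.map j.hom) N'.hom ≫ N'.hom
      naturality := fun a b m => (pullback.lift_snd_assoc _ _ _ _).trans (Category.comp_id _).symm }
  let W : ULift.{u} (Fin n) → (pullbackCone D i N'.hom c).pt.Opens := fun k => e.inv ⁻¹ᵁ U k.down
  obtain ⟨j, U', hU'a, hU'c, hb⟩ := exists_stage_lift P _ (isLimitPullbackCone D i N'.hom hc) st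
    (q := pullback.snd (c.π.app i) N'.hom ≫ N'.hom)
    (fun j => by
      show pullback.lift _ _ _ ≫ pullback.snd _ _ ≫ _ = _
      rw [pullback.lift_snd_assoc]; rfl)
    W (by
      show ⨆ k, W k = ⊤
      rw [← Scheme.Hom.preimage_iSup]
      refine (congrArg (e.inv ⁻¹ᵁ ·) (?_ : (⨆ k : ULift.{u} (Fin n), U k.down) = ⊤)).trans rfl
      rw [← hUc]
      exact Equiv.iSup_comp (g := U) Equiv.ulift)
    (fun k => (hUa k.down).preimage_of_isIso _) (fun k => (M' (idx k.down)).obj)
    (fun k => (M' (idx k.down)).hom)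
    (fun k => e.inv ∣_ U k.down ≫ h k.down ≫ (M' (idx k.down)).map)
    (fun k => by
      rw [Category.assoc, Category.assoc, (M' (idx k.down)).sq.w, reassoc_of% (hh k.down),
        morphismRestrict_ι_assoc]
      have hkey : e.inv ≫ g ≫ c.π.app i = pullback.snd (c.π.app i) N'.hom ≫ N'.hom := by
        rw [← Category.assoc, N'.sq.flip.isoPullback_inv_fst, pullback.condition]
      exact congrArg ((W k).ι ≫ ·) hkey)
  choose b hb using hb
  have hM'' : ∀ a, IsAffine ((M' a).pull j.hom).obj := fun a => isAffine_pull _ _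
  refine ⟨j.left, ⟨V.I₀, fun a => ((M' a).pull j.hom).obj, fun a => ((M' a).pull j.hom).hom⟩,
    ⟨inferInstance, hV.finite_index, hM'', fun a => ((M' a).pull j.hom).lfp, ?_⟩,
    Equiv.refl _, fun a => ((M' a).pull j.hom).sq.flip.isoPullback,
    fun a => ((M' a).pull j.hom).sq.flip.isoPullback_hom_fst⟩
  refine isVCover_of_hasValLift (fun a => ((M' a).pull j.hom).qc) fun R _ _ r => ?_
  have : Surjective (N'.pull j.hom).hom := MorphismProperty.pullback_fst _ _ inferInstance
  have : IsProper (N'.pull j.hom).hom := MorphismProperty.pullback_fst _ _ inferInstance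
  let F : PreZeroHypercover.{u} (D.obj j.left) :=
    ⟨ULift.{u} (Fin n), fun k => (U' k : Scheme.{u}),
      fun k => (U' k).ι ≫ pullback.fst (D.map j.hom) N'.hom⟩
  have : UniversallyClosed (pullback.fst (D.map j.hom) N'.hom) :=
    inferInstanceAs (UniversallyClosed (N'.pull j.hom).hom)
  have : Surjective (pullback.fst (D.map j.hom) N'.hom) := ‹Surjective (N'.pull j.hom).hom›
  obtain ⟨R', hR, hR', φ, hφ, k, g', hg'⟩ := hasValLift_of_universallyClosed F
    (pullback.fst (D.map j.hom) N'.hom) (fun k => (U' k).ι) (fun _ => rfl) (fun x => by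
      obtain ⟨k, hk⟩ := TopologicalSpace.Opens.mem_iSup.mp
        (show x ∈ ⨆ k, U' k from hU'c.symm ▸ TopologicalSpace.Opens.mem_top x)
      exact ⟨k, ⟨x, hk⟩, rfl⟩) R r
  refine ⟨R', hR, hR', φ, hφ, idx k.down, pullback.lift (Spec.map φ ≫ r) (g' ≫ b k) ?_,
    pullback.lift_fst _ _ _⟩
  rw [← hg']
  refine (Category.assoc _ _ _).trans ((congrArg (g' ≫ ·) ?_).trans (Category.assoc _ _ _).symm)
  exact ((hb k).trans ((congrArg ((U' k).ι ≫ ·) pullback.condition.symm).trans
    (Category.assoc _ _ _).symm)).symm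

end Groth.HTopHyper
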