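import Mathlib.AlgebraicGeometry.Limits
import Mathlib.AlgebraicGeometry.Morphisms.Proper
import Mathlib.AlgebraicGeometry.Morphisms.Finite
import Mathlib.RingTheory.Finiteness.Prod

/-! Finite coproducts of proper morphisms to an affine scheme are proper. -/

set_option autoImplicit false

universe u

open CategoryTheory CategoryTheory.Limits AlgebraicGeometry

namespace Groth.HTopHyper

theorem isProper_fold {ι : Type u} [Finite ι] (R : CommRingCat.{u}) :
    IsProper (Sigma.desc fun _ : ι => 𝟙 (Spec R)) := by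
  let d : R ⟶ CommRingCat.of (ι → R) := CommRingCat.ofHom (algebraMap R (ι → R))
  have h : Sigma.desc (fun _ : ι => 𝟙 (Spec R)) = sigmaSpec (fun _ : ι => R) ≫ Spec.map d := by
    refine Sigma.hom_ext _ _ fun i => ?_
    rw [Sigma.ι_desc, ι_sigmaSpec_assoc, ← Spec.map_comp, ← Spec.map_id]
    congr 1
  rw [h]
  have : IsFinite (Spec.map d) :=
    (IsFinite.SpecMap_iff d).mpr
      (RingHom.finite_algebraMap.mpr (inferInstanceAs (Module.Finite R (ι → R))))
  have : IsProper (Spec.map d) := inferInstance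
  infer_instance

theorem isProper_sigmaMap {ι : Type u} [Finite ι] {X Y : ι → Scheme.{u}} (f : ∀ i, X i ⟶ Y i)
    (hf : ∀ i, IsProper (f i)) : IsProper (Limits.Sigma.map f) := by
  rw [IsZariskiLocalAtTarget.iff_of_openCover (P := @IsProper) (sigmaOpenCover Y)]
  intro i
  have sq : IsPullback (f i) (Sigma.ι X i) (Sigma.ι Y i) (Limits.Sigma.map f) := by
    refine IsOpenImmersion.isPullback _ _ _ _ (Sigma.ι_map f i) ?_
    refine le_antisymm (fun x hx => ?_) ?_
    · obtain ⟨j, y, rfl⟩ := (sigmaOpenCover X).exists_eq x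
      obtain ⟨z, hz⟩ := hx
      have h' : Sigma.ι Y i z = Sigma.ι Y j (f j y) :=
        hz.trans (congrArg (fun q : X j ⟶ ∐ Y => q y) (Sigma.ι_map f j))
      obtain rfl : i = j := by
        by_contra hij
        exact (disjoint_opensRange_sigmaι Y i j hij).le_bot ⟨⟨z, rfl⟩, ⟨f j y, h'.symm⟩⟩
      exact ⟨y, rfl⟩
    · rintro _ ⟨y, rfl⟩
      exact ⟨f i y, (congrArg (fun q : X i ⟶ ∐ Y => q y) (Sigma.ι_map f i)).symm⟩
  change IsProper (pullback.snd (Limits.Sigma.map f) (Sigma.ι Y i))
  have e := sq.flip.isoPullback_hom_snd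
  refine (MorphismProperty.cancel_left_of_respectsIso @IsProper sq.flip.isoPullback.hom _).mp ?_
  rw [e]
  exact hf i

/-- A finite family of proper morphisms to an affine scheme gives a proper morphism from the
coproduct. -/
theorem isProper_sigmaDesc {ι : Type u} [Finite ι] {U : Scheme.{u}} [IsAffine U]
    {X : ι → Scheme.{u}} (f : ∀ i, X i ⟶ U) (hf : ∀ i, IsProper (f i)) :
    IsProper (Sigma.desc f) := by
  have h1 := isProper_sigmaMap (fun i => f i ≫ U.isoSpec.hom)
    (fun i => have := hf i; inferInstance)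
  have h2 := isProper_fold (ι := ι) Γ(U, ⊤)
  have : Sigma.desc f =
      (Limits.Sigma.map (fun i => f i ≫ U.isoSpec.hom) ≫ Sigma.desc fun _ : ι => 𝟙 _) ≫
        U.isoSpec.inv := Sigma.hom_ext _ _ fun i => by simp
  rw [this]
  infer_instance

end Groth.HTopHyper
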