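import Groth.Agent.HTopHyper.Seminormal

universe u

open CategoryTheory AlgebraicGeometry

namespace Groth.HTopHyper

variable {A C : Type u} [CommRing A] [CommRing C]

theorem residueFieldMap_isIso_iff {R S : CommRingCat.{u}} (φ : R ⟶ S) (y : Spec S) :
    IsIso ((Spec.map φ).residueFieldMap y) ↔
      ∀ c : S, ∃ a s : R, φ.hom s ∉ y.asIdeal ∧ φ.hom s * c - φ.hom a ∈ y.asIdeal := by
    let f := Spec.map φ
    change IsIso (f.residueFieldMap y) ↔ _
    have : y.asIdeal.IsPrime := y.isPrime
    have : (f y).asIdeal.IsPrime := (f y).isPrime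
    let eA : R →+* (Spec R).residueField (f y) :=
      (Scheme.Spec.residueFieldIso R (f y)).inv.hom.comp (algebraMap R (f y).asIdeal.ResidueField)
    let eC : S →+* (Spec S).residueField y :=
      (Scheme.Spec.residueFieldIso S y).inv.hom.comp (algebraMap S y.asIdeal.ResidueField)
    have nat : ∀ a, (f.residueFieldMap y).hom (eA a) = eC (φ.hom a) := by
      have hh : CommRingCat.ofHom (algebraMap R (f y).asIdeal.ResidueField) ≫
            (Scheme.Spec.residueFieldIso R (f y)).inv ≫ f.residueFieldMap y =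
          φ ≫ CommRingCat.ofHom (algebraMap S y.asIdeal.ResidueField) ≫
            (Scheme.Spec.residueFieldIso S y).inv := by
        apply Spec.map_injective
        simp only [Spec.map_comp, Category.assoc, Scheme.Spec.map_residueFieldIso_inv_eq_fromSpecResidueField, f]
        refine (Scheme.Hom.SpecMap_residueFieldMap_fromSpecResidueField _ _).trans ?_
        rw [← Scheme.Spec.map_residueFieldIso_inv_eq_fromSpecResidueField (R := S) (x := y), Category.assoc]
      exact fun a => ConcreteCategory.congr_hom hh a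
    have isoA : Function.Bijective (Scheme.Spec.residueFieldIso R (f y)).inv.hom :=
      ConcreteCategory.bijective_of_isIso _
    have isoC : Function.Bijective (Scheme.Spec.residueFieldIso S y).inv.hom :=
      ConcreteCategory.bijective_of_isIso _
    have hC0 : ∀ c : S, eC c = 0 ↔ c ∈ y.asIdeal := fun c => by
      rw [← Ideal.algebraMap_residueField_eq_zero]; exact map_eq_zero_iff _ isoC.1
    have hA0 : ∀ a : R, eA a = 0 ↔ φ.hom a ∈ y.asIdeal := fun a => by
      rw [← hC0, ← nat]
      exact (map_eq_zero_iff _ (f.residueFieldMap y).hom.injective).symm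
    -- every element of either residue field is a fraction
    have fracA : ∀ z, ∃ a s : R, eA s ≠ 0 ∧ z * eA s = eA a := by
      intro z
      obtain ⟨z, rfl⟩ := isoA.2 z
      obtain ⟨⟨a, s, hs⟩, hz⟩ := IsLocalization.surj (nonZeroDivisors (R ⧸ (f y).asIdeal)) z
      obtain ⟨a, rfl⟩ := Ideal.Quotient.mk_surjective a
      obtain ⟨s, rfl⟩ := Ideal.Quotient.mk_surjective s
      rw [Ideal.algebraMap_quotient_residueField_mk, Ideal.algebraMap_quotient_residueField_mk] at hz
      refine ⟨a, s, ?_, ((map_mul _ _ _).symm.trans (congrArg _ hz))⟩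
      refine (map_ne_zero_iff _ isoA.1).mpr ?_
      rw [Ne, Ideal.algebraMap_residueField_eq_zero]
      exact fun h => nonZeroDivisors.ne_zero hs (Ideal.Quotient.eq_zero_iff_mem.mpr h)
    have fracC : ∀ z, ∃ a s : S, eC s ≠ 0 ∧ z * eC s = eC a := by
      intro z
      obtain ⟨z, rfl⟩ := isoC.2 z
      obtain ⟨⟨a, s, hs⟩, hz⟩ := IsLocalization.surj (nonZeroDivisors (S ⧸ y.asIdeal)) z
      obtain ⟨a, rfl⟩ := Ideal.Quotient.mk_surjective a
      obtain ⟨s, rfl⟩ := Ideal.Quotient.mk_surjective s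
      rw [Ideal.algebraMap_quotient_residueField_mk, Ideal.algebraMap_quotient_residueField_mk] at hz
      refine ⟨a, s, ?_, ((map_mul _ _ _).symm.trans (congrArg _ hz))⟩
      refine (map_ne_zero_iff _ isoC.1).mpr ?_
      rw [Ne, Ideal.algebraMap_residueField_eq_zero]
      exact fun h => nonZeroDivisors.ne_zero hs (Ideal.Quotient.eq_zero_iff_mem.mpr h)
    rw [ConcreteCategory.isIso_iff_bijective]
    refine ⟨fun h c => ?_, fun h => ⟨(f.residueFieldMap y).hom.injective, fun z => ?_⟩⟩
    · obtain ⟨z, hz⟩ := h.2 (eC c)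
      obtain ⟨a, s, hs, hzs⟩ := fracA z
      refine ⟨a, s, fun h' => hs ((hA0 s).mpr h'), ?_⟩
      rw [← hC0, map_sub, map_mul, sub_eq_zero, ← nat, ← nat, ← hz, mul_comm, ← hzs, map_mul]
    · obtain ⟨c, d, hd, hzd⟩ := fracC z
      obtain ⟨a₁, s₁, hs₁, h₁⟩ := h c
      obtain ⟨a₂, s₂, hs₂, h₂⟩ := h d
      rw [← hC0, map_sub, map_mul, sub_eq_zero, ← nat, ← nat] at h₁ h₂
      have hs₂' : (f.residueFieldMap y).hom (eA s₂) ≠ 0 := by
        rw [nat, Ne, hC0]; exact hs₂
      have hs₁' : (f.residueFieldMap y).hom (eA s₁) ≠ 0 := by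
        rw [nat, Ne, hC0]; exact hs₁
      refine ⟨eA a₁ * eA s₂ / (eA s₁ * eA a₂), ?_⟩
      change (f.residueFieldMap y).hom _ = z
      rw [map_div₀, map_mul, map_mul, ← h₁, ← h₂, ← hzd]
      field_simp


theorem residueFieldsIso_SpecMap_iff (φ : A →+* C) :
    HTop.ResidueFieldsIso (Spec.map (CommRingCat.ofHom φ)) ↔ ResSurj φ :=
  ⟨fun h q hq c => ((residueFieldMap_isIso_iff (CommRingCat.ofHom φ) ⟨q, hq⟩).mp (h _) c),
    fun h y => (residueFieldMap_isIso_iff (CommRingCat.ofHom φ) y).mpr (h _ y.isPrime)⟩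

end Groth.HTopHyper
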