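import Groth.Agent.HTopHyper.Coverings
import Groth.Agent.Chow.General
import Groth.Agent.Variety2.ProjBasics

/-! Gluing proper surjective morphisms along a finite affine cover; ph coverings compose. -/

set_option autoImplicit false
set_option backward.isDefEq.respectTransparency false

universe w w' w'' u

open CategoryTheory CategoryTheory.Limits AlgebraicGeometry

namespace Groth.HTopHyper

theorem isProper_coprodDesc {W Z U : Scheme.{u}} (f : W ⟶ U) (g : Z ⟶ U) [IsProper f] [IsProper g] :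
    IsProper (coprod.desc f g) := by
  have h1 : IsProper (coprod.map f g) := by
    rw [IsZariskiLocalAtTarget.iff_of_openCover (P := @IsProper) (coprodOpenCover.{u, u} U U)]
    rintro (⟨⟨⟩⟩ | ⟨⟨⟩⟩)
    · change IsProper (pullback.snd (coprod.map f g) coprod.inl)
      have sq := (isPullback_inl_inl_coprodMap f g).flip
      rw [← MorphismProperty.cancel_left_of_respectsIso @IsProper sq.isoPullback.hom,
        sq.isoPullback_hom_snd]
      infer_instance
    · change IsProper (pullback.snd (coprod.map f g) coprod.inr)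
      have sq := (isPullback_inr_inr_coprodMap f g).flip
      rw [← MorphismProperty.cancel_left_of_respectsIso @IsProper sq.isoPullback.hom,
        sq.isoPullback_hom_snd]
      infer_instance
  have h2 : IsFinite (coprod.desc (𝟙 U) (𝟙 U)) := inferInstance
  have h : coprod.desc f g = coprod.map f g ≫ coprod.desc (𝟙 U) (𝟙 U) := by simp
  rw [h]
  infer_instance

/-- A proper surjective morphism to an affine open extends, after refinement, to a proper morphism
to the whole (quasi-separated) scheme. -/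
theorem exists_proper_extension {U : Scheme.{u}} [QuasiSeparatedSpace U] (O : U.Opens)
    (hO : IsAffineOpen O) {V : Scheme.{u}} (g : V ⟶ (O : Scheme.{u})) [IsProper g] [Surjective g] :
    ∃ (W : Scheme.{u}) (q : W ⟶ U) (h : (q ⁻¹ᵁ O : Scheme.{u}) ⟶ V),
      IsProper q ∧ (∀ x ∈ O, x ∈ Set.range q) ∧ h ≫ g = q ∣_ O := by
  have : IsAffine (O : Scheme.{u}) := hO
  have : CompactSpace V := QuasiCompact.compactSpace_of_compactSpace g
  have : QuasiSeparatedSpace V := quasiSeparatedSpace_of_quasiSeparated g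
  obtain ⟨N, V', π, j, hj, hjb, hπ, hπs⟩ := Groth.Chow.exists_chow_general g
  have := hj; have := hπ; have := hπs
  have : CompactSpace V' := QuasiCompact.compactSpace_of_compactSpace π
  let m : CohB1.ProjSpaceOver N (O : Scheme.{u}) ⟶ CohB1.ProjSpaceOver N U :=
    pullback.map _ _ _ _ (𝟙 _) O.ι (𝟙 _) (by simp) (specULiftZIsTerminal.hom_ext _ _)
  have : IsImmersion m := inferInstance
  have hm : m ≫ CohB1.ProjSpaceOver.toBase N U = CohB1.ProjSpaceOver.toBase N O ≫ O.ι :=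
    pullback.lift_snd _ _ _
  let j' : V' ⟶ CohB1.ProjSpaceOver N U := j ≫ m
  have : IsImmersion j' := inferInstance
  have hjb' : j' ≫ CohB1.ProjSpaceOver.toBase N U = π ≫ g ≫ O.ι := by
    simp only [j', Category.assoc, hm, reassoc_of% hjb]
  have : IsProper (CohB1.ProjSpaceOver.toBase N U) := Groth.Variety2.isProper_projSpaceOver_toBase _ _
  have : CompactSpace (O : Scheme.{u}) := inferInstance
  have : QuasiCompact O.ι := quasiCompact_of_compactSpace _
  have : QuasiCompact (j' ≫ CohB1.ProjSpaceOver.toBase N U) := by rw [hjb']; infer_instance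
  have : QuasiCompact j' := QuasiCompact.of_comp _ (CohB1.ProjSpaceOver.toBase N U)
  let q : j'.image ⟶ U := j'.imageι ≫ CohB1.ProjSpaceOver.toBase N U
  let t : V' ⟶ j'.image := j'.toImage
  have ht : t ≫ q = π ≫ g ≫ O.ι := by
    simp only [t, q, Scheme.Hom.toImage_imageι_assoc, hjb']
  let W' : j'.image.Opens := q ⁻¹ᵁ O
  have htW : Set.range t ⊆ (W' : Set j'.image) := by
    rintro _ ⟨x, rfl⟩
    show q (t x) ∈ O
    rw [← Scheme.Hom.comp_apply, ht, Scheme.Hom.comp_apply, Scheme.Hom.comp_apply]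
    exact (g (π x)).2
  let l : V' ⟶ (W' : Scheme.{u}) := IsOpenImmersion.lift W'.ι t (by simpa using htW)
  have hl : l ≫ W'.ι = t := IsOpenImmersion.lift_fac _ _ _
  have hlq : l ≫ (q ∣_ O) = π ≫ g := by
    rw [← cancel_mono O.ι]
    simp only [Category.assoc, morphismRestrict_ι]
    rw [← ht, ← hl, Category.assoc]
  have : IsProper (l ≫ (q ∣_ O)) := by rw [hlq]; infer_instance
  have : IsProper l := IsProper.of_comp l (q ∣_ O)
  have : IsOpenImmersion (l ≫ W'.ι) := by rw [hl]; exact inferInstanceAs (IsOpenImmersion j'.toImage)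
  have : IsOpenImmersion l := IsOpenImmersion.of_comp l W'.ι
  have hls : Surjective l := by
    refine ⟨fun x => ?_⟩
    by_contra hx
    have hop : IsOpen (W'.ι '' (Set.range l)ᶜ) :=
      W'.ι.isOpenEmbedding.isOpenMap _ l.isClosedMap.isClosed_range.isOpen_compl
    obtain ⟨v, y, hy, hy'⟩ :=
      j'.toImage.denseRange.exists_mem_open hop ⟨_, x, hx, rfl⟩
    refine hy ⟨v, W'.ι.isOpenEmbedding.injective ?_⟩
    rw [hy', ← Scheme.Hom.comp_apply, hl]
  have : IsIso l := (isIso_iff_isOpenImmersion_and_epi_base l).mpr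
    ⟨inferInstance, (TopCat.epi_iff_surjective _).mpr hls.surj⟩
  refine ⟨j'.image, q, inv l ≫ π, inferInstance, fun x hx => ?_, ?_⟩
  · obtain ⟨v, hv⟩ := g.surjective ⟨x, hx⟩
    obtain ⟨v', rfl⟩ := π.surjective v
    refine ⟨t v', ?_⟩
    rw [← Scheme.Hom.comp_apply, ht, Scheme.Hom.comp_apply, Scheme.Hom.comp_apply, hv]
    rfl
  · rw [Category.assoc, ← hlq, IsIso.inv_hom_id_assoc]

/-- As `exists_proper_extension`, surjective on all of the base. -/
theorem exists_proper_surjective_extension {U : Scheme.{u}} [CompactSpace U] [QuasiSeparatedSpace U]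
    (O : U.Opens) (hO : IsAffineOpen O) {V : Scheme.{u}} (g : V ⟶ (O : Scheme.{u})) [IsProper g]
    [Surjective g] :
    ∃ (W : Scheme.{u}) (q : W ⟶ U) (h : (q ⁻¹ᵁ O : Scheme.{u}) ⟶ V),
      IsProper q ∧ Surjective q ∧ h ≫ g = q ∣_ O := by
  obtain ⟨W, q, h, hq, hr, hh⟩ := exists_proper_extension O hO g
  have := hq
  let Z : TopologicalSpace.Closeds U := ⟨(O : Set U)ᶜ, O.isOpen.isClosed_compl⟩
  let ι := (Scheme.IdealSheafData.vanishingIdeal Z).subschemeι
  have hι : Set.range ι = (O : Set U)ᶜ := by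
    rw [Scheme.IdealSheafData.range_subschemeι, Scheme.IdealSheafData.coe_support_vanishingIdeal]
    rfl
  have : IsClosedImmersion ι := inferInstance
  let q' := coprod.desc q ι
  have hp : IsProper q' := isProper_coprodDesc q ι
  have hsub : Set.range (q' ⁻¹ᵁ O).ι ⊆ Set.range (coprod.inl : W ⟶ W ⨿ _) := by
    rw [Scheme.Opens.range_ι]
    intro x hx
    obtain (⟨a, rfl⟩ | ⟨b, rfl⟩) : x ∈ Set.range (coprod.inl : W ⟶ W ⨿ _) ∨
        x ∈ Set.range (coprod.inr : _ ⟶ W ⨿ _) :=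
      (Set.mem_union _ _ _).mp ((isCompl_range_inl_inr W _).codisjoint.top_le trivial)
    · exact ⟨a, rfl⟩
    · exfalso
      have h1 : q' ((coprod.inr : _ ⟶ W ⨿ _) b) ∈ O := hx
      rw [← Scheme.Hom.comp_apply, coprod.inr_desc] at h1
      exact (hι.le ⟨b, rfl⟩) h1
  let a := IsOpenImmersion.lift (coprod.inl : W ⟶ W ⨿ _) _ hsub
  have ha : a ≫ q = (q' ⁻¹ᵁ O).ι ≫ q' := by
    rw [← IsOpenImmersion.lift_fac (coprod.inl : W ⟶ W ⨿ _) _ hsub, Category.assoc, coprod.inl_desc]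
  let b := IsOpenImmersion.lift (q ⁻¹ᵁ O).ι a (by
    rw [Scheme.Opens.range_ι]
    rintro _ ⟨x, rfl⟩
    show q (a x) ∈ O
    rw [← Scheme.Hom.comp_apply, ha, Scheme.Hom.comp_apply]
    exact x.2)
  refine ⟨_, q', b ≫ h, hp, ⟨fun x => ?_⟩, ?_⟩
  · by_cases hx : x ∈ O
    · obtain ⟨w, rfl⟩ := hr x hx
      exact ⟨(coprod.inl : W ⟶ W ⨿ _) w, by rw [← Scheme.Hom.comp_apply, coprod.inl_desc]⟩
    · obtain ⟨z, rfl⟩ := hι.ge hx
      exact ⟨(coprod.inr : _ ⟶ W ⨿ _) z, by rw [← Scheme.Hom.comp_apply, coprod.inr_desc]⟩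
  · rw [← cancel_mono O.ι, Category.assoc b h g, hh]
    simp only [Category.assoc, morphismRestrict_ι]
    rw [← ha, IsOpenImmersion.lift_fac_assoc]

/-- A finite family of proper surjective morphisms to affine opens is dominated by one proper
surjective morphism to the whole scheme. -/
theorem exists_proper_dominating {U : Scheme.{u}} [CompactSpace U] [QuasiSeparatedSpace U] :
    ∀ {n : ℕ} (O : Fin n → U.Opens) (_ : ∀ k, IsAffineOpen (O k)) (V : Fin n → Scheme.{u})
      (g : ∀ k, V k ⟶ (O k : Scheme.{u})) (_ : ∀ k, IsProper (g k)) (_ : ∀ k, Surjective (g k)),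
      ∃ (P : Scheme.{u}) (q : P ⟶ U), IsProper q ∧ Surjective q ∧
        ∀ k, ∃ h : (q ⁻¹ᵁ O k : Scheme.{u}) ⟶ V k, h ≫ g k ≫ (O k).ι = (q ⁻¹ᵁ O k).ι ≫ q
  | 0, _, _, _, _, _, _ => ⟨U, 𝟙 U, inferInstance, inferInstance, fun k => k.elim0⟩
  | n + 1, O, hO, V, g, hg, hgs => by
    obtain ⟨P, q, hq, hqs, hP⟩ := exists_proper_dominating (fun k => O (Fin.castSucc k))
      (fun k => hO _) (fun k => V _) (fun k => g _) (fun k => hg _) (fun k => hgs _)
    have := hg (Fin.last n); have := hgs (Fin.last n)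
    obtain ⟨W, q', h', hq', hqs', hh'⟩ :=
      exists_proper_surjective_extension (O (Fin.last n)) (hO _) (g (Fin.last n))
    have := hq; have := hqs; have := hq'; have := hqs'
    refine ⟨pullback q q', pullback.fst q q' ≫ q, inferInstance, inferInstance, ?_⟩
    intro k
    refine Fin.lastCases ?_ (fun i => ?_) k
    · let O' := O (Fin.last n)
      let p := (pullback.fst q q' ≫ q)
      let a := IsOpenImmersion.lift (q' ⁻¹ᵁ O').ι ((p ⁻¹ᵁ O').ι ≫ pullback.snd q q') (by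
        rw [Scheme.Opens.range_ι]
        rintro _ ⟨x, rfl⟩
        show q' (((p ⁻¹ᵁ O').ι ≫ pullback.snd q q') x) ∈ O'
        rw [Scheme.Hom.comp_apply, ← Scheme.Hom.comp_apply (pullback.snd q q') q', ← pullback.condition]
        exact x.2)
      refine ⟨a ≫ h', ?_⟩
      rw [Category.assoc, reassoc_of% hh', morphismRestrict_ι, IsOpenImmersion.lift_fac_assoc,
        Category.assoc, ← pullback.condition]
    · obtain ⟨h, hh⟩ := hP i
      let p := (pullback.fst q q' ≫ q)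
      let a := IsOpenImmersion.lift (q ⁻¹ᵁ O (Fin.castSucc i)).ι
        ((p ⁻¹ᵁ O (Fin.castSucc i)).ι ≫ pullback.fst q q') (by
        rw [Scheme.Opens.range_ι]
        rintro _ ⟨x, rfl⟩
        exact x.2)
      refine ⟨a ≫ h, ?_⟩
      rw [Category.assoc, hh, IsOpenImmersion.lift_fac_assoc, Category.assoc]

/-- Some standard ph covering refines the base change of `E` along `g`. -/
def PhRefinable {Y T : Scheme.{u}} (g : Y ⟶ T) (E : PreZeroHypercover.{w} T) : Prop :=
  ∃ F : PreZeroHypercover.{0} Y, HTop.IsStandardPh F ∧ HTop.RefinesOver g F E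

theorem phRefinable_of {Y T U : Scheme.{u}} [IsAffine Y] {g : Y ⟶ T} {E : PreZeroHypercover.{w} T}
    (f : U ⟶ Y) [IsProper f] [Surjective f]
    (h : ∀ x : U, ∃ O : U.Opens, x ∈ O ∧ ∃ (i : E.I₀) (a : (O : Scheme.{u}) ⟶ E.X i),
      a ≫ E.f i = O.ι ≫ f ≫ g) : PhRefinable g E := by
  have : CompactSpace U := QuasiCompact.compactSpace_of_compactSpace f
  have hb : ∀ x : U, ∃ A : U.Opens, IsAffineOpen A ∧ x ∈ A ∧
      ∃ (i : E.I₀) (a : (A : Scheme.{u}) ⟶ E.X i), a ≫ E.f i = A.ι ≫ f ≫ g := fun x => by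
    obtain ⟨O, hx, i, a, ha⟩ := h x
    obtain ⟨_, ⟨A, hA, rfl⟩, hxA, hAO⟩ :=
      U.isBasis_affineOpens.exists_subset_of_mem_open hx O.isOpen
    exact ⟨A, hA, hxA, i, U.homOfLE hAO ≫ a, by rw [Category.assoc, ha, Scheme.homOfLE_ι_assoc]⟩
  choose A hA hxA i a ha using hb
  obtain ⟨s, hs⟩ := CompactSpace.isCompact_univ.elim_finite_subcover (fun x => (A x : Set U))
    (fun x => (A x).isOpen) fun x _ => Set.mem_iUnion.mpr ⟨x, hxA x⟩
  obtain ⟨n, ⟨e⟩⟩ := Finite.exists_equiv_fin s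
  refine ⟨PreZeroHypercover.mk (Fin n) (fun k => (A (e.symm k : U) : Scheme.{u}))
    (fun k => (A (e.symm k : U)).ι ≫ f),
    ⟨inferInstance, inferInstanceAs (Finite (Fin n)), fun k => hA _,
      U, f, fun k => (A (e.symm k : U)).ι, inferInstance, inferInstance,
      fun k => inferInstance, fun k => rfl, fun x => ?_⟩,
    fun k => ⟨i _, a _, (ha _).trans (Category.assoc _ _ _).symm⟩⟩
  obtain ⟨y, hy, hxy⟩ := Set.mem_iUnion₂.mp (hs (Set.mem_univ x))
  obtain ⟨k, hk⟩ := e.symm.surjective ⟨y, hy⟩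
  refine ⟨k, ?_⟩
  change x ∈ Set.range (A (e.symm k : U)).ι
  rw [Scheme.Opens.range_ι, hk]
  exact hxy

theorem PhRefinable.pullback₁ {Y' Y T : Scheme.{u}} [IsAffine Y'] (c : Y' ⟶ Y) {g : Y ⟶ T}
    {E : PreZeroHypercover.{w} T} (h : PhRefinable g E) : PhRefinable (c ≫ g) E := by
  obtain ⟨F, hF, hr⟩ := h
  refine ⟨F.pullback₁ c, isStandardPh_pullback₁ c F hF, fun k => ?_⟩
  obtain ⟨i, r, hi⟩ := hr k
  refine ⟨i, pullback.snd c (F.f k) ≫ r, ?_⟩
  show (pullback.snd c (F.f k) ≫ r) ≫ E.f i = pullback.fst c (F.f k) ≫ c ≫ g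
  rw [Category.assoc, hi, pullback.condition_assoc]

theorem PhRefinable.of_map {Y T' T : Scheme.{u}} {g : Y ⟶ T'} {E' : PreZeroHypercover.{w'} T'}
    (h : PhRefinable g E') (c : T' ⟶ T) (E : PreZeroHypercover.{w} T)
    (hc : ∀ i', ∃ (i : E.I₀) (r : E'.X i' ⟶ E.X i), r ≫ E.f i = E'.f i' ≫ c) :
    PhRefinable (g ≫ c) E := by
  obtain ⟨F, hF, hr⟩ := h
  refine ⟨F, hF, fun k => ?_⟩
  obtain ⟨i', r', hi'⟩ := hr k
  obtain ⟨i, r, hi⟩ := hc i'
  exact ⟨i, r' ≫ r, by rw [Category.assoc, hi, reassoc_of% hi']⟩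

/-- Being ph refinable is local on a proper surjective cover with a Zariski cover by affines. -/
theorem phRefinable_glue {Y T U : Scheme.{u}} [IsAffine Y] {g : Y ⟶ T}
    {E : PreZeroHypercover.{w} T} (f : U ⟶ Y) [IsProper f] [Surjective f]
    (h : ∀ x : U, ∃ O : U.Opens, IsAffineOpen O ∧ x ∈ O ∧ PhRefinable (O.ι ≫ f ≫ g) E) :
    PhRefinable g E := by
  have : CompactSpace U := QuasiCompact.compactSpace_of_compactSpace f
  have : QuasiSeparatedSpace U := quasiSeparatedSpace_of_quasiSeparated f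
  choose O hO hxO hOE using h
  obtain ⟨s, hs⟩ := CompactSpace.isCompact_univ.elim_finite_subcover (fun x => (O x : Set U))
    (fun x => (O x).isOpen) fun x _ => Set.mem_iUnion.mpr ⟨x, hxO x⟩
  obtain ⟨n, ⟨e⟩⟩ := Finite.exists_equiv_fin s
  choose F hF hr using hOE
  choose V p ι hp hps hι hfac hcov using fun x => (hF x).exists_proper
  obtain ⟨P, q, hq, hqs, hP⟩ := exists_proper_dominating (fun k => O (e.symm k : U))
    (fun k => hO _) (fun k => V (e.symm k : U)) (fun k => p _) (fun k => hp _) (fun k => hps _)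
  have := hq; have := hqs
  refine phRefinable_of (q ≫ f) fun x => ?_
  obtain ⟨y, hy, hxy⟩ := Set.mem_iUnion₂.mp (hs (Set.mem_univ (q x)))
  obtain ⟨k, hk⟩ := e.symm.surjective ⟨y, hy⟩
  obtain ⟨h', hh'⟩ := hP k
  have hxk : x ∈ q ⁻¹ᵁ O (e.symm k : U) := by
    show q x ∈ O (e.symm k : U)
    rw [hk]; exact hxy
  obtain ⟨l, z, hz⟩ := hcov (e.symm k : U) (h' ⟨x, hxk⟩)
  have := hι (e.symm k : U) l
  let Q : (q ⁻¹ᵁ O (e.symm k : U) : Scheme.{u}).Opens := h' ⁻¹ᵁ (ι (e.symm k : U) l).opensRange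
  let c := IsOpenImmersion.lift (ι (e.symm k : U) l) (Q.ι ≫ h') (by
    rintro _ ⟨v, rfl⟩
    exact v.2)
  obtain ⟨i, r, hi⟩ := hr (e.symm k : U) l
  refine ⟨(q ⁻¹ᵁ O (e.symm k : U)).ι ''ᵁ Q, ⟨⟨x, hxk⟩, ⟨z, hz⟩, rfl⟩, i,
    ((q ⁻¹ᵁ O (e.symm k : U)).ι.isoImage Q).inv ≫ c ≫ r, ?_⟩
  rw [Category.assoc, Category.assoc, hi, ← hfac, Category.assoc,
    IsOpenImmersion.lift_fac_assoc, Category.assoc, reassoc_of% hh', Category.assoc,
    Scheme.Hom.isoImage_inv_ι_assoc]

/-- The core of stability of ph coverings under base change. -/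
theorem phRefinable_of_isPhCover {Y T : Scheme.{u}} [IsAffine Y] (g : Y ⟶ T)
    {E : PreZeroHypercover.{w} T} (hE : HTop.IsPhCover E) : PhRefinable g E := by
  refine phRefinable_glue (𝟙 Y) fun y => ?_
  obtain ⟨_, ⟨W, hW, rfl⟩, hgW, -⟩ :=
    T.isBasis_affineOpens.exists_subset_of_mem_open (Set.mem_univ (g y)) isOpen_univ
  obtain ⟨_, ⟨O, hO, rfl⟩, hyO, hOW⟩ :=
    Y.isBasis_affineOpens.exists_subset_of_mem_open (show y ∈ g ⁻¹ᵁ W from hgW) (g ⁻¹ᵁ W).isOpen
  have : IsAffine (O : Scheme.{u}) := hO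
  refine ⟨O, hO, hyO, ?_⟩
  have := PhRefinable.pullback₁ (Y.homOfLE hOW ≫ (g ∣_ W)) (hE.2 ⟨W, hW⟩)
  simpa using this

theorem isPhCover_pullback₁ {T T' : Scheme.{u}} (g : T' ⟶ T) (E : PreZeroHypercover.{w} T)
    (hE : HTop.IsPhCover E) : HTop.IsPhCover (E.pullback₁ g) := by
  refine ⟨fun i => ?_, fun W => ?_⟩
  · have := hE.1 i
    exact inferInstanceAs (LocallyOfFiniteType (pullback.fst g (E.f i)))
  · have : IsAffine ((W : T'.Opens) : Scheme.{u}) := W.2
    obtain ⟨F, hF, hr⟩ := phRefinable_of_isPhCover ((W : T'.Opens).ι ≫ g) hE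
    refine ⟨F, hF, fun k => ?_⟩
    obtain ⟨i, r, hi⟩ := hr k
    exact ⟨i, pullback.lift (F.f k ≫ (W : T'.Opens).ι) r (by rw [hi, Category.assoc]),
      pullback.lift_fst _ _ _⟩

/-- A proper surjective morphism with a cover by pieces of members, followed by ph coverings of the
members, is refinable. -/
theorem phRefinable_bind {Y T : Scheme.{u}} [IsAffine Y] {g : Y ⟶ T}
    {E : PreZeroHypercover.{w} T} (hY : PhRefinable g E)
    (F : ∀ i, PreZeroHypercover.{w'} (E.X i))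
    (hF : ∀ i {Z : Scheme.{u}} [IsAffine Z] (c : Z ⟶ E.X i), PhRefinable c (F i)) :
    PhRefinable g (E.bind F) := by
  obtain ⟨G, hG, hr⟩ := hY
  obtain ⟨U, f, ι, hf, hfs, hι, hfac, hcov⟩ := hG.exists_proper
  have := hf; have := hfs
  refine phRefinable_glue f fun x => ?_
  obtain ⟨k, hk⟩ := hcov x
  have := hι k
  have := hG.isAffine_obj k
  have hO : IsAffineOpen (ι k).opensRange := isAffineOpen_opensRange _
  have : IsAffine ((ι k).opensRange : Scheme.{u}) := hO
  refine ⟨(ι k).opensRange, hO, hk, ?_⟩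
  obtain ⟨i, r, hi⟩ := hr k
  have := (hF i ((ι k).isoOpensRange.inv ≫ r)).of_map (E.f i) (E.bind F)
    fun j => ⟨⟨i, j⟩, 𝟙 _, Category.id_comp _⟩
  rw [Category.assoc, hi, ← hfac, Category.assoc, Scheme.Hom.isoOpensRange_inv_comp_assoc] at this
  exact this

theorem isPhCover_bind {T : Scheme.{u}} (E : PreZeroHypercover.{w} T) (hE : HTop.IsPhCover E)
    (F : ∀ i, PreZeroHypercover.{w'} (E.X i)) (hF : ∀ i, HTop.IsPhCover (F i)) :
    HTop.IsPhCover (E.bind F) := by
  refine ⟨fun k => ?_, fun W => ?_⟩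
  · have := hE.1 k.1
    have := (hF k.1).1 k.2
    exact inferInstanceAs (LocallyOfFiniteType (_ ≫ _))
  · have : IsAffine ((W : T.Opens) : Scheme.{u}) := W.2
    exact phRefinable_bind (hE.2 W) F fun i _ _ c => phRefinable_of_isPhCover c (hF i)

theorem phRefinable_of_isStandardPh {T Z : Scheme.{u}} [IsAffine Z] (c : Z ⟶ T)
    {E : PreZeroHypercover.{w} T} (hE : HTop.IsStandardPh E) : PhRefinable c E := by
  obtain ⟨U, f, ι, hf, hfs, hι, hfac, hcov⟩ := hE.exists_proper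
  have := hf; have := hfs; have := hE.isAffine
  have h0 : PhRefinable (𝟙 T) E := phRefinable_of f fun x => by
    obtain ⟨k, hk⟩ := hcov x
    have := hι k
    refine ⟨(ι k).opensRange, hk, k, (ι k).isoOpensRange.inv, ?_⟩
    rw [← hfac, Scheme.Hom.isoOpensRange_inv_comp_assoc, Category.comp_id]
  simpa using h0.pullback₁ c

theorem PhRefinable.hom {T : Scheme.{u}} {E : PreZeroHypercover.{w} T}
    (h : PhRefinable (𝟙 T) E) :
    ∃ F : PreZeroHypercover.{0} T, HTop.IsStandardPh F ∧ Nonempty (F.Hom E) := by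
  obtain ⟨F, hF, hr⟩ := h
  choose i r hi using hr
  exact ⟨F, hF, ⟨⟨i, r, fun k => (hi k).trans (Category.comp_id _)⟩⟩⟩

theorem phRefinable_openCover {T : Scheme.{u}} [IsAffine T] (𝒰 : Scheme.OpenCover.{w} T) :
    PhRefinable (𝟙 T) 𝒰.toPreZeroHypercover := by
  refine phRefinable_of (𝟙 T) fun x => ?_
  obtain ⟨i, z, hz⟩ := 𝒰.exists_eq x
  have := 𝒰.map_prop i
  exact ⟨(𝒰.f i).opensRange, ⟨z, hz⟩, i, (𝒰.f i).isoOpensRange.inv,
    by simp⟩

end Groth.HTopHyper
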