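import Groth.Agent.BlowUpBasics.Global
import Mathlib.RingTheory.ReesAlgebra
import Mathlib.RingTheory.Finiteness.Prod
import Mathlib.AlgebraicGeometry.ProjectiveSpectrum.Proper
import Mathlib.AlgebraicGeometry.Morphisms.FinitePresentation
import Mathlib.AlgebraicGeometry.Morphisms.ClosedImmersion

/-! Blow-ups in finitely generated ideals are proper. -/

set_option autoImplicit false

universe u

open CategoryTheory CategoryTheory.Limits AlgebraicGeometry Groth.BlowUpBasics

namespace Groth.HTopHyper

variable {A : Type u} [CommRing A]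

theorem finiteType_rees_deg_zero {I : Ideal A} (hI : I.FG) :
    Algebra.FiniteType ↥(Rees.deg (reesAlgebra I) 0) ↥(reesAlgebra I) := by
  have hft : Algebra.FiniteType A ↥(reesAlgebra I) :=
    ⟨(reesAlgebra I).fg_top.mpr (reesAlgebra.fg hI)⟩
  have : IsScalarTower A ↥(Rees.deg (reesAlgebra I) 0) ↥(reesAlgebra I) :=
    IsScalarTower.of_algebraMap_eq (R := A) (S := ↥(Rees.deg (reesAlgebra I) 0))
      (A := ↥(reesAlgebra I)) fun _ => rfl
  exact Algebra.FiniteType.of_restrictScalars_finiteType A _ _

theorem surjective_algebraMap_deg_zero (I : Ideal A) :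
    Function.Surjective (algebraMap A ↥(Rees.deg (reesAlgebra I) 0)) := by
  rintro ⟨f, hf⟩
  refine ⟨(f : Polynomial A).coeff 0, Subtype.ext (Subtype.ext (Polynomial.ext fun m => ?_))⟩
  change (algebraMap A (Polynomial A) ((f : Polynomial A).coeff 0)).coeff m = (f : Polynomial A).coeff m
  rcases eq_or_ne m 0 with rfl | hm
  · simp
  · rw [hf m hm]
    simp [Polynomial.coeff_C, hm]

theorem isProper_projBase {I : Ideal A} (hI : I.FG) : IsProper (projBase I) := by
  have := finiteType_rees_deg_zero hI
  have h1 : IsProper (Proj.toSpecZero (Rees.deg (reesAlgebra I))) := inferInstance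
  unfold projBase
  refine MorphismProperty.comp_mem _ _ _ h1 ?_
  have hc : ∀ {P Q : Scheme.{u}} (f : P ⟶ Q), IsClosedImmersion f → IsProper f :=
    fun f h => inferInstance
  refine hc _ ?_
  apply IsClosedImmersion.spec_of_surjective
  exact surjective_algebraMap_deg_zero I

theorem aff {X : Scheme.{u}} (U : X.affineOpens) : IsAffineOpen (U : X.Opens) := U.2

theorem comap_fromSpec {X : Scheme.{u}} (I : X.IdealSheafData) (U : X.affineOpens) :
    I.comap (aff U).fromSpec = sheafOf (I.ideal U) := by
  refine Scheme.IdealSheafData.ext_of_isAffine ?_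
  have e : (⊤ : (Spec Γ(X, (U : X.Opens))).Opens) ≤ (aff U).fromSpec ⁻¹ᵁ (U : X.Opens) :=
    (aff U).fromSpec_preimage_self.ge
  rw [ideal_comap (aff U).fromSpec I U ⟨⊤, isAffineOpen_top _⟩ e, sheafOf_ideal_top]
  congr 1
  rw [Scheme.Hom.appLE]
  erw [IsAffineOpen.fromSpec_app_self]
  rw [Category.assoc, ← Functor.map_comp]
  erw [CategoryTheory.Functor.map_id, Category.comp_id]
  rfl

theorem isProper_of_isBlowUp {X X' : Scheme.{u}} {b : X' ⟶ X} {I : X.IdealSheafData}
    (hb : BlowUp.IsBlowUp b I) (hI : ∀ U : X.affineOpens, (I.ideal U).FG) : IsProper b := by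
  let 𝒰 : X.OpenCover :=
    ⟨⟨X.affineOpens, fun U => Spec Γ(X, (U : X.Opens)), fun U => (aff U).fromSpec⟩, by
      rw [Scheme.presieve₀_mem_precoverage_iff]
      refine ⟨fun x => ?_, fun U => inferInstanceAs (IsOpenImmersion (aff U).fromSpec)⟩
      obtain ⟨U, hU, hx, -⟩ := X.isBasis_affineOpens.exists_subset_of_mem_open
        (Set.mem_univ x) isOpen_univ
      obtain ⟨U', hU', rfl⟩ := hU
      have haff : IsAffineOpen U' := hU'
      have hx' : x ∈ Set.range haff.fromSpec := by
        rw [IsAffineOpen.range_fromSpec]; exact hx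
      exact ⟨⟨U', hU'⟩, hx'⟩⟩
  rw [IsZariskiLocalAtTarget.iff_of_openCover (P := @IsProper) 𝒰]
  intro U
  change IsProper (pullback.snd b (aff U).fromSpec)
  have h := Groth.Divisors.isBlowUp_flat_pullback (aff U).fromSpec hb
  rw [comap_fromSpec] at h
  obtain ⟨e, he⟩ := exists_iso_of_isBlowUp h (isBlowUp_projBase (I.ideal U))
  have := isProper_projBase (hI U)
  have hp : IsProper (pullback.fst (aff U).fromSpec b) := by rw [← he]; infer_instance
  rw [← pullbackSymmetry_hom_comp_fst]
  infer_instance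

theorem fg_ker_of_closedImmersion {Z X : Scheme.{u}} (i : Z ⟶ X) [IsClosedImmersion i]
    [LocallyOfFinitePresentation i] (U : X.affineOpens) : (i.ker.ideal U).FG := by
  rw [Scheme.Hom.ker_apply]
  have hV : IsAffineOpen (i ⁻¹ᵁ (U : X.Opens)) := U.2.preimage i
  have h := i.finitePresentation_appLE U.2 hV le_rfl
  have hs := i.app_surjective U.1 U.2
  rw [Scheme.Hom.appLE_eq_app] at h
  algebraize [(i.app U.1).hom]
  exact Algebra.FinitePresentation.ker_fG_of_surjective (Algebra.ofId _ _) hs

end Groth.HTopHyper
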