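import Groth.Agent.HTopHyper.VCover
import Groth.Prelude.Def_SGA1

/-! V coverings are universally submersive. -/

set_option autoImplicit false

universe w w' u

open CategoryTheory CategoryTheory.Limits AlgebraicGeometry IsLocalRing

namespace Groth.HTopHyper

theorem isClosed_image_affine {P Y : Scheme.{u}} [IsAffine P] [IsAffine Y] (p : P ⟶ Y) (A : Set P)
    (hA : IsClosed A) (h : StableUnderSpecialization (p '' A)) : IsClosed (p '' A) := by
  let eP := P.isoSpec.hom.homeomorph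
  let eY := Y.isoSpec.hom.homeomorph
  obtain ⟨φ, hφ⟩ := Spec.homEquiv.symm.surjective (P.isoSpec.inv ≫ p ≫ Y.isoSpec.hom)
  have key : ∀ x, Spec.map φ (eP x) = eY (p x) := by
    intro x
    have hφ' : Spec.map φ = P.isoSpec.inv ≫ p ≫ Y.isoSpec.hom := hφ
    show Spec.map φ (P.isoSpec.hom x) = Y.isoSpec.hom (p x)
    rw [← Scheme.Hom.comp_apply, hφ', Iso.hom_inv_id_assoc, Scheme.Hom.comp_apply]
  have himg : Spec.map φ '' (eP '' A) = eY '' (p '' A) := by
    rw [Set.image_image, Set.image_image]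
    exact Set.image_congr' key
  rw [← eY.isClosed_image, ← himg]
  refine PrimeSpectrum.isClosed_image_of_stableUnderSpecialization φ.hom (eP '' A)
    (eP.isClosed_image.mpr hA) ?_
  change StableUnderSpecialization (Spec.map φ '' (eP '' A))
  rw [himg]
  exact h.image eY.isClosedMap.specializingMap

theorem isQuotientMap_of_isVCover {T : Scheme.{u}} {E : PreZeroHypercover.{w} T}
    (hE : HTop.IsVCover E) {P : Scheme.{u}} (p : P ⟶ T)
    (hp : HTop.RefinesOver (𝟙 T) E (PreZeroHypercover.singleton.{w'} p)) :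
    Topology.IsQuotientMap p := by
  have hp' : ∀ i, ∃ r : E.X i ⟶ P, r ≫ p = E.f i := fun i => by
    obtain ⟨-, (r : E.X i ⟶ P), (hr : r ≫ p = E.f i ≫ 𝟙 T)⟩ := hp i
    exact ⟨r, hr.trans (Category.comp_id _)⟩
  choose r hr using hp'
  have hsurj : Function.Surjective p := by
    intro t
    obtain ⟨V, _, _, l, hl, -⟩ := exists_valRing (specializes_refl t)
    obtain ⟨W, _, _, φ, ⟨hinj, -⟩, i, g, hg⟩ := hasValLift_of_isVCover hE V l
    refine ⟨r i (g (genPt W)), ?_⟩
    rw [← Scheme.Hom.comp_apply, hr, ← Scheme.Hom.comp_apply, hg, Scheme.Hom.comp_apply,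
      (specMap_genPt_iff φ).mpr hinj, hl]
  refine Topology.isQuotientMap_iff_isClosed.mpr ⟨hsurj, fun Z => ⟨fun h => h.preimage p.continuous,
    fun hZ => ?_⟩⟩
  rw [(TopologicalSpace.IsOpenCover.isClosed_iff_coe_preimage
    (s := Z) (U := fun U : T.affineOpens => (U : T.Opens))
    (TopologicalSpace.Opens.ext <| Set.eq_univ_of_forall fun t => by
      obtain ⟨U, hU, ht, -⟩ := T.isBasis_affineOpens.exists_subset_of_mem_open
        (Set.mem_univ t) isOpen_univ
      obtain ⟨U', hU', rfl⟩ := hU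
      simp only [TopologicalSpace.Opens.coe_iSup, Set.mem_iUnion]
      exact ⟨⟨U', hU'⟩, ht⟩))]
  intro U
  have : IsAffine ((U : T.Opens) : Scheme.{u}) := U.2
  obtain ⟨F, hF, hFE⟩ := hE U
  have := hF.finite_index
  have := hF.isAffine_obj
  choose i q hq using hFE
  let G : ULift.{u} F.I₀ → Scheme.{u} := fun k => F.X k.down
  have : ∀ k, IsAffine (G k) := fun k => hF.isAffine_obj k.down
  let π : ∐ G ⟶ (U : T.Opens) := Sigma.desc fun k => F.f k.down
  let m : ∐ G ⟶ P := Sigma.desc fun k => q k.down ≫ r (i k.down)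
  have hm : m ≫ p = π ≫ (U : T.Opens).ι := Sigma.hom_ext _ _ fun k => by
    simp only [m, π, Sigma.ι_desc_assoc, Category.assoc]
    rw [hr, hq]
  change IsClosed ((U : T.Opens).ι ⁻¹' Z)
  have hpre : π ⁻¹' ((U : T.Opens).ι ⁻¹' Z) = m ⁻¹' (p ⁻¹' Z) := by
    ext x
    change (U : T.Opens).ι (π x) ∈ Z ↔ p (m x) ∈ Z
    rw [← Scheme.Hom.comp_apply, ← Scheme.Hom.comp_apply, hm]
  have lift : ∀ z' z : ((U : T.Opens) : Scheme.{u}), z' ⤳ z →
      ∃ y' y, y' ⤳ y ∧ π y' = z' ∧ π y = z := by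
    intro z' z h
    obtain ⟨V, _, _, l, hl', hl⟩ := exists_valRing h
    obtain ⟨W, _, _, φ, ⟨hinj, hloc⟩, k, g, hg⟩ := hF.lift V l
    let g₁ : Spec W ⟶ ∐ G := g ≫ Sigma.ι G ⟨k⟩
    have h₁ : g₁ ≫ π = Spec.map φ ≫ l := by
      simp only [g₁, π, Category.assoc, Sigma.ι_desc]
      exact hg
    refine ⟨g₁ (genPt W), g₁ (clPt W), (genPt_specializes _).map g₁.continuous, ?_, ?_⟩
    · rw [← Scheme.Hom.comp_apply, h₁, Scheme.Hom.comp_apply, (specMap_genPt_iff φ).mpr hinj, hl']
    · rw [← Scheme.Hom.comp_apply, h₁, Scheme.Hom.comp_apply,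
        (specMap_closedPoint_iff φ).mpr hloc, hl]
  have hcl : IsClosed (π ⁻¹' ((U : T.Opens).ι ⁻¹' Z)) := hpre ▸ hZ.preimage m.continuous
  have hst : StableUnderSpecialization ((U : T.Opens).ι ⁻¹' Z) := by
    intro z' z h hz'
    obtain ⟨y', y, hy, rfl, rfl⟩ := lift z' z h
    exact hcl.stableUnderSpecialization hy hz'
  have hπ : Function.Surjective π := fun z => by
    obtain ⟨y, -, -, hy, -⟩ := lift z z (specializes_refl z)
    exact ⟨y, hy⟩
  rw [← Set.image_preimage_eq ((U : T.Opens).ι ⁻¹' Z) hπ] at hst ⊢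
  exact isClosed_image_affine π _ hcl hst

theorem univSubmersive_sigmaDesc {X : Scheme.{u}} {E : PreZeroHypercover.{u} X}
    (hE : HTop.IsVCover E) : SGA1.UnivSubmersive (Sigma.desc E.f) := by
  intro P X' a g p sq
  refine isQuotientMap_of_isVCover.{u, 0} (isVCover_pullback₁ g E hE) p fun i => ⟨PUnit.unit,
    sq.lift (pullback.fst g (E.f i)) (pullback.snd g (E.f i) ≫ Sigma.ι E.X i) ?_, ?_⟩
  · exact pullback.condition.trans ((congrArg (_ ≫ ·) (Sigma.ι_desc E.f i).symm).trans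
      (Category.assoc _ _ _).symm)
  · exact (sq.lift_fst _ _ _).trans (Category.comp_id _).symm

end Groth.HTopHyper
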