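import Groth.Agent.HTopHyper.DvrLift
import Groth.Agent.HTopHyper.VSubmersive
import Groth.Agent.Limits.DVRPoints

/-! Valuation lifting over Noetherian schemes from discrete valuation rings and from universal
submersivity. -/

set_option autoImplicit false
set_option backward.isDefEq.respectTransparency false

universe w u

open CategoryTheory CategoryTheory.Limits AlgebraicGeometry

namespace Groth.HTopHyper

/-- The lifting property restricted to discrete valuation rings. -/
def HasDvrLift {T : Scheme.{u}} (E : PreZeroHypercover.{w} T) : Prop :=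
  ∀ (D : CommRingCat.{u}) [IsDomain D] [IsDiscreteValuationRing D] (g : Spec D ⟶ T),
    ∃ (W : CommRingCat.{u}) (_ : IsDomain W) (_ : ValuationRing W) (φ : D ⟶ W),
      HTop.IsExtVal D W φ ∧ ∃ (j : E.I₀) (g' : Spec W ⟶ E.X j), g' ≫ E.f j = Spec.map φ ≫ g

theorem hasValLift_of_hasDvrLift {T : Scheme.{u}} [IsLocallyNoetherian T]
    (E : PreZeroHypercover.{w} T) [Finite E.I₀] (hft : ∀ i, LocallyOfFiniteType (E.f i))
    (hqc : ∀ i, QuasiCompact (E.f i)) (H : HasDvrLift E) : HTop.HasValLift E := by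
  classical
  intro V _ _ g
  obtain ⟨_, ⟨(U : T.Opens), hU, rfl⟩, hxU, -⟩ :=
    T.isBasis_affineOpens.exists_subset_of_mem_open (Set.mem_univ (g (clPt V))) isOpen_univ
  have : IsAffine (U : Scheme.{u}) := hU
  obtain ⟨g₀, hg₀⟩ := exists_lift_openImmersion U.ι g (by simpa using hxU)
  have hb : ∀ i (z : (E.f i ⁻¹ᵁ U : Scheme.{u})), ∃ O : (E.X i).Opens, IsAffineOpen O ∧
      z.1 ∈ O ∧ O ≤ E.f i ⁻¹ᵁ U := fun i z => by
    obtain ⟨_, ⟨O, hO, rfl⟩, hzO, hOU⟩ :=
      (E.X i).isBasis_affineOpens.exists_subset_of_mem_open (show z.1 ∈ E.f i ⁻¹ᵁ U from z.2)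
        (E.f i ⁻¹ᵁ U).isOpen
    exact ⟨O, hO, hzO, hOU⟩
  choose O hO hzO hOU using hb
  have hfin : ∀ i, ∃ s : Finset (E.f i ⁻¹ᵁ U : Scheme.{u}),
      ∀ z : E.X i, z ∈ E.f i ⁻¹ᵁ U → ∃ y ∈ s, z ∈ O i y := fun i => by
    have := hqc i
    obtain ⟨s, hs⟩ := ((E.f i).isCompact_preimage hU.isCompact).elim_finite_subcover
      (fun y => (O i y : Set (E.X i))) (fun y => (O i y).isOpen)
      fun z hz => Set.mem_iUnion.mpr ⟨⟨z, hz⟩, hzO i ⟨z, hz⟩⟩
    exact ⟨s, fun z hz => by simpa using hs hz⟩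
  choose s hs using hfin
  let Q : (Σ i, (s i : Set (E.f i ⁻¹ᵁ U : Scheme.{u}))) → Scheme.{u} := fun p => (O p.1 p.2 : Scheme.{u})
  let f : ∀ p, Q p ⟶ U := fun p => (E.f p.1).resLE U (O p.1 p.2) (hOU p.1 p.2)
  have hQ : ∀ p, IsAffine (Q p) := fun p => hO _ _
  let φ : ∀ p, Γ(U, ⊤) ⟶ Γ(Q p, ⊤) := fun p => (f p).appTop
  have : IsNoetherianRing Γ((U : Scheme.{u}), ⊤) :=
    IsLocallyNoetherian.component_noetherian (X := (U : Scheme.{u})) ⟨⊤, isAffineOpen_top _⟩
  have hφ : ∀ p, (φ p).hom.FiniteType := fun p => by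
    have := hft p.1
    exact (HasRingHomProperty.iff_of_isAffine (P := @LocallyOfFiniteType)).mp
      (inferInstanceAs (LocallyOfFiniteType ((E.f p.1).resLE U (O p.1 p.2) _)))
  have sq : ∀ p, (Q p).isoSpec.hom ≫ Spec.map (φ p) = f p ≫ (U : Scheme.{u}).isoSpec.hom := fun p =>
    Scheme.isoSpec_hom_naturality (f p)
  have hdvr : ∀ (D : CommRingCat.{u}) [IsDomain D] [IsDiscreteValuationRing D] (d : Γ(U, ⊤) ⟶ D),
      ∃ (W : CommRingCat.{u}) (_ : IsDomain W) (_ : IsLocalRing W) (ψ : D ⟶ W),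
        Function.Injective ψ.hom ∧ IsLocalHom ψ.hom ∧
          ∃ (j : _) (χ : Γ(Q j, ⊤) ⟶ W), φ j ≫ χ = d ≫ ψ := fun D _ _ d => by
    let g₁ : Spec D ⟶ U := Spec.map d ≫ (U : Scheme.{u}).isoSpec.inv
    obtain ⟨W, hW, hW', ψ, ⟨hinj, hloc⟩, i, g', hg'⟩ := H D (g₁ ≫ U.ι)
    have hU' : g' (clPt W) ∈ E.f i ⁻¹ᵁ U := by
      show E.f i (g' (clPt W)) ∈ U
      rw [← Scheme.Hom.comp_apply, hg', ← Category.assoc, Scheme.Hom.comp_apply]
      exact ((Spec.map ψ ≫ g₁) (clPt W)).2
    obtain ⟨y, hy, hyz⟩ := hs i _ hU'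
    obtain ⟨l, hl⟩ := exists_lift_openImmersion (O i y).ι g' (by simpa using hyz)
    let p : Σ i, (s i : Set (E.f i ⁻¹ᵁ U : Scheme.{u})) := ⟨i, y, hy⟩
    have h1 : l ≫ f p = Spec.map ψ ≫ g₁ := by
      rw [← cancel_mono U.ι]
      simp only [Category.assoc, f, Scheme.Hom.resLE_comp_ι]
      rw [reassoc_of% hl, hg']
    refine ⟨W, hW, inferInstance, ψ, hinj, hloc, p, Spec.preimage (l ≫ (Q p).isoSpec.hom),
      Spec.map_injective ?_⟩
    rw [Spec.map_comp, Spec.map_comp, Spec.map_preimage, Category.assoc, sq p, reassoc_of% h1]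
    simp [g₁]
  obtain ⟨W, hW, hW', ψ, hψ, p, χ, hχ⟩ := exists_ext_of_dvr φ hφ hdvr V
    (Spec.preimage (g₀ ≫ (U : Scheme.{u}).isoSpec.hom))
  refine ⟨W, hW, hW', ψ, hψ, p.1, Spec.map χ ≫ (Q p).isoSpec.inv ≫ (O p.1 p.2).ι, ?_⟩
  have h1 : Spec.map χ ≫ (Q p).isoSpec.inv ≫ f p = Spec.map ψ ≫ g₀ := by
    rw [← cancel_mono (U : Scheme.{u}).isoSpec.hom]
    simp only [Category.assoc, ← sq, Iso.inv_hom_id_assoc]
    rw [← Spec.map_comp, hχ, Spec.map_comp, Spec.map_preimage]
  have h2 := congrArg (fun q => q ≫ U.ι) h1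
  simp only [Category.assoc, f, Scheme.Hom.resLE_comp_ι, hg₀] at h2
  exact h2

/-- In a base change to a discrete valuation ring a universally submersive quasi-compact morphism
has a specialization over generic and closed point. -/
theorem exists_specializes_of_univSubmersive {P X : Scheme.{u}} (f : P ⟶ X) [QuasiCompact f]
    (hf : SGA1.UnivSubmersive f) (D : CommRingCat.{u}) [IsDomain D] [IsDiscreteValuationRing D]
    (g : Spec D ⟶ X) :
    ∃ x' x : ↑(pullback g f), x' ⤳ x ∧ pullback.fst g f x' = genPt D ∧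
      pullback.fst g f x = clPt D := by
  let p := pullback.fst g f
  have hq : Topology.IsQuotientMap p := hf (pullback.snd g f) g p (IsPullback.of_hasPullback g f)
  have htwo : ∀ z : Spec D, z = genPt D ∨ z = clPt D := fun z => by
    by_cases hz : z.asIdeal = ⊥
    · exact Or.inl (PrimeSpectrum.ext hz)
    · exact Or.inr (PrimeSpectrum.ext (IsLocalRing.eq_maximalIdeal (Ideal.IsPrime.isMaximal z.2 hz)))
  have hne : genPt D ≠ clPt D := fun h =>
    IsDiscreteValuationRing.not_a_field D (congrArg PrimeSpectrum.asIdeal h).symm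
  let G : (Spec D).Opens := ⟨{clPt D}ᶜ, (IsLocalRing.isClosed_singleton_closedPoint D).isOpen_compl⟩
  have hG : ¬ IsClosed (G : Set (Spec D)) := fun hc =>
    (genPt_specializes (clPt D)).mem_closed hc hne rfl
  have hnc : ¬ IsClosed (p ⁻¹' (G : Set (Spec D))) := fun hc => hG (hq.isClosed_preimage.mp hc)
  have : IsNoetherianRing D := inferInstance
  have : QuasiCompact G.ι := inferInstance
  have : CompactSpace (pullback g f : Scheme.{u}) := QuasiCompact.compactSpace_of_compactSpace p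
  by_contra hcon
  push Not at hcon
  apply hnc
  have : QuasiCompact (p ⁻¹ᵁ G).ι :=
    MorphismProperty.of_isPullback (P := @QuasiCompact) (isPullback_morphismRestrict p G) inferInstance
  rw [show p ⁻¹' (G : Set (Spec D)) = Set.range (p ⁻¹ᵁ G).ι from ((p ⁻¹ᵁ G).range_ι).symm]
  refine Groth.Limits.isClosed_range_of_specializes _ fun z y hzy => ?_
  rw [Scheme.Opens.range_ι]
  intro hy
  refine hcon _ _ hzy ((htwo _).resolve_right z.2) ?_
  exact hy

/-- Universally submersive families of finite type lift discrete valuation rings. -/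
theorem hasDvrLift_of_univSubmersive {X : Scheme.{u}} (E : PreZeroHypercover.{u} X)
    [QuasiCompact (Sigma.desc E.f)] (hf : SGA1.UnivSubmersive (Sigma.desc E.f)) : HasDvrLift E := by
  intro D _ _ g
  obtain ⟨x', x, h, h', h₀⟩ := exists_specializes_of_univSubmersive _ hf D g
  obtain ⟨W, hW, hW', φ, hφ, l, hl, -, -⟩ := exists_ext_of_specializes _ h h' h₀
  obtain ⟨j, z, hz⟩ := (sigmaOpenCover E.X).exists_eq ((l ≫ pullback.snd _ _) (clPt W))
  obtain ⟨g', hg'⟩ := exists_lift_openImmersion (Sigma.ι E.X j) (l ≫ pullback.snd _ _) ⟨z, hz⟩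
  refine ⟨W, hW, hW', φ, hφ, j, g', ?_⟩
  have hj : Sigma.ι E.X j ≫ Sigma.desc E.f = E.f j := Sigma.ι_desc E.f j
  rw [← hj, reassoc_of% hg', ← pullback.condition, reassoc_of% hl]

theorem quasiCompact_sigmaDesc {X : Scheme.{u}} (E : PreZeroHypercover.{u} X) [Finite E.I₀]
    [CompactSpace X] [QuasiSeparatedSpace X] [∀ i, QuasiCompact (E.f i)] :
    QuasiCompact (Sigma.desc E.f) := by
  have : ∀ i, CompactSpace (E.X i) := fun i => QuasiCompact.compactSpace_of_compactSpace (E.f i)
  have : CompactSpace ↥(∐ E.X) := (sigmaMk E.X).compactSpace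
  exact quasiCompact_of_compactSpace _

theorem hasValLift_of_univSubmersive {X : Scheme.{u}} [IsNoetherian X]
    (E : PreZeroHypercover.{u} X) [Finite E.I₀] [∀ i, LocallyOfFiniteType (E.f i)]
    [∀ i, QuasiCompact (E.f i)] (hf : SGA1.UnivSubmersive (Sigma.desc E.f)) : HTop.HasValLift E := by
  have := quasiCompact_sigmaDesc E
  exact hasValLift_of_hasDvrLift E inferInstance inferInstance (hasDvrLift_of_univSubmersive E hf)

theorem univSubmersive_iff_dvr_lift {X S : Scheme.{u}} [IsNoetherian S] (f : X ⟶ S)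
    [LocallyOfFiniteType f] [QuasiCompact f] :
    SGA1.UnivSubmersive f ↔ ∀ (R : Type u) [CommRing R] [IsDomain R] [IsDiscreteValuationRing R]
      (g : Spec (CommRingCat.of R) ⟶ S), ∃ (R' : Type u) (_ : CommRing R') (_ : IsDomain R')
        (_ : IsDiscreteValuationRing R') (φ : Spec (CommRingCat.of R') ⟶ Spec (CommRingCat.of R))
        (h : Spec (CommRingCat.of R') ⟶ X), Surjective φ ∧ h ≫ f = φ ≫ g := by
  constructor
  · intro hf R _ _ _ g
    obtain ⟨x', x, h, h', h₀⟩ := exists_specializes_of_univSubmersive f hf (CommRingCat.of R) g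
    have hne : x ≠ x' := fun e => by
      have : genPt (CommRingCat.of R) = clPt (CommRingCat.of R) := h'.symm.trans (e ▸ h₀)
      exact IsDiscreteValuationRing.not_a_field R (congrArg PrimeSpectrum.asIdeal this).symm
    have : IsNoetherianRing (CommRingCat.of R) := inferInstanceAs (IsNoetherianRing R)
    have : IsLocallyNoetherian (pullback g f) :=
      LocallyOfFiniteType.isLocallyNoetherian (pullback.fst g f)
    obtain ⟨A, hA, _, _, e, _, l, hl, hgen⟩ :=
      Groth.Limits.exists_dvr_square (𝟙 (pullback g f)) x' x h hne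
    refine ⟨A, hA, inferInstance, inferInstance, l ≫ pullback.fst g f, l ≫ pullback.snd g f,
      ⟨fun z => ?_⟩, by rw [Category.assoc, Category.assoc, pullback.condition]⟩
    rcases (show z = genPt (CommRingCat.of R) ∨ z = clPt (CommRingCat.of R) by
      by_cases hz : z.asIdeal = ⊥
      · exact Or.inl (PrimeSpectrum.ext hz)
      · exact Or.inr (PrimeSpectrum.ext
          (IsLocalRing.eq_maximalIdeal (Ideal.IsPrime.isMaximal z.2 hz)))) with rfl | rfl
    · refine ⟨Groth.Limits.genericPointMap A (IsLocalRing.closedPoint _), ?_⟩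
      rw [Scheme.Hom.comp_apply, ← Scheme.Hom.comp_apply _ l, hgen, Scheme.Hom.comp_apply,
        Scheme.Hom.comp_apply, Scheme.fromSpecResidueField_apply]
      exact h'
    · exact ⟨IsLocalRing.closedPoint A, by rw [Scheme.Hom.comp_apply, hl]; exact h₀⟩
  · intro H
    let E : PreZeroHypercover.{u} S := PreZeroHypercover.singleton.{u} f
    have : Finite E.I₀ := inferInstanceAs (Finite PUnit)
    have hV : HTop.HasValLift E :=
      hasValLift_of_hasDvrLift E (fun _ => ‹LocallyOfFiniteType f›) (fun _ => ‹QuasiCompact f›)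
        fun D _ _ g => by
      obtain ⟨R', _, _, _, φ, h, hφ, hh⟩ := H D g
      refine ⟨CommRingCat.of R', inferInstanceAs (IsDomain R'), inferInstanceAs (ValuationRing R'),
        Spec.preimage φ, ⟨?_, ?_⟩, PUnit.unit, h, by rw [Spec.map_preimage]; exact hh⟩
      · rw [← specMap_genPt_iff, Spec.map_preimage]
        obtain ⟨w, hw⟩ := φ.surjective (genPt D)
        exact (genPt_specializes (φ (genPt (CommRingCat.of R')))).antisymm
          (hw ▸ (genPt_specializes w).map φ.continuous) |>.eq.symm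
      · rw [← specMap_closedPoint_iff, Spec.map_preimage]
        obtain ⟨w, hw⟩ := φ.surjective (clPt D)
        exact (specializes_clPt (φ (clPt (CommRingCat.of R')))).antisymm
          (hw ▸ (specializes_clPt w).map φ.continuous) |>.eq
    have hu := univSubmersive_sigmaDesc (isVCover_of_hasValLift (fun _ => ‹QuasiCompact f›) hV)
    intro P' X' a b p sq
    let e : X ≅ ∐ E.X :=
      { hom := Sigma.ι E.X PUnit.unit, inv := Sigma.desc fun _ => 𝟙 X }
    refine hu (a ≫ e.hom) b p (sq.of_iso (Iso.refl _) (Iso.refl _) e (Iso.refl _) ?_ ?_ ?_ ?_)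
    all_goals simp [e, E]

end Groth.HTopHyper
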