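import Groth.Agent.LocImm.AICCover
import Groth.Agent.LocImm.FppfRefine
import Groth.Agent.Rat20Ext.Algebra
import Groth.Agent.HTopHyper.DvrLiftGeom
import Mathlib.RingTheory.QuasiFinite.Basic

/-!
A qfh covering of a Noetherian scheme is refined by a finite surjection followed by a Zariski
covering.
-/

universe u

open CategoryTheory CategoryTheory.Limits AlgebraicGeometry
open scoped TensorProduct

set_option backward.isDefEq.respectTransparency false

namespace Groth.HTopHyper.QfhRefine

/-- A quasi-finite finite type algebra with a point in a dominating local domain has a point in a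
normal local domain with algebraically closed fraction field. -/
theorem exists_algHom_of_point {R L B : Type u} [CommRing R] [CommRing L] [IsDomain L] [IsLocalRing L]
    [IsIntegrallyClosed L] [Algebra R L] (K : Type u) [Field K] [IsAlgClosed K] [Algebra L K]
    [IsFractionRing L K] [CommRing B] [Algebra R B] [Algebra.FiniteType R B] [Algebra.QuasiFinite R B]
    {W : Type u} [CommRing W] [IsDomain W] [IsLocalRing W] (θ : L →+* W) (hθ : Function.Injective θ)
    [IsLocalHom θ] (ψ : B →+* W) (hψ : ψ.comp (algebraMap R B) = θ.comp (algebraMap R L)) :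
    Nonempty (B →ₐ[R] L) := by
  letI := θ.toAlgebra
  letI : Algebra R W := (θ.comp (algebraMap R L)).toAlgebra
  haveI : IsScalarTower R L W := IsScalarTower.of_algebraMap_eq fun _ => rfl
  let F := FractionRing W
  let θF : L →+* F := (algebraMap W F).comp θ
  have hθF : Function.Injective θF := (IsFractionRing.injective W F).comp hθ
  let κ : K →+* F := IsFractionRing.lift hθF
  letI := κ.toAlgebra
  haveI : IsScalarTower L K F := IsScalarTower.of_algebraMap_eq fun x => by
    rw [IsScalarTower.algebraMap_apply L W F]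
    exact (IsFractionRing.lift_algebraMap hθF x).symm
  letI : Algebra R K := ((algebraMap L K).comp (algebraMap R L)).toAlgebra
  haveI : IsScalarTower R L K := IsScalarTower.of_algebraMap_eq fun _ => rfl
  haveI : IsScalarTower R K F := IsScalarTower.of_algebraMap_eq fun x => by
    rw [IsScalarTower.algebraMap_apply R W F]
    exact (IsScalarTower.algebraMap_apply L K F (algebraMap R L x)).symm.trans rfl |>.symm
  let ψ' : B →ₐ[R] W := { ψ with commutes' := fun r => RingHom.congr_fun hψ r }
  let ev : L ⊗[R] B →ₐ[L] W :=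
    Algebra.TensorProduct.lift (Algebra.ofId L W) ψ' fun _ _ => Commute.all _ _
  let evF : L ⊗[R] B →ₐ[L] F := (IsScalarTower.toAlgHom L W F).comp ev
  let evK : K ⊗[R] B →ₐ[K] F := Algebra.TensorProduct.lift (Algebra.ofId K F)
    ((IsScalarTower.toAlgHom R W F).comp ψ') fun _ _ => Commute.all _ _
  haveI : Module.Finite K (K ⊗[R] B) := Module.Finite.of_quasiFinite
  have hK : ∀ b : B, ∃ x : K, algebraMap K F x = algebraMap W F (ψ b) := fun b => by
    have hint : IsIntegral K (algebraMap W F (ψ b)) := by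
      have h := (Algebra.IsIntegral.isIntegral (R := K) ((1 : K) ⊗ₜ[R] b)).map evK
      simpa [evK, ψ'] using h
    have hd := IsAlgClosed.degree_eq_one_of_irreducible K (minpoly.irreducible hint)
    exact minpoly.mem_range_of_degree_eq_one K _ hd
  have hrange : ∀ t, evF t ∈ (IsScalarTower.toAlgHom L K F).range := fun t => by
    induction t using TensorProduct.induction_on with
    | zero => rw [map_zero]; exact zero_mem _
    | add x y hx hy => rw [map_add]; exact add_mem hx hy
    | tmul a b =>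
      obtain ⟨x, hx⟩ := hK b
      refine ⟨algebraMap L K a * x, ?_⟩
      show algebraMap K F (algebraMap L K a * x) = evF (a ⊗ₜ[R] b)
      rw [map_mul, ← IsScalarTower.algebraMap_apply, hx]
      simp [evF, ev, ψ', IsScalarTower.algebraMap_apply L W F]
  let g : L ⊗[R] B →ₐ[L] K :=
    (AlgEquiv.ofInjective (IsScalarTower.toAlgHom L K F) κ.injective).symm.toAlgHom.comp
      (evF.codRestrict _ hrange)
  have hg : ∀ t, algebraMap K F (g t) = algebraMap W F (ev t) := fun t =>
    congrArg Subtype.val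
      ((AlgEquiv.ofInjective (IsScalarTower.toAlgHom L K F) κ.injective).apply_symm_apply _)
  let C : Subalgebra L K := g.range
  haveI : Algebra.FiniteType L C :=
    Algebra.FiniteType.of_surjective g.rangeRestrict g.rangeRestrict_surjective
  haveI : Algebra.QuasiFinite L C :=
    Algebra.QuasiFinite.of_surjective_algHom g.rangeRestrict g.rangeRestrict_surjective
  -- the map `C → W`
  have hCW : ∀ c : C, ∃ w : W, algebraMap W F w = algebraMap K F c.1 := by
    rintro ⟨_, t, rfl⟩
    exact ⟨ev t, (hg t).symm⟩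
  choose w hw using hCW
  have winj := IsFractionRing.injective W F
  let ω : C →+* W :=
    { toFun := w
      map_one' := winj (by rw [hw, map_one]; simp)
      map_mul' := fun a b => winj (by rw [map_mul, hw, hw, hw]; simp)
      map_zero' := winj (by rw [hw, map_zero]; simp)
      map_add' := fun a b => winj (by rw [map_add, hw, hw, hw]; simp) }
  let P : Ideal C := (IsLocalRing.maximalIdeal W).comap ω
  have hP : P.comap (algebraMap L C) = IsLocalRing.maximalIdeal L := by
    rw [Ideal.comap_comap]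
    have : ω.comp (algebraMap L C) = θ := RingHom.ext fun a => winj (by
      show algebraMap W F (w (algebraMap L C a)) = _
      rw [hw]
      exact (IsScalarTower.algebraMap_apply L K F a).symm.trans (IsScalarTower.algebraMap_apply L W F a))
    rw [this]
    exact ((IsLocalRing.local_hom_TFAE θ).out 0 4).mp ‹_›
  have hmem : ∀ b : B, ∃ a : L, θ a = ψ b := fun b => by
    obtain ⟨a, ha⟩ := Groth.Rat20Ext.mem_range_of_quasiFiniteAt (A := L) C P hP
      ⟨g (1 ⊗ₜ b), _, rfl⟩
    refine ⟨a, winj ?_⟩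
    have h1 : algebraMap W F (ev (1 ⊗ₜ b)) = algebraMap W F (ψ b) := by simp [ev, ψ']
    rw [← h1, ← hg, show g (1 ⊗ₜ b) = algebraMap L K a from ha.symm]
    exact (IsScalarTower.algebraMap_apply L W F a).symm.trans (IsScalarTower.algebraMap_apply L K F a)
  choose a ha using hmem
  exact ⟨{ toFun := a
           map_one' := hθ (by rw [ha, map_one, map_one])
           map_mul' := fun x y => hθ (by rw [ha, map_mul, map_mul, ha, ha])
           map_zero' := hθ (by rw [ha, map_zero, map_zero])
           map_add' := fun x y => hθ (by rw [ha, map_add, map_add, ha, ha])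
           commutes' := fun r => hθ (by rw [ha]; exact RingHom.congr_fun hψ r) }⟩

/-- Zariski local algebra points of an integral algebra descend to a finite subalgebra. -/
theorem exists_finite_subalgebra_sections {R C : Type u} [CommRing R] [CommRing C] [Algebra R C]
    [Algebra.IsIntegral R C] {ι : Type*} (B : ι → Type u) [∀ i, CommRing (B i)] [∀ i, Algebra R (B i)]
    [∀ i, Algebra.FiniteType R (B i)]
    (h : ∀ (q : Ideal C) [q.IsPrime], ∃ i, ∃ g ∉ q, Nonempty (B i →ₐ[R] Localization.Away g)) :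
    ∃ C₀ : Subalgebra R C, Module.Finite R C₀ ∧
      ∀ (p : Ideal C₀) [p.IsPrime], ∃ i, ∃ g ∉ p, Nonempty (B i →ₐ[R] Localization.Away g) := by
  classical
  choose i g hg φ using fun q : PrimeSpectrum C => h q.asIdeal
  replace φ := fun q => (φ q).some
  have htop : Ideal.span (Set.range g) = ⊤ := by
    by_contra hne
    obtain ⟨M, hM, hle⟩ := Ideal.exists_le_maximal _ hne
    exact hg ⟨M, hM.isPrime⟩ (hle (Ideal.subset_span ⟨_, rfl⟩))
  obtain ⟨a, ha⟩ := Finsupp.mem_span_range_iff_exists_finsupp.1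
    ((Ideal.eq_top_iff_one _).1 htop : (1 : C) ∈ Submodule.span C (Set.range g))
  choose s hs using fun j => (inferInstance : Algebra.FiniteType R (B j)).out
  choose z hz using fun (q : PrimeSpectrum C) (b : B (i q)) =>
    IsLocalization.surj (Submonoid.powers (g q)) (φ q b)
  let S : Finset C := a.support.image g ∪ a.support.image a ∪
    a.support.biUnion (fun q => (s (i q)).image fun b => (z q b).1)
  let C₀ : Subalgebra R C := Algebra.adjoin R (S : Set C)
  have hfin : Module.Finite R C₀ := Module.Finite.iff_fg.2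
    (fg_adjoin_of_finite S.finite_toSet fun x _ => Algebra.IsIntegral.isIntegral x)
  refine ⟨C₀, hfin, fun p _ => ?_⟩
  have hmS : ∀ x ∈ S, x ∈ C₀ := fun x hx => Algebra.subset_adjoin hx
  have hgm : ∀ q ∈ a.support, g q ∈ C₀ := fun q hq => hmS _ (by
    simp only [S, Finset.mem_union, Finset.mem_image]; exact Or.inl (Or.inl ⟨q, hq, rfl⟩))
  have ham : ∀ q, a q ∈ C₀ := fun q => by
    by_cases hq : q ∈ a.support
    · exact hmS _ (by simp only [S, Finset.mem_union, Finset.mem_image]; exact Or.inl (Or.inr ⟨q, hq, rfl⟩))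
    · rw [Finsupp.notMem_support_iff.1 hq]; exact zero_mem _
  obtain ⟨q, hq, hqp⟩ : ∃ q, ∃ hq : q ∈ a.support, (⟨g q, hgm q hq⟩ : C₀) ∉ p := by
    by_contra! hall
    refine (inferInstance : p.IsPrime).ne_top ((Ideal.eq_top_iff_one p).2 ?_)
    have : (1 : C₀) = ∑ q ∈ a.support.attach, (⟨a q, ham q⟩ : C₀) * ⟨g q, hgm q q.2⟩ := by
      refine Subtype.ext ?_
      rw [AddSubmonoidClass.coe_finsetSum, OneMemClass.coe_one, ← ha, Finsupp.sum]
      exact (Finset.sum_attach a.support fun q => a q • g q).symm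
    rw [this]
    exact Ideal.sum_mem _ fun q _ => p.mul_mem_left _ (hall q q.2)
  let g₀ : C₀ := ⟨g q, hgm q hq⟩
  haveI : IsLocalization.Away (C₀.val g₀) (Localization.Away (g q)) :=
    inferInstanceAs (IsLocalization.Away (g q) (Localization.Away (g q)))
  let l : Localization.Away g₀ →+* Localization.Away (g q) :=
    IsLocalization.Away.map _ _ C₀.val.toRingHom g₀
  have hl : ∀ x, l (algebraMap C₀ _ x) = algebraMap C _ (x : C) := fun x => IsLocalization.map_eq _ x
  let lA : Localization.Away g₀ →ₐ[R] Localization.Away (g q) :=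
    { toRingHom := l
      commutes' := fun r => by
        show l (algebraMap R _ r) = _
        rw [IsScalarTower.algebraMap_apply R C₀ (Localization.Away g₀), hl,
          IsScalarTower.algebraMap_apply R C (Localization.Away (g q))]
        rfl }
  have hlinj : Function.Injective lA := by
    refine (injective_iff_map_eq_zero l).2 fun x hx => ?_
    obtain ⟨⟨c, _, k, rfl⟩, hc⟩ := IsLocalization.surj (Submonoid.powers g₀) x
    have h0 : algebraMap C (Localization.Away (g q)) (c : C) = 0 := by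
      rw [← hl, ← hc, map_mul, hx, zero_mul]
    obtain ⟨⟨_, m, rfl⟩, hm⟩ := (IsLocalization.map_eq_zero_iff (Submonoid.powers (g q)) _ _).1 h0
    have hc0 : algebraMap C₀ (Localization.Away g₀) c = 0 :=
      (IsLocalization.map_eq_zero_iff (Submonoid.powers g₀) _ _).2
        ⟨⟨_, m, rfl⟩, Subtype.ext (by simpa using hm)⟩
    rw [hc0] at hc
    exact (IsLocalization.map_units (Localization.Away g₀) (⟨_, k, rfl⟩ : Submonoid.powers g₀)).mul_left_eq_zero.1 hc
  have hrange : ∀ b, φ q b ∈ lA.range := by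
    intro b
    have hle : (⊤ : Subalgebra R (B (i q))) ≤ lA.range.comap (φ q) := by
      rw [← hs (i q), Algebra.adjoin_le_iff]
      intro b hb
      obtain ⟨⟨_, k, hk⟩, hzb⟩ : ∃ t : Submonoid.powers (g q), t = (z q b).2 := ⟨_, rfl⟩
      have hc : (z q b).1 ∈ C₀ := hmS _ (by
        simp only [S, Finset.mem_union, Finset.mem_biUnion, Finset.mem_image]
        exact Or.inr ⟨q, hq, b, hb, rfl⟩)
      refine ⟨IsLocalization.mk' _ (⟨_, hc⟩ : C₀) (⟨g₀ ^ k, Submonoid.pow_mem _ (Submonoid.mem_powers g₀) k⟩ : Submonoid.powers g₀), ?_⟩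
      refine (IsLocalization.map_units (Localization.Away (g q)) (z q b).2).mul_right_cancel ?_
      refine Eq.trans ?_ (hz q b).symm
      rw [← hzb]
      show l (IsLocalization.mk' _ _ _) * algebraMap C _ _ = _
      have e : (((g₀ ^ k : C₀)) : C) = g q ^ k := rfl
      subst hk
      show l (IsLocalization.mk' _ _ _) * algebraMap C _ (g q ^ k) = _
      rw [← e, ← hl, ← map_mul, IsLocalization.mk'_spec, hl]
    exact hle trivial
  exact ⟨i q, g₀, hqp,
    ⟨(AlgEquiv.ofInjective lA hlinj).symm.toAlgHom.comp ((φ q).codRestrict lA.range hrange)⟩⟩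

open Groth.LocImmersion in
/-- In an absolutely integrally closed ring every localization at a prime is a normal domain with
algebraically closed fraction field. -/
theorem isAlgClosed_fractionRing {C : Type u} [CommRing C]
    (hroot : ∀ P : Polynomial C, P.Monic → P.natDegree ≠ 0 → ∃ c, P.eval c = 0)
    (q : Ideal C) [q.IsPrime] [IsDomain (Localization.AtPrime q)] :
    IsAlgClosed (FractionRing (Localization.AtPrime q)) ∧ IsIntegrallyClosed (Localization.AtPrime q) := by
  let L := Localization.AtPrime q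
  let K := FractionRing L
  let K' := AlgebraicClosure K
  have key : ∀ w : K', IsIntegral L w → w ∈ Set.range (algebraMap L K') := fun w hw => by
    obtain ⟨s, hs⟩ := IsIntegral.exists_multiple_integral_of_isLocalization q.primeCompl w hw
    obtain ⟨c, hc⟩ := AICAlgebra.mem_range_of_isIntegral hroot hs
    refine ⟨IsLocalization.mk' L c s, ?_⟩
    refine ((IsLocalization.map_units L s).map (algebraMap L K')).mul_right_cancel ?_
    rw [← map_mul, IsLocalization.mk'_spec, ← IsScalarTower.algebraMap_apply, hc,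
      Submonoid.smul_def, Algebra.smul_def, ← IsScalarTower.algebraMap_apply, mul_comm]
  have hsurj : Function.Surjective (algebraMap K K') := fun w => by
    have halg : IsAlgebraic L w :=
      (IsFractionRing.isAlgebraic_iff L K K').2 (Algebra.IsAlgebraic.isAlgebraic w)
    obtain ⟨b, hb, hbw⟩ := halg.exists_integral_multiple
    obtain ⟨a, ha⟩ := key _ hbw
    refine ⟨algebraMap L K a / algebraMap L K b, ?_⟩
    have hb' : algebraMap L K' b ≠ 0 := by
      rw [IsScalarTower.algebraMap_apply L K K']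
      simpa using hb
    rw [map_div₀, ← IsScalarTower.algebraMap_apply, ← IsScalarTower.algebraMap_apply, ha,
      Algebra.smul_def, mul_div_cancel_left₀ _ hb']
  refine ⟨IsAlgClosed.of_ringEquiv K' K
    (RingEquiv.ofBijective (algebraMap K K') ⟨(algebraMap K K').injective, hsurj⟩).symm,
    (isIntegrallyClosed_iff K).2 fun {x} hx => ?_⟩
  obtain ⟨a, ha⟩ := key _ (hx.map (IsScalarTower.toAlgHom L K K'))
  exact ⟨a, (algebraMap K K').injective ((IsScalarTower.algebraMap_apply L K K' a).symm.trans ha)⟩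

set_option maxHeartbeats 1600000 in
open Groth.LocImmersion Groth.LocImmersion.EtaleDominate in
/-- The affine local solution: a finite surjection lifting Zariski locally to the members. -/
theorem exists_affine_of_aic {Y : Scheme.{u}} [IsNoetherian Y] (E : PreZeroHypercover.{u} Y)
    [∀ j, LocallyOfFiniteType (E.f j)] [∀ j, LocallyQuasiFinite (E.f j)]
    (hval : HTop.HasValLift E) {X₀ : Y.Opens} (hX₀ : IsAffineOpen X₀)
    (C : Type u) [CommRing C] [Algebra Γ(Y, X₀) C] [Algebra.IsIntegral Γ(Y, X₀) C]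
    (hroot : ∀ P : Polynomial C, P.Monic → P.natDegree ≠ 0 → ∃ c, P.eval c = 0)
    (hdom : ∀ a b : C, a * b = 0 → ∃ e : C, e * e = e ∧ e * a = a ∧ e * b = 0)
    (hsurj : ∀ p : PrimeSpectrum Γ(Y, X₀), ∃ (P : Ideal C) (_ : P.IsPrime),
      P.comap (algebraMap Γ(Y, X₀) C) = p.asIdeal) :
    ∃ (Y₀ : Scheme.{u}) (p : Y₀ ⟶ (X₀ : Scheme.{u})), IsFinite p ∧ LocallyOfFinitePresentation p ∧
      Surjective p ∧ ∀ y, Lifts (Sigma.desc E.f) (p ≫ X₀.ι) y := by
  haveI : IsNoetherianRing Γ(Y, X₀) := IsLocallyNoetherian.component_noetherian ⟨X₀, hX₀⟩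
  let ι := Σ j : E.I₀, {U : (E.X j).affineOpens // (U : (E.X j).Opens) ≤ E.f j ⁻¹ᵁ X₀}
  let B : ι → Type u := fun k => Γ(E.X k.1, (k.2.1 : (E.X k.1).Opens))
  letI : ∀ k : ι, CommRing (B k) := fun k => inferInstanceAs (CommRing Γ(E.X k.1, (k.2.1 : (E.X k.1).Opens)))
  letI : ∀ k : ι, Algebra Γ(Y, X₀) (B k) := fun k => ((E.f k.1).appLE X₀ k.2.1 k.2.2).hom.toAlgebra
  haveI : ∀ k : ι, Algebra.FiniteType Γ(Y, X₀) (B k) := fun k =>
    RingHom.finiteType_algebraMap.1 ((E.f k.1).finiteType_appLE hX₀ k.2.1.2 k.2.2)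
  haveI : ∀ k : ι, Algebra.QuasiFinite Γ(Y, X₀) (B k) := fun k =>
    RingHom.quasiFinite_algebraMap.1 (LocallyQuasiFinite.quasiFinite_appLE hX₀ k.2.1.2 k.2.2)
  have hsec : ∀ (q : Ideal C) [q.IsPrime],
      ∃ i, ∃ g ∉ q, Nonempty (B i →ₐ[Γ(Y, X₀)] Localization.Away g) := by
    intro q hq
    let L := Localization.AtPrime q
    haveI hdomL : IsDomain L := AICAlgebra.isDomain_localization hdom q
    obtain ⟨hK, hic⟩ := isAlgClosed_fractionRing hroot q
    obtain ⟨V, hV, hVloc⟩ := IsLocalRing.exists_factor_valuationRing (algebraMap L (FractionRing L))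
    let θ₀ : L →+* V := (algebraMap L (FractionRing L)).codRestrict _ hV
    obtain ⟨W, _, _, φ, ⟨hφinj, hφloc⟩, j, g', hg'⟩ := hval (CommRingCat.of V)
      (Spec.map (CommRingCat.ofHom (θ₀.comp (algebraMap Γ(Y, X₀) L))) ≫ hX₀.fromSpec)
    have hcl : g' (clPt W) ∈ E.f j ⁻¹ᵁ X₀ := by
      show E.f j (g' (clPt W)) ∈ X₀
      rw [← Scheme.Hom.comp_apply, hg', ← Category.assoc, Scheme.Hom.comp_apply]
      exact hX₀.range_fromSpec.le ⟨_, rfl⟩
    obtain ⟨U, hU, hxU, hUle⟩ := exists_isAffineOpen_mem_and_subset hcl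
    obtain ⟨l, hl⟩ := exists_lift_openImmersion hU.fromSpec g'
      (hU.range_fromSpec.ge hxU)
    obtain ⟨ψ, rfl⟩ := Spec.map_surjective l
    have hψ : (E.f j).appLE X₀ U hUle ≫ ψ =
        CommRingCat.ofHom (θ₀.comp (algebraMap Γ(Y, X₀) L)) ≫ φ := by
      apply Spec.map_injective
      rw [← cancel_mono hX₀.fromSpec, Spec.map_comp, Spec.map_comp, Category.assoc, Category.assoc,
        hX₀.SpecMap_appLE_fromSpec (E.f j) hU hUle, ← Category.assoc, hl, hg']
    haveI : IsLocalHom θ₀ := hVloc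
    haveI := hφloc
    let i : ι := ⟨j, ⟨U, hU⟩, hUle⟩
    obtain ⟨σ⟩ := exists_algHom_of_point (R := Γ(Y, X₀)) (L := L) (B := B i) (FractionRing L)
      (W := W) (φ.hom.comp θ₀) (hφinj.comp fun a b h => IsFractionRing.injective L (FractionRing L) (congrArg Subtype.val h))
      ψ.hom (RingHom.ext fun r => congr($hψ r))
    haveI : Algebra.FinitePresentation Γ(Y, X₀) (B i) :=
      Algebra.FinitePresentation.of_finiteType.1 inferInstance
    obtain ⟨g, hg, τ, -⟩ := Groth.HensPair.exists_factor_away (A := Γ(Y, X₀)) (P := C) q.primeCompl σ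
    exact ⟨i, g, hg, ⟨τ⟩⟩
  obtain ⟨C₀, hfin, hloc⟩ := exists_finite_subalgebra_sections B hsec
  have hfp : Algebra.FinitePresentation Γ(Y, X₀) C₀ :=
    Algebra.FinitePresentation.of_finiteType.1 (inferInstance : Algebra.FiniteType Γ(Y, X₀) C₀)
  let a : Γ(Y, X₀) ⟶ CommRingCat.of C₀ := CommRingCat.ofHom (algebraMap Γ(Y, X₀) C₀)
  haveI : IsFinite (Spec.map a) := (IsFinite.SpecMap_iff a).mpr (RingHom.finite_algebraMap.mpr hfin)
  haveI : LocallyOfFinitePresentation (Spec.map a) :=
    (LocallyOfFinitePresentation.SpecMap_iff _).mpr (RingHom.finitePresentation_algebraMap.mpr hfp)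
  haveI : Surjective (Spec.map a) := by
    refine ⟨fun p => ?_⟩
    obtain ⟨P, hP, hPp⟩ := hsurj p
    exact ⟨⟨P.comap C₀.val.toRingHom, Ideal.comap_isPrime _ _⟩, PrimeSpectrum.ext hPp⟩
  refine ⟨Spec (.of C₀), Spec.map a ≫ hX₀.isoSpec.inv, inferInstance, inferInstance, inferInstance,
    fun y => ?_⟩
  obtain ⟨i, c, hc, ⟨ψ⟩⟩ := hloc y.asIdeal
  let loc : CommRingCat.of C₀ ⟶ CommRingCat.of (Localization.Away c) :=
    CommRingCat.ofHom (algebraMap C₀ (Localization.Away c))
  haveI : IsOpenImmersion (Spec.map loc) := IsOpenImmersion.of_isLocalization c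
  obtain ⟨z, hz⟩ : y ∈ Set.range (Spec.map loc) :=
    (PrimeSpectrum.localization_away_comap_range (Localization.Away c) c).ge hc
  rw [← hz]
  refine lifts_of_isOpenImmersion _ (Spec.map loc) _ z (lifts_of_hom _ _ z
    (Spec.map (CommRingCat.ofHom (ψ : B i →+* Localization.Away c)) ≫ i.2.1.2.fromSpec ≫ Sigma.ι E.X i.1) ?_)
  have hψ : a ≫ loc = (E.f i.1).appLE X₀ i.2.1 i.2.2 ≫
      CommRingCat.ofHom (ψ : B i →+* Localization.Away c) := by
    ext r
    show algebraMap C₀ (Localization.Away c) (algebraMap Γ(Y, X₀) C₀ r) = ψ (algebraMap Γ(Y, X₀) (B i) r)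
    rw [← IsScalarTower.algebraMap_apply]
    exact (ψ.commutes r).symm
  simp only [Category.assoc, Sigma.ι_desc]
  rw [hX₀.isoSpec_inv_ι, ← Spec.map_comp_assoc, hψ, Spec.map_comp, Category.assoc,
    hX₀.SpecMap_appLE_fromSpec (E.f i.1) i.2.1.2 i.2.2]

open Groth.LocImmersion Groth.LocImmersion.EtaleDominate in
/-- The affine local solution: a finite surjection lifting Zariski locally to the members. -/
theorem exists_affine {Y : Scheme.{u}} [IsNoetherian Y] (E : PreZeroHypercover.{u} Y)
    [∀ j, LocallyOfFiniteType (E.f j)] [∀ j, LocallyQuasiFinite (E.f j)]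
    (hval : HTop.HasValLift E) {X₀ : Y.Opens} (hX₀ : IsAffineOpen X₀) :
    ∃ (Y₀ : Scheme.{u}) (p : Y₀ ⟶ (X₀ : Scheme.{u})), IsFinite p ∧ LocallyOfFinitePresentation p ∧
      Surjective p ∧ ∀ y, Lifts (Sigma.desc E.f) (p ≫ X₀.ι) y := by
  refine exists_affine_of_aic E hval hX₀ (AICCover.A Y X₀) AICCover.exists_root
    AICCover.exists_idempotent fun p => ?_
  let s : Y := hX₀.fromSpec p
  have hs : s ∈ X₀ := hX₀.range_fromSpec.le ⟨_, rfl⟩
  let ε : AICCover.A Y X₀ →+* AICCover.Ω Y s :=
    (Pi.evalRingHom (fun t : X₀ => AICCover.Ω Y t.1) ⟨s, hs⟩).comp (AICCover.A Y X₀).val.toRingHom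
  have hp : hX₀.primeIdealOf ⟨s, hs⟩ = p :=
    hX₀.fromSpec.isOpenEmbedding.injective (hX₀.fromSpec_primeIdealOf ⟨s, hs⟩)
  refine ⟨RingHom.ker ε, RingHom.ker_isPrime ε, Ideal.ext fun x => ?_⟩
  rw [← hp, ← Groth.Flatmor4.evaluation_eq_zero_iff hX₀ hs]
  show ε (algebraMap Γ(Y, X₀) (AICCover.A Y X₀) x) = 0 ↔ _
  exact map_eq_zero_iff _ (algebraMap (Y.residueField s) (AICCover.Ω Y s)).injective

open Groth.LocImmersion Groth.LocImmersion.EtaleDominate in
/-- A family of quasi-finite finite type morphisms with the valuative lifting property is refined by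
a finite surjection followed by a finite Zariski covering. -/
theorem exists_finite_refinement {Y : Scheme.{u}} [IsNoetherian Y] (E : PreZeroHypercover.{u} Y)
    [∀ j, LocallyOfFiniteType (E.f j)] [∀ j, LocallyQuasiFinite (E.f j)]
    (hval : HTop.HasValLift E) :
    ∃ (Y' : Scheme.{u}) (p : Y' ⟶ Y) (n : ℕ) (V : Fin n → Y'.Opens), IsFinite p ∧ Surjective p ∧
      ⨆ i, V i = ⊤ ∧
      ∀ i, ∃ (j : E.I₀) (h : (↑(V i) : Scheme.{u}) ⟶ E.X j), h ≫ E.f j = (V i).ι ≫ p := by
  classical
  obtain ⟨Y', p, hp, hfin, -, hlift⟩ := exists_dominating_of_local (Sigma.desc E.f) fun x => by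
    obtain ⟨X₀, hX₀, hx, -⟩ := exists_isAffineOpen_mem_and_subset (x := x) (U := ⊤) trivial
    exact ⟨X₀, hX₀, hx, exists_affine E hval hX₀⟩
  have hloc : ∀ y : Y', ∃ (O : Y'.Opens) (j : E.I₀) (k : (O : Scheme.{u}) ⟶ E.X j),
      y ∈ O ∧ k ≫ E.f j = O.ι ≫ p := fun y => by
    obtain ⟨V, h, hy, hh⟩ := hlift y
    obtain ⟨O, hle, j, k, -, hyO, hk⟩ := FppfRefine.exists_component E.X h hy
    refine ⟨O, j, k, hyO, ?_⟩
    have hj : Sigma.ι E.X j ≫ Sigma.desc E.f = E.f j := Sigma.ι_desc E.f j
    rw [← hj, reassoc_of% hk, hh, Scheme.homOfLE_ι_assoc]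
  choose O j k hyO hk using hloc
  haveI : CompactSpace Y' := QuasiCompact.compactSpace_of_compactSpace p
  obtain ⟨t, ht⟩ := isCompact_univ.elim_finite_subcover (fun y => (O y : Set Y'))
    (fun y => (O y).2) fun y _ => Set.mem_iUnion.mpr ⟨y, hyO y⟩
  refine ⟨Y', p, t.card, fun i => O (t.equivFin.symm i), hfin, hp, eq_top_iff.2 fun y _ => ?_,
    fun i => ⟨_, _, hk _⟩⟩
  obtain ⟨z, hz, hy⟩ := Set.mem_iUnion₂.mp (ht (Set.mem_univ y))
  exact TopologicalSpace.Opens.mem_iSup.2 ⟨t.equivFin ⟨z, hz⟩, by simpa using hy⟩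

end Groth.HTopHyper.QfhRefine
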