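import Groth.Prelude.Def_HTop
import Mathlib.AlgebraicGeometry.ValuativeCriterion
import Mathlib.AlgebraicGeometry.Morphisms.UniversallyOpen

/-! Lifting of morphisms from spectra of valuation rings (HTop): reformulation by specializations. -/

set_option autoImplicit false

universe w w' u

open CategoryTheory CategoryTheory.Limits AlgebraicGeometry IsLocalRing

namespace Groth.HTopHyper

theorem isExtVal_comp {V W W' : CommRingCat.{u}} [IsDomain V] [ValuationRing V] [IsDomain W]
    [ValuationRing W] [IsDomain W'] [ValuationRing W'] {φ : V ⟶ W} {ψ : W ⟶ W'}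
    (h₁ : HTop.IsExtVal V W φ) (h₂ : HTop.IsExtVal W W' ψ) : HTop.IsExtVal V W' (φ ≫ ψ) := by
  refine ⟨h₂.1.comp h₁.1, ?_⟩
  have := h₁.2
  have := h₂.2
  exact inferInstanceAs (IsLocalHom (ψ.hom.comp φ.hom))

theorem isExtVal_id {V : CommRingCat.{u}} [IsDomain V] [ValuationRing V] :
    HTop.IsExtVal V V (𝟙 V) :=
  ⟨Function.injective_id, ⟨fun _ h => h⟩⟩

/-- The generic point of the spectrum of a domain. -/
noncomputable def genPt (V : CommRingCat.{u}) [IsDomain V] : ↑(Spec V) := (⊥ : PrimeSpectrum V)

/-- The closed point of the spectrum of a local ring, typed as a point of the scheme. -/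
noncomputable def clPt (V : CommRingCat.{u}) [IsLocalRing V] : ↑(Spec V) := closedPoint V

theorem specializes_clPt {V : CommRingCat.{u}} [IsLocalRing V] (x : ↑(Spec V)) : x ⤳ clPt V :=
  IsLocalRing.specializes_closedPoint x

theorem genPt_specializes {V : CommRingCat.{u}} [IsDomain V] (x : ↑(Spec V)) : genPt V ⤳ x :=
  (PrimeSpectrum.le_iff_specializes _ _).mp bot_le

theorem specMap_genPt_iff {V W : CommRingCat.{u}} [IsDomain V] [IsDomain W] (φ : V ⟶ W) :
    Spec.map φ (genPt W) = genPt V ↔ Function.Injective φ.hom := by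
  rw [RingHom.injective_iff_ker_eq_bot]
  change PrimeSpectrum.comap φ.hom ⊥ = ⊥ ↔ _
  rw [PrimeSpectrum.ext_iff]
  exact Iff.rfl

theorem specMap_closedPoint_iff {V W : CommRingCat.{u}} [IsLocalRing V] [IsLocalRing W]
    (φ : V ⟶ W) : Spec.map φ (clPt W) = clPt V ↔ IsLocalHom φ.hom :=
  (isLocalHom_iff_comap_closedPoint φ.hom).symm

/-- A specialization is realized by the spectrum of a valuation ring of the residue field of its
generic point. -/
theorem exists_valRing {P : Scheme.{u}} {x' x : P} (h : x' ⤳ x) :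
    ∃ (W : CommRingCat.{u}) (_ : IsDomain W) (_ : ValuationRing W) (l : Spec W ⟶ P),
      l (genPt W) = x' ∧ l (clPt W) = x := by
  let ψ : P.presheaf.stalk x ⟶ P.residueField x' := P.presheaf.stalkSpecializes h ≫ P.residue x'
  obtain ⟨A, hA, hA_local⟩ := exists_factor_valuationRing ψ.hom
  let ψ' : P.presheaf.stalk x ⟶ CommRingCat.of A :=
    CommRingCat.ofHom (ψ.hom.codRestrict _ hA)
  have : IsLocalHom ψ'.hom := hA_local
  refine ⟨CommRingCat.of A, inferInstanceAs (IsDomain A), inferInstanceAs (ValuationRing A),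
    Spec.map ψ' ≫ P.fromSpecStalk x, ?_, ?_⟩
  · let i : CommRingCat.of A ⟶ P.residueField x' :=
      CommRingCat.ofHom A.toSubring.subtype
    have hi : Spec.map i (clPt (P.residueField x')) = genPt (CommRingCat.of A) := by
      have h0 : clPt (P.residueField x') = genPt (P.residueField x') := by
        exact PrimeSpectrum.ext IsLocalRing.maximalIdeal_eq_bot
      rw [h0, specMap_genPt_iff]
      exact Subtype.val_injective
    rw [← hi]
    have : ψ' ≫ i = ψ := rfl
    rw [← Scheme.Hom.comp_apply, ← Spec.map_comp_assoc, this]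
    simp only [ψ, Spec.map_comp, Category.assoc, Scheme.SpecMap_stalkSpecializes_fromSpecStalk]
    exact P.fromSpecResidueField_apply x' _
  · rw [Scheme.Hom.comp_apply, (specMap_closedPoint_iff ψ').mpr inferInstance]
    exact Scheme.fromSpecStalk_closedPoint

/-- A specialization over the generic and closed point of a valuation ring gives an extension of
valuation rings together with a lift. -/
theorem exists_ext_of_specializes {V : CommRingCat.{u}} [IsDomain V] [ValuationRing V]
    {P : Scheme.{u}} (p : P ⟶ Spec V) {x' x : P} (h : x' ⤳ x) (h' : p x' = genPt V)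
    (h₀ : p x = clPt V) :
    ∃ (W : CommRingCat.{u}) (_ : IsDomain W) (_ : ValuationRing W) (φ : V ⟶ W),
      HTop.IsExtVal V W φ ∧ ∃ l : Spec W ⟶ P, l ≫ p = Spec.map φ ∧
        l (genPt W) = x' ∧ l (clPt W) = x := by
  obtain ⟨W, _, _, l, hl', hl⟩ := exists_valRing h
  refine ⟨W, inferInstance, inferInstance, Spec.preimage (l ≫ p), ⟨?_, ?_⟩, l,
    (Spec.map_preimage _).symm, hl', hl⟩
  · rw [← specMap_genPt_iff, Spec.map_preimage, Scheme.Hom.comp_apply, hl', h']
  · rw [← specMap_closedPoint_iff, Spec.map_preimage, Scheme.Hom.comp_apply, hl, h₀]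

/-- The lifting property is equivalent to the existence, in some pulled back member, of a
specialization over `generic ⤳ closed`. -/
theorem hasValLift_iff {T : Scheme.{u}} (E : PreZeroHypercover.{w} T) :
    HTop.HasValLift E ↔ ∀ (V : CommRingCat.{u}) [IsDomain V] [ValuationRing V] (g : Spec V ⟶ T),
      ∃ (j : E.I₀) (x' x : ↑(pullback g (E.f j))), x' ⤳ x ∧
        pullback.fst g (E.f j) x' = genPt V ∧ pullback.fst g (E.f j) x = clPt V := by
  constructor
  · intro H V _ _ g
    obtain ⟨W, _, _, φ, ⟨hinj, hloc⟩, j, g', hg'⟩ := H V g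
    let l : Spec W ⟶ pullback g (E.f j) := pullback.lift (Spec.map φ) g' hg'.symm
    refine ⟨j, l (genPt W), l (clPt W), (genPt_specializes _).map l.continuous, ?_, ?_⟩
    · rw [← Scheme.Hom.comp_apply, pullback.lift_fst]
      exact (specMap_genPt_iff φ).mpr hinj
    · rw [← Scheme.Hom.comp_apply, pullback.lift_fst]
      exact (specMap_closedPoint_iff φ).mpr hloc
  · intro H V _ _ g
    obtain ⟨j, x', x, h, h', h₀⟩ := H V g
    obtain ⟨W, hW, hW', φ, hφ, l, hl, -, -⟩ := exists_ext_of_specializes _ h h' h₀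
    exact ⟨W, hW, hW', φ, hφ, j, l ≫ pullback.snd _ _,
      by rw [Category.assoc, ← pullback.condition, reassoc_of% hl]⟩

/-- A morphism from the spectrum of a local ring lifts to an open subscheme containing the image of
the closed point. -/
theorem exists_lift_openImmersion {W : CommRingCat.{u}} [IsLocalRing W] {U X : Scheme.{u}}
    (ι : U ⟶ X) [IsOpenImmersion ι] (l : Spec W ⟶ X)
    (h : l (clPt W) ∈ Set.range ι) : ∃ l' : Spec W ⟶ U, l' ≫ ι = l := by
  refine ⟨IsOpenImmersion.lift ι l ?_, IsOpenImmersion.lift_fac _ _ _⟩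
  rintro _ ⟨z, rfl⟩
  exact ((specializes_clPt z).map l.continuous).mem_open
    ι.isOpenEmbedding.isOpen_range h

end Groth.HTopHyper
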