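import Groth.Agent.HTopHyper.VCover
import Mathlib.AlgebraicGeometry.Sites.Fpqc
import Mathlib.AlgebraicGeometry.Morphisms.QuasiSeparated

/-! Criteria for fpqc coverings. -/

set_option autoImplicit false

universe w w' u

open CategoryTheory CategoryTheory.Limits AlgebraicGeometry

namespace Groth.HTopHyper

theorem quasiCompactCover_iff_nhds {T : Scheme.{u}} [QuasiSeparatedSpace T]
    (E : PreZeroHypercover.{w} T) : QuasiCompactCover E ↔
      ∀ t : T, ∃ (n : ℕ) (i : Fin n → E.I₀) (V : ∀ j, (E.X (i j)).Opens),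
        (∀ j, IsCompact (V j : Set (E.X (i j)))) ∧
        (⋃ j, ⇑(E.f (i j)) '' (V j : Set (E.X (i j)))) ∈ nhds t := by
  constructor
  · intro h t
    obtain ⟨U, hU, ht, -⟩ := T.isBasis_affineOpens.exists_subset_of_mem_open
      (Set.mem_univ t) isOpen_univ
    obtain ⟨U', hU', rfl⟩ := hU
    obtain ⟨n, i, V, hV, heq⟩ :=
      QuasiCompactCover.exists_isAffineOpen_of_isCompact E (U := U') (IsAffineOpen.isCompact hU')
    exact ⟨n, i, V, fun j => (hV j).isCompact, heq ▸ U'.isOpen.mem_nhds ht⟩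
  · refine fun h => ⟨fun {U} hU => ?_⟩
    refine .of_isCompact_of_forall_exists_isCompactOpenCovered hU.isCompact fun t ht => ?_
    obtain ⟨n, i, V, hV, hN⟩ := h t
    obtain ⟨O, hO, hOo, htO⟩ := mem_nhds_iff.mp hN
    obtain ⟨W, hW, htW, hWsub⟩ := T.isBasis_affineOpens.exists_subset_of_mem_open
      (show t ∈ O ∩ (U : Set T) from ⟨htO, ht⟩) (hOo.inter U.isOpen)
    obtain ⟨W', hW', rfl⟩ := hW
    refine ⟨W', fun x hx => (hWsub hx).2, htW, W'.isOpen,
      .of_finite i (fun j => V j ⊓ (E.f (i j)) ⁻¹ᵁ W') (fun j => ?_) ?_⟩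
    · have : CompactSpace (V j : Scheme.{u}) := isCompact_iff_compactSpace.mp (hV j)
      have : QuasiCompact (((V j).ι ≫ E.f (i j)) ≫ terminal.from T) :=
        (quasiCompact_iff_compactSpace _).mpr this
      have : QuasiSeparated (terminal.from T) :=
        (quasiSeparated_iff_quasiSeparatedSpace _).mpr ‹_›
      have hqc : QuasiCompact ((V j).ι ≫ E.f (i j)) := QuasiCompact.of_comp _ (terminal.from T)
      have hc := (((V j).ι ≫ E.f (i j)).isCompact_preimage (IsAffineOpen.isCompact hW')).image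
        (V j).ι.continuous
      have heq : (V j).ι '' ((((V j).ι ≫ E.f (i j)) ⁻¹ᵁ W' : (V j : Scheme.{u}).Opens) : Set _) =
          ((V j ⊓ (E.f (i j)) ⁻¹ᵁ W' : (E.X (i j)).Opens) : Set _) := by
        ext x
        constructor
        · rintro ⟨y, hy, rfl⟩
          exact ⟨y.2, hy⟩
        · rintro ⟨hx, hx'⟩
          exact ⟨⟨x, hx⟩, hx', rfl⟩
      exact (congrArg IsCompact heq).mp hc
    · ext x
      simp only [Set.mem_iUnion]
      constructor
      · rintro ⟨j, y, hy, rfl⟩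
        exact hy.2
      · intro hx
        obtain ⟨j, y, hy, rfl⟩ := Set.mem_iUnion.mp (hO (hWsub hx).1)
        exact ⟨j, y, ⟨hy, hx⟩, rfl⟩

theorem mem_fpqcPrecoverage_iff {T : Scheme.{u}} (E : PreZeroHypercover.{w} T) :
    E.presieve₀ ∈ Scheme.fpqcPrecoverage T ↔ QuasiCompactCover E ∧
      (∀ t : T, ∃ i, t ∈ Set.range (E.f i)) ∧ ∀ i, Flat (E.f i) := by
  change E.presieve₀ ∈ Scheme.qcPrecoverage T ∧ E.presieve₀ ∈ Scheme.precoverage @Flat T ↔ _
  exact and_congr Scheme.presieve₀_mem_qcPrecoverage_iff (Scheme.presieve₀_mem_precoverage_iff E)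

theorem mem_fpqc_of_local {T : Scheme.{u}} (E : PreZeroHypercover.{u} T)
    (hflat : ∀ i, Flat (E.f i)) (𝒱 : Scheme.Cover.{w} Scheme.fpqcPrecoverage T)
    (hloc : ∀ j, (E.pullback₁ (𝒱.f j)).presieve₀ ∈ Scheme.fpqcPrecoverage (𝒱.X j)) :
    E.presieve₀ ∈ Scheme.fpqcPrecoverage T := by
  obtain ⟨hqc, hsurj, -⟩ := (mem_fpqcPrecoverage_iff _).mp 𝒱.mem₀
  refine (mem_fpqcPrecoverage_iff E).mpr ⟨⟨fun {U} hU => ?_⟩, fun t => ?_, hflat⟩
  · obtain ⟨n, j, V, hV, heq⟩ :=
      QuasiCompactCover.exists_isAffineOpen_of_isCompact 𝒱.toPreZeroHypercover hU.isCompact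
    have := fun k => ((mem_fpqcPrecoverage_iff _).mp (hloc (j k))).1
    have hVc := fun k =>
      (hV k).isCompactOpenCovered ((E.pullback₁ (𝒱.f (j k))))
    choose s hs W hW hsW using hVc
    have : ∀ k, Finite (s k) := fun k => hs k
    refine IsCompactOpenCovered.of_comp (f := fun i => ⇑(E.f i))
      (fun p : Σ k : Fin n, (E.pullback₁ (𝒱.f (j k))).I₀ =>
        ⇑(pullback.snd (𝒱.f (j p.1)) (E.f p.2) ≫ E.f p.2))
      (fun p => ⇑(pullback.snd (𝒱.f (j p.1)) (E.f p.2)))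
      (fun p => Scheme.Hom.continuous _) (fun p => rfl) (fun i => Scheme.Hom.continuous _) U.2
      (.of_finite (κ := Σ k : Fin n, s k) (fun q => ⟨q.1, q.2.1⟩)
        (fun q => W q.1 q.2.1 q.2.2) (fun q => hW q.1 q.2.1 q.2.2) ?_)
    rw [← heq, Set.iUnion_sigma]
    refine Set.iUnion_congr fun k => ?_
    rw [← hsW k, Set.image_iUnion₂, Set.iUnion_coe_set]
    refine Set.iUnion₂_congr fun i hi => ?_
    rw [Set.image_image]
    refine Set.image_congr' fun x => ?_
    exact (congrArg (fun q : _ ⟶ T => q x) pullback.condition).symm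
  · obtain ⟨j, y, rfl⟩ := hsurj t
    obtain ⟨i, z, rfl⟩ := ((mem_fpqcPrecoverage_iff _).mp (hloc j)).2.1 y
    exact ⟨i, _, (congrArg (fun q : _ ⟶ T => q z) pullback.condition).symm⟩

set_option backward.isDefEq.respectTransparency false in
theorem mem_fpqc_sigma_iff {T : Scheme.{u}} (E : PreZeroHypercover.{u} T) :
    E.presieve₀ ∈ Scheme.fpqcPrecoverage T ↔
      Presieve.singleton (Sigma.desc E.f) ∈ Scheme.fpqcPrecoverage T := by
  rw [← PreZeroHypercover.presieve₀_singleton.{u}, mem_fpqcPrecoverage_iff, mem_fpqcPrecoverage_iff]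
  constructor
  · rintro ⟨hqc, hs, hflat⟩
    refine ⟨@QuasiCompactCover.of_hom _ _ E ⟨fun _ => PUnit.unit, fun i => Sigma.ι E.X i,
      fun i => Sigma.ι_desc E.f i⟩ hqc, fun t => ?_, fun _ => ?_⟩
    · obtain ⟨i, y, rfl⟩ := hs t
      exact ⟨PUnit.unit, Sigma.ι E.X i y,
        congrArg (fun q : _ ⟶ T => q y) (Sigma.ι_desc E.f i)⟩
    · exact IsZariskiLocalAtSource.sigmaDesc (P := @Flat) hflat
  · rintro ⟨hqc, hs, hflat⟩
    refine ⟨?_, fun t => ?_, fun i => ?_⟩
    · have hb : QuasiCompactCover ((PreZeroHypercover.singleton.{u} (Sigma.desc E.f)).bind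
          fun _ => (sigmaOpenCover E.X).toPreZeroHypercover) := inferInstance
      exact @QuasiCompactCover.of_hom _ _ ((PreZeroHypercover.singleton.{u} (Sigma.desc E.f)).bind
          fun _ => (sigmaOpenCover E.X).toPreZeroHypercover)
        ⟨fun p => p.2, fun p => 𝟙 _, fun p => (Category.id_comp _).trans (Sigma.ι_desc E.f _).symm⟩ hb
    · obtain ⟨-, y, rfl⟩ := hs t
      obtain ⟨i, z, rfl⟩ := (sigmaOpenCover E.X).exists_eq y
      exact ⟨i, z, (congrArg (fun q : _ ⟶ T => q z) (Sigma.ι_desc E.f i)).symm⟩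
    · have : Flat (Sigma.desc E.f) := hflat PUnit.unit
      rw [← Sigma.ι_desc E.f i]
      infer_instance

theorem mem_fpqc_of_refinements {T : Scheme.{u}} (E : PreZeroHypercover.{w} T)
    (hflat : ∀ i, Flat (E.f i))
    (href : ∀ (Z : Scheme.{u}) [IsAffine Z] (h : Z ⟶ T), ∃ F : PreZeroHypercover.{0} Z,
      Finite F.I₀ ∧ (∀ j, IsAffine (F.X j)) ∧ (∀ j, Flat (F.f j)) ∧
      (∀ z : Z, ∃ (j : F.I₀) (x : F.X j), F.f j x = z) ∧ HTop.RefinesOver h F E) :
    E.presieve₀ ∈ Scheme.fpqcPrecoverage T := by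
  have key : ∀ U : T.Opens, IsAffineOpen U →
      ∃ F : PreZeroHypercover.{0} (U : Scheme.{u}),
      Finite F.I₀ ∧ (∀ j, IsAffine (F.X j)) ∧ (∀ j, Flat (F.f j)) ∧
      (∀ z : (U : Scheme.{u}), ∃ (j : F.I₀) (x : F.X j), F.f j x = z) ∧
      HTop.RefinesOver U.ι F E := fun U hU =>
    have : IsAffine (U : Scheme.{u}) := hU
    href _ U.ι
  refine (mem_fpqcPrecoverage_iff E).mpr ⟨⟨fun {U} hU => ?_⟩, fun t => ?_, hflat⟩
  · obtain ⟨F, _, haff, -, hs, hr⟩ := key U hU
    choose i r hi using hr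
    have := haff
    refine IsCompactOpenCovered.of_comp (f := fun i => ⇑(E.f i))
      (fun k => ⇑(F.f k ≫ U.ι)) (a := i) (fun k => ⇑(r k)) (fun k => Scheme.Hom.continuous _)
      (fun k => by rw [← hi]; rfl) (fun i => Scheme.Hom.continuous _) U.2
      (.of_finite id (fun k => ⊤) (fun k => isCompact_univ) ?_)
    ext x
    simp only [Set.mem_iUnion]
    constructor
    · rintro ⟨k, y, -, rfl⟩
      exact (F.f k y).2
    · intro hx
      obtain ⟨k, y, hy⟩ := hs ⟨x, hx⟩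
      exact ⟨k, y, trivial, congrArg U.ι hy⟩
  · obtain ⟨U, hU, ht, -⟩ := T.isBasis_affineOpens.exists_subset_of_mem_open
      (Set.mem_univ t) isOpen_univ
    obtain ⟨U', hU', rfl⟩ := hU
    obtain ⟨F, -, -, -, hs, hr⟩ := key U' hU'
    obtain ⟨k, y, hy⟩ := hs ⟨t, ht⟩
    obtain ⟨i, r, hi⟩ := hr k
    exact ⟨i, r y, (congrArg (fun q : _ ⟶ T => q y) hi).trans (congrArg (Scheme.Opens.ι U') hy)⟩

end Groth.HTopHyper
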