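import Groth.Prelude.Def_HTop2
import Mathlib.AlgebraicGeometry.Morphisms.UniversallyInjective
import Mathlib.AlgebraicGeometry.Morphisms.Proper
import Mathlib.AlgebraicGeometry.Morphisms.Integral
import Mathlib.AlgebraicGeometry.Morphisms.Finite
import Mathlib.AlgebraicGeometry.Morphisms.Separated

/-!
Universal homeomorphisms: `IsUnivHomeo f ↔ IsIntegralHom f ∧ UniversallyInjective f ∧ Surjective f`,
composition, cancellation along surjections, and the scheme-theoretic image construction.
-/

universe u

open CategoryTheory CategoryTheory.Limits AlgebraicGeometry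

namespace Groth.HTopHyper

variable {X Y Z : Scheme.{u}}

theorem surjective_of_isUnivHomeo {f : X ⟶ Y} (h : FlatMor.IsUnivHomeo f) : Surjective f :=
  ⟨(h (𝟙 X) (𝟙 Y) f IsPullback.of_id_snd : IsHomeomorph f).surjective⟩

theorem isHomeomorph_of_isUnivHomeo {f : X ⟶ Y} (h : FlatMor.IsUnivHomeo f) : IsHomeomorph f :=
  h (𝟙 X) (𝟙 Y) f IsPullback.of_id_snd

theorem universallyInjective_of_isUnivHomeo {f : X ⟶ Y} (h : FlatMor.IsUnivHomeo f) :
    UniversallyInjective f :=
  ⟨fun _ _ _ _ _ H => IsHomeomorph.injective (h _ _ _ H)⟩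

theorem universallyClosed_of_isUnivHomeo {f : X ⟶ Y} (h : FlatMor.IsUnivHomeo f) :
    UniversallyClosed f :=
  ⟨fun _ _ _ _ _ H => IsHomeomorph.isClosedMap (h _ _ _ H)⟩

theorem isIntegralHom_of_isUnivHomeo {f : X ⟶ Y} (h : FlatMor.IsUnivHomeo f) : IsIntegralHom f := by
  have hh := isHomeomorph_of_isUnivHomeo h
  rw [IsIntegralHom.iff_universallyClosed_and_isAffineHom]
  exact ⟨universallyClosed_of_isUnivHomeo h,
    isAffineHom_of_isInducing f hh.isInducing (by rw [hh.surjective.range_eq]; exact isClosed_univ)⟩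

theorem isUnivHomeo_of_closed (f : X ⟶ Y) [UniversallyClosed f] [UniversallyInjective f]
    [Surjective f] : FlatMor.IsUnivHomeo f := by
  intro X' Y' i₁ i₂ f' H
  have hsurj : Surjective f' := MorphismProperty.of_isPullback H.flip ‹Surjective f›
  exact isHomeomorph_iff_continuous_isClosedMap_bijective.mpr
    ⟨f'.continuous, UniversallyClosed.universally_isClosedMap (f := f) _ _ _ H,
      UniversallyInjective.universally_injective (f := f) _ _ _ H, hsurj.surj⟩

theorem isUnivHomeo_iff {f : X ⟶ Y} :
    FlatMor.IsUnivHomeo f ↔ IsIntegralHom f ∧ UniversallyInjective f ∧ Surjective f := by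
  refine ⟨fun h => ⟨isIntegralHom_of_isUnivHomeo h, universallyInjective_of_isUnivHomeo h,
    surjective_of_isUnivHomeo h⟩, fun ⟨h₁, h₂, h₃⟩ => ?_⟩
  have := (IsIntegralHom.iff_universallyClosed_and_isAffineHom.mp h₁).1
  exact isUnivHomeo_of_closed f

theorem isUnivHomeo_of_isIso (f : X ⟶ Y) [IsIso f] : FlatMor.IsUnivHomeo f :=
  isUnivHomeo_iff.mpr ⟨inferInstance, inferInstance, inferInstance⟩

theorem isUnivHomeo_comp {f : X ⟶ Y} {g : Y ⟶ Z} (hf : FlatMor.IsUnivHomeo f)
    (hg : FlatMor.IsUnivHomeo g) : FlatMor.IsUnivHomeo (f ≫ g) := by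
  obtain ⟨_, _, _⟩ := isUnivHomeo_iff.mp hf
  obtain ⟨_, _, _⟩ := isUnivHomeo_iff.mp hg
  exact isUnivHomeo_iff.mpr ⟨inferInstance,
    MorphismProperty.comp_mem (W := @UniversallyInjective) _ _ ‹_› ‹_›, inferInstance⟩

instance : FlatMor.IsUnivHomeo.IsStableUnderBaseChange :=
  MorphismProperty.universally_isStableUnderBaseChange _

theorem isUnivHomeo_of_isPullback {P : Scheme.{u}} {fst : P ⟶ Z} {snd : P ⟶ X} {g : Z ⟶ Y}
    {f : X ⟶ Y} (H : IsPullback fst snd g f) (hf : FlatMor.IsUnivHomeo f) :
    FlatMor.IsUnivHomeo fst :=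
  MorphismProperty.IsStableUnderBaseChange.of_isPullback (P := FlatMor.IsUnivHomeo) H.flip hf

/-- Universal injectivity descends along surjections. -/
theorem universallyInjective_of_comp (f : X ⟶ Y) (g : Y ⟶ Z) [Surjective f]
    [h : UniversallyInjective (f ≫ g)] : UniversallyInjective g := by
  rw [UniversallyInjective.iff_diagonal] at h ⊢
  have hs : Surjective (pullback.map (f ≫ g) (f ≫ g) g g f f (𝟙 Z) (by simp) (by simp)) := by
    have : MorphismProperty.IsStableUnderComposition @Surjective.{u} :=
      { comp_mem := fun a b (h₁ : Surjective a) (h₂ : Surjective b) =>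
          (inferInstance : Surjective (a ≫ b)) }
    have : MorphismProperty.IsStableUnderBaseChange @Surjective.{u} := inferInstance
    exact MorphismProperty.pullbackMap (P := @Surjective.{u}) ‹Surjective f› ‹Surjective f›
      rfl rfl
  have e : pullback.diagonal (f ≫ g) ≫
      pullback.map (f ≫ g) (f ≫ g) g g f f (𝟙 Z) (by simp) (by simp) = f ≫ pullback.diagonal g := by
    apply pullback.hom_ext
    · simp only [Category.assoc, pullback.diagonal_fst, pullback.map, pullback.lift_fst,
        pullback.diagonal_fst_assoc, Category.comp_id]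
    · simp only [Category.assoc, pullback.diagonal_snd, pullback.map, pullback.lift_snd,
        pullback.diagonal_snd_assoc, Category.comp_id]
  have : Surjective (f ≫ pullback.diagonal g) := by rw [← e]; infer_instance
  exact Surjective.of_comp f (pullback.diagonal g)

theorem isUnivHomeo_of_comp_surjective (f : X ⟶ Y) (g : Y ⟶ Z) [Surjective f]
    (h : FlatMor.IsUnivHomeo (f ≫ g)) : FlatMor.IsUnivHomeo g := by
  obtain ⟨h1, h2, h3⟩ := isUnivHomeo_iff.mp h
  have hc : UniversallyClosed (f ≫ g) :=
    (IsIntegralHom.iff_universallyClosed_and_isAffineHom.mp h1).1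
  have : UniversallyClosed g := .of_comp_surjective f g
  have : UniversallyInjective g := universallyInjective_of_comp f g
  have : Surjective g := Surjective.of_comp f g
  exact isUnivHomeo_of_closed g

/-- A universal homeomorphism of finite type is finite. -/
theorem isFinite_of_isUnivHomeo (f : X ⟶ Y) [LocallyOfFiniteType f] (h : FlatMor.IsUnivHomeo f) :
    IsFinite f := by
  have := isIntegralHom_of_isUnivHomeo h
  exact (IsFinite.iff_isIntegralHom_and_locallyOfFiniteType _).mpr ⟨this, inferInstance⟩

theorem residueFieldsIso_of_comp_surjective (f : X ⟶ Y) (g : Y ⟶ Z) [Surjective f]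
    (h : HTop.ResidueFieldsIso (f ≫ g)) : HTop.ResidueFieldsIso g := by
  intro y
  obtain ⟨x, rfl⟩ := f.surjective y
  have hx := h x
  rw [Scheme.residueFieldMap_comp] at hx
  have hb : Function.Bijective (g.residueFieldMap (f x) ≫ f.residueFieldMap x).hom :=
    @ConcreteCategory.bijective_of_isIso _ _ _ _ _ _ _ _ (g.residueFieldMap (f x) ≫ f.residueFieldMap x) hx
  rw [ConcreteCategory.isIso_iff_bijective]
  refine ⟨(g.residueFieldMap (f x)).hom.injective, fun z => ?_⟩
  obtain ⟨w, hw⟩ := hb.2 ((f.residueFieldMap x).hom z)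
  exact ⟨w, (f.residueFieldMap x).hom.injective (by simpa using hw)⟩

theorem isSeparated_of_isSeparated_source (f : X ⟶ Y) [X.IsSeparated] : IsSeparated f := by
  have : IsSeparated (f ≫ terminal.from Y) := by
    rw [terminal.comp_from]; infer_instance
  exact IsSeparated.of_comp f (terminal.from Y)

/-- Two maps into a separated scheme agreeing after `toImage` agree on the scheme-theoretic image. -/
theorem ext_of_toImage {W : Scheme.{u}} (m : X ⟶ Y) [W.IsSeparated] (a b : m.image ⟶ W)
    (h : m.toImage ≫ a = m.toImage ≫ b) : a = b := by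
  let k : X ⟶ equalizer a b := equalizer.lift m.toImage h
  have hk : k ≫ (equalizer.ι a b ≫ m.imageι) = m := by
    rw [equalizer.lift_ι_assoc, Scheme.Hom.toImage_imageι]
  have hker : (equalizer.ι a b ≫ m.imageι).ker ≤ m.imageι.ker := by
    rw [Scheme.Hom.imageι, Scheme.IdealSheafData.ker_subschemeι]
    exact (Scheme.Hom.le_ker_comp k _).trans_eq (congrArg Scheme.Hom.ker hk)
  let l := IsClosedImmersion.lift (equalizer.ι a b ≫ m.imageι) m.imageι hker
  have hl : l ≫ equalizer.ι a b = 𝟙 _ := by
    rw [← cancel_mono m.imageι, Category.assoc, IsClosedImmersion.lift_fac, Category.id_comp]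
  rw [← Category.id_comp a, ← Category.id_comp b, ← hl, Category.assoc, Category.assoc,
    equalizer.condition]

/-- The scheme-theoretic image construction: if `m : X ⟶ P` lies over a universal homeomorphism,
with `P ⟶ Z` separated and locally of finite type, then its image is finite and a universal
homeomorphism over `Z`, and is surjected onto by `X`. -/
theorem image_univHomeo {P : Scheme.{u}} (m : X ⟶ P) (p : P ⟶ Z) [IsSeparated p]
    [LocallyOfFiniteType p] (h : FlatMor.IsUnivHomeo (m ≫ p)) :
    Surjective m.toImage ∧ IsFinite (m.imageι ≫ p) ∧ FlatMor.IsUnivHomeo (m.imageι ≫ p) := by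
  have := isIntegralHom_of_isUnivHomeo h
  have : IsIntegralHom m := IsIntegralHom.of_comp m p
  have : UniversallyClosed m := (IsIntegralHom.iff_universallyClosed_and_isAffineHom.mp ‹_›).1
  have hs : Surjective m.toImage := by
    constructor
    rw [← Set.range_eq_univ, ← m.toImage.isClosedMap.isClosed_range.closure_eq]
    exact m.toImage.denseRange.closure_eq
  have hh : FlatMor.IsUnivHomeo (m.imageι ≫ p) := by
    refine isUnivHomeo_of_comp_surjective m.toImage _ ?_
    rwa [Scheme.Hom.toImage_imageι_assoc]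
  exact ⟨hs, isFinite_of_isUnivHomeo _ hh, hh⟩

end Groth.HTopHyper
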