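import Groth.Agent.HTopHyper.ValLift

/-! Standard V coverings: base change, composition, flat and proper coverings. -/

set_option autoImplicit false

universe w w' u

open CategoryTheory CategoryTheory.Limits AlgebraicGeometry IsLocalRing

namespace Groth.HTopHyper

theorem isStandardV_pullback₁ {T T' : Scheme.{u}} [IsAffine T'] (g : T' ⟶ T)
    (E : PreZeroHypercover.{w} T) (hE : HTop.IsStandardV E) : HTop.IsStandardV (E.pullback₁ g) := by
  have := hE.isAffine
  refine ⟨inferInstance, hE.finite_index, fun j => ?_, ?_⟩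
  · have := hE.isAffine_obj j
    exact inferInstanceAs (IsAffine (pullback g (E.f j)))
  · intro V _ _ h
    obtain ⟨W, hW, hW', φ, hφ, j, g', hg'⟩ := hE.lift V (h ≫ g)
    refine ⟨W, hW, hW', φ, hφ, j, pullback.lift (Spec.map φ ≫ h) g' ?_, ?_⟩
    · rw [Category.assoc, hg']
    · exact pullback.lift_fst _ _ _

theorem hasValLift_bind {T : Scheme.{u}} (E : PreZeroHypercover.{w} T) (hE : HTop.HasValLift E)
    (F : ∀ j, PreZeroHypercover.{w'} (E.X j)) (hF : ∀ j, HTop.HasValLift (F j)) :
    HTop.HasValLift (E.bind F) := by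
  intro V _ _ g
  obtain ⟨W, hW, hW', φ, hφ, j, g', hg'⟩ := hE V g
  obtain ⟨W', hW₂, hW₂', ψ, hψ, i, g'', hg''⟩ := hF j W g'
  refine ⟨W', hW₂, hW₂', φ ≫ ψ, isExtVal_comp hφ hψ, ⟨j, i⟩, g'', ?_⟩
  change g'' ≫ (F j).f i ≫ E.f j = _
  rw [reassoc_of% hg'', hg', Spec.map_comp, Category.assoc]

theorem isStandardV_bind {T : Scheme.{u}} (E : PreZeroHypercover.{w} T) (hE : HTop.IsStandardV E)
    (F : ∀ j, PreZeroHypercover.{w'} (E.X j)) (hF : ∀ j, HTop.IsStandardV (F j)) :
    HTop.IsStandardV (E.bind F) := by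
  have := hE.finite_index
  have := fun j => (hF j).finite_index
  exact ⟨hE.isAffine, inferInstanceAs (Finite (Σ j : E.I₀, (F j).I₀)),
    fun ji => (hF ji.1).isAffine_obj ji.2, hasValLift_bind E hE.lift F fun j => (hF j).lift⟩

/-- A family of flat morphisms with jointly surjective images lifts valuation rings. -/
theorem hasValLift_of_flat {T : Scheme.{u}} (E : PreZeroHypercover.{w} T)
    (hflat : ∀ j, Flat (E.f j)) (hsurj : ∀ t : T, ∃ (j : E.I₀) (x : E.X j), E.f j x = t) :
    HTop.HasValLift E := by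
  rw [hasValLift_iff]
  intro V _ _ g
  obtain ⟨j, y, hy⟩ := hsurj (g (clPt V))
  obtain ⟨x, hx, -⟩ :=
    Scheme.Pullback.exists_preimage_pullback (f := g) (g := E.f j) (clPt V) y hy.symm
  have := hflat j
  obtain ⟨x', h, hx'⟩ := Flat.generalizingMap (pullback.fst g (E.f j))
    (show genPt V ⤳ pullback.fst g (E.f j) x from hx ▸ genPt_specializes _)
  exact ⟨j, x', x, h, hx', hx⟩

/-- A family obtained by restricting a universally closed surjective morphism to an open cover of
its source lifts valuation rings. -/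
theorem hasValLift_of_universallyClosed {T U : Scheme.{u}} (E : PreZeroHypercover.{w} T) (f : U ⟶ T)
    (ι : ∀ j, E.X j ⟶ U) [UniversallyClosed f] [Surjective f] [∀ j, IsOpenImmersion (ι j)]
    (hfac : ∀ j, ι j ≫ f = E.f j) (hcov : ∀ x : U, ∃ j, x ∈ Set.range (ι j).base) :
    HTop.HasValLift E := by
  intro V _ _ g
  obtain ⟨x', hx'⟩ := (pullback.fst g f).surjective (genPt V)
  obtain ⟨x, h, hx⟩ := (pullback.fst g f).isClosedMap.specializingMap
    (show pullback.fst g f x' ⤳ clPt V from specializes_clPt _)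
  obtain ⟨W, hW, hW', φ, hφ, l, hl, -, -⟩ := exists_ext_of_specializes _ h hx' hx
  obtain ⟨j, hj⟩ := hcov ((l ≫ pullback.snd g f) (clPt W))
  obtain ⟨l', hl'⟩ := exists_lift_openImmersion (ι j) (l ≫ pullback.snd g f) hj
  exact ⟨W, hW, hW', φ, hφ, j, l', by
    rw [← hfac j, reassoc_of% hl', ← pullback.condition, reassoc_of% hl]⟩

theorem isStandardV_of_isStandardPh {T : Scheme.{u}} {E : PreZeroHypercover.{w} T}
    (hE : HTop.IsStandardPh E) : HTop.IsStandardV E := by
  obtain ⟨U, f, ι, _, _, hι, hfac, hcov⟩ := hE.exists_proper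
  exact ⟨hE.isAffine, hE.finite_index, hE.isAffine_obj,
    hasValLift_of_universallyClosed E f ι hfac hcov⟩

theorem isStandardV_of_flat {T : Scheme.{u}} [IsAffine T] (E : PreZeroHypercover.{w} T)
    [Finite E.I₀] (haff : ∀ j, IsAffine (E.X j)) (hflat : ∀ j, Flat (E.f j))
    (hsurj : ∀ t : T, ∃ (j : E.I₀) (x : E.X j), E.f j x = t) : HTop.IsStandardV E :=
  ⟨inferInstance, inferInstance, haff, hasValLift_of_flat E hflat hsurj⟩

end Groth.HTopHyper
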