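import Groth.Agent.HTopHyper.VToPh
import Groth.Agent.HTopHyper.StdV

/-! V coverings of finite presentation are ph coverings. -/

set_option autoImplicit false
set_option backward.isDefEq.respectTransparency false

universe w w' u

open CategoryTheory CategoryTheory.Limits AlgebraicGeometry

namespace Groth.HTopHyper

/-- Finitely many affine pieces of the members through which valuation lifting still holds. -/
theorem exists_affine_pieces {T Z : Scheme.{u}} [IsAffine Z] (g : Z ⟶ T)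
    {E : PreZeroHypercover.{w} T} [IsOpenImmersion g]
    (hE : ∀ i, LocallyOfFinitePresentation (E.f i))
    {F : PreZeroHypercover.{w'} Z} [Finite F.I₀] [∀ k, IsAffine (F.X k)]
    (hF : HTop.HasValLift F) (hr : HTop.RefinesOver g F E) :
    ∃ (n : ℕ) (Y : Fin n → Scheme.{u}) (f : ∀ a, Y a ⟶ Z) (_ : ∀ a, IsAffine (Y a)),
      (∀ a, LocallyOfFinitePresentation (f a)) ∧
      HTop.HasValLift (PreZeroHypercover.mk (Fin n) Y f) ∧
      ∀ a, ∃ (i : E.I₀) (h : Y a ⟶ E.X i), h ≫ E.f i = f a ≫ g := by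
  classical
  choose i r hi using hr
  have hmem : ∀ k (z : F.X k), r k z ∈ (E.f (i k)) ⁻¹ᵁ g.opensRange := fun k z => by
    show E.f (i k) (r k z) ∈ g.opensRange
    rw [← Scheme.Hom.comp_apply, hi, Scheme.Hom.comp_apply]
    exact ⟨_, rfl⟩
  have hb : ∀ k (z : F.X k), ∃ O : (E.X (i k)).Opens, IsAffineOpen O ∧ r k z ∈ O ∧
      O ≤ (E.f (i k)) ⁻¹ᵁ g.opensRange := fun k z => by
    obtain ⟨_, ⟨O, hO, rfl⟩, hzO, hOU⟩ :=
      (E.X (i k)).isBasis_affineOpens.exists_subset_of_mem_open (hmem k z)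
        ((E.f (i k)) ⁻¹ᵁ g.opensRange).isOpen
    exact ⟨O, hO, hzO, hOU⟩
  choose O hO hzO hOU using hb
  have hfin : ∀ k, ∃ s : Finset (F.X k), ∀ z : F.X k, ∃ y ∈ s, r k z ∈ O k y := fun k => by
    obtain ⟨s, hs⟩ := CompactSpace.isCompact_univ.elim_finite_subcover
      (fun y => r k ⁻¹' (O k y : Set (E.X (i k))))
      (fun y => (O k y).isOpen.preimage (r k).continuous) fun z _ => Set.mem_iUnion.mpr ⟨z, hzO k z⟩
    exact ⟨s, fun z => by simpa using hs (Set.mem_univ z)⟩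
  choose s hs using hfin
  obtain ⟨n, ⟨e⟩⟩ := Finite.exists_equiv_fin (Σ k, (s k : Set (F.X k)))
  let Q := fun a : Fin n => O (e.symm a).1 ((e.symm a).2 : F.X (e.symm a).1)
  have hQ : ∀ a, Set.range ((Q a).ι ≫ E.f (i (e.symm a).1)) ⊆ Set.range g := fun a => by
    rintro _ ⟨y, rfl⟩
    exact hOU _ _ y.2
  let f : ∀ a, (Q a : Scheme.{u}) ⟶ Z := fun a => IsOpenImmersion.lift g _ (hQ a)
  have hf : ∀ a, f a ≫ g = (Q a).ι ≫ E.f (i (e.symm a).1) := fun a =>
    IsOpenImmersion.lift_fac _ _ _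
  refine ⟨n, fun a => (Q a : Scheme.{u}), f, fun a => hO _ _, fun a => ?_, ?_,
    fun a => ⟨_, (Q a).ι, (hf a).symm⟩⟩
  · have := hE (i (e.symm a).1)
    have : LocallyOfFinitePresentation (f a ≫ g) := by rw [hf]; infer_instance
    exact Groth.PropsBasic2.lfp_of_comp (f a) g
  · intro V _ _ v
    obtain ⟨W, hW, hW', φ, hφ, k, g', hg'⟩ := hF V v
    obtain ⟨y, hy, hyz⟩ := hs k (g' (clPt W))
    obtain ⟨a, ha⟩ := e.symm.surjective ⟨k, y, hy⟩
    suffices H : ∀ p : Σ k, (s k : Set (F.X k)), p = ⟨k, y, hy⟩ →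
        ∃ l : Spec W ⟶ (O p.1 p.2 : Scheme.{u}),
          l ≫ (O p.1 p.2).ι ≫ E.f (i p.1) = Spec.map φ ≫ v ≫ g by
      obtain ⟨l, hl⟩ := H _ ha
      refine ⟨W, hW, hW', φ, hφ, a, l, ?_⟩
      show l ≫ f a = _
      rw [← cancel_mono g, Category.assoc, Category.assoc, hf]
      exact hl
    rintro _ rfl
    obtain ⟨l, hl⟩ := exists_lift_openImmersion (O k y).ι (g' ≫ r k) (by
      rw [Scheme.Opens.range_ι, Scheme.Hom.comp_apply]; exact hyz)
    refine ⟨l, ?_⟩
    rw [reassoc_of% hl, hi, reassoc_of% hg']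

/-- A family of finite presentation which is a V covering is refinable by standard ph coverings. -/
theorem phRefinable_of_isVCover {T : Scheme.{u}} {E : PreZeroHypercover.{w} T}
    (hE : ∀ i, LocallyOfFinitePresentation (E.f i)) (hV : HTop.IsVCover E) (U : T.affineOpens) :
    PhRefinable (U : T.Opens).ι E := by
  have : IsAffine ((U : T.Opens) : Scheme.{u}) := U.2
  obtain ⟨F, hF, hr⟩ := hV U
  have := hF.finite_index
  have := hF.isAffine_obj
  obtain ⟨n, Y, f, hY, hf, hlift, hfac⟩ := exists_affine_pieces (U : T.Opens).ι hE hF.lift hr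
  let e := ((U : T.Opens) : Scheme.{u}).isoSpec
  obtain ⟨P, c, hc, hcs, hP⟩ := exists_proper_surjective_lift (fun a => f a ≫ e.hom) (by
    intro V _ _ v
    obtain ⟨W, hW, hW', φ, hφ, a, l, hl⟩ := hlift V (v ≫ e.inv)
    refine ⟨W, hW, hW', φ, hφ, a, l, ?_⟩
    show l ≫ f a ≫ e.hom = _
    rw [reassoc_of% (show l ≫ f a = Spec.map φ ≫ v ≫ e.inv from hl), Iso.inv_hom_id,
      Category.comp_id])
  have := hc; have := hcs
  refine phRefinable_of (c ≫ e.inv) fun z => ?_
  obtain ⟨O, hzO, a, h, hh⟩ := hP z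
  obtain ⟨i, r, hir⟩ := hfac a
  refine ⟨O, hzO, i, h ≫ r, ?_⟩
  rw [Category.assoc, hir, ← Category.comp_id (f a), Category.assoc]
  rw [← e.hom_inv_id]
  simp only [Category.assoc]
  rw [reassoc_of% hh]

theorem isPhCover_iff_isVCover {X : Scheme.{u}} (E : PreZeroHypercover.{w} X)
    (hE : ∀ i, LocallyOfFinitePresentation (E.f i)) : HTop.IsPhCover E ↔ HTop.IsVCover E := by
  refine ⟨fun h U => ?_, fun h => ⟨fun i => have := hE i; inferInstance,
    fun U => phRefinable_of_isVCover hE h U⟩⟩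
  obtain ⟨F, hF, hr⟩ := h.2 U
  exact ⟨F, isStandardV_of_isStandardPh hF, hr⟩

end Groth.HTopHyper
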