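import Groth.Agent.HTopHyper.UnivHomeo
import Mathlib.RingTheory.Ideal.GoingUp
import Mathlib.RingTheory.LocalRing.ResidueField.Ideal
import Mathlib.FieldTheory.IsAlgClosed.AlgebraicClosure
import Mathlib.FieldTheory.PurelyInseparable.Basic

/-!
Ring maps inducing universal homeomorphisms on spectra, in terms of field valued points.
-/

universe u

open CategoryTheory AlgebraicGeometry

namespace Groth.HTopHyper

/-- field valued points of the target are determined by their restriction to the source -/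
def PointsInj {A C : Type u} [CommRing A] [CommRing C] (φ : A →+* C) : Prop :=
  ∀ (K : Type u) [Field K] (d₁ d₂ : C →+* K), d₁.comp φ = d₂.comp φ → d₁ = d₂

/-- elementwise form of: all residue field maps are surjective -/
def ResSurj {A C : Type u} [CommRing A] [CommRing C] (φ : A →+* C) : Prop :=
  ∀ q : Ideal C, q.IsPrime → ∀ c : C, ∃ a s : A, φ s ∉ q ∧ φ s * c - φ a ∈ q

variable {A B C : Type u} [CommRing A] [CommRing B] [CommRing C]

theorem universallyInjective_SpecMap_iff (φ : A →+* C) :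
    UniversallyInjective (Spec.map (CommRingCat.ofHom φ)) ↔ PointsInj φ := by
  refine ((tfae_universallyInjective _).out 0 1).trans ?_
  refine ⟨fun h K _ d₁ d₂ e => ?_, fun h K _ g₁ g₂ e => ?_⟩
  · have := @h K _ (Spec.map (CommRingCat.ofHom d₁)) (Spec.map (CommRingCat.ofHom d₂))
      (by simp only [← Spec.map_comp, ← CommRingCat.ofHom_comp, e])
    exact congrArg CommRingCat.Hom.hom (Spec.map_injective this)
  · obtain ⟨d₁, rfl⟩ := Spec.map_surjective g₁
    obtain ⟨d₂, rfl⟩ := Spec.map_surjective g₂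
    simp only [← Spec.map_comp] at e
    have := h K d₁.hom d₂.hom (congrArg CommRingCat.Hom.hom (Spec.map_injective e))
    exact congrArg Spec.map (CommRingCat.hom_ext this)

theorem surjective_SpecMap_iff (φ : A →+* C) (hφ : φ.IsIntegral) :
    Surjective (Spec.map (CommRingCat.ofHom φ)) ↔ RingHom.ker φ ≤ nilradical A := by
  rw [← PrimeSpectrum.denseRange_comap_iff_ker_le_nilRadical, surjective_iff]
  refine ⟨fun h => Function.Surjective.denseRange h, fun h => ?_⟩
  have hc : IsClosedMap (PrimeSpectrum.comap φ) := PrimeSpectrum.isClosedMap_comap_of_isIntegral _ hφ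
  have := h.closure_eq
  rw [hc.isClosed_range.closure_eq] at this
  exact Set.range_eq_univ.mp this

theorem specUnivHomeo_iff (φ : A →+* C) :
    FlatMor.IsUnivHomeo (Spec.map (CommRingCat.ofHom φ)) ↔
      φ.IsIntegral ∧ RingHom.ker φ ≤ nilradical A ∧ PointsInj φ := by
  rw [isUnivHomeo_iff, IsIntegralHom.SpecMap_iff, universallyInjective_SpecMap_iff]
  refine ⟨fun ⟨h₁, h₂, h₃⟩ => ⟨h₁, (surjective_SpecMap_iff φ h₁).mp h₃, h₂⟩,
    fun ⟨h₁, h₂, h₃⟩ => ⟨h₁, h₃, (surjective_SpecMap_iff φ h₁).mpr h₂⟩⟩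

/-- A map to an algebraically closed field extends along an integral extension. -/
theorem exists_extend (φ : A →+* B) (hφ : φ.IsIntegral) {K : Type u} [Field K] [IsAlgClosed K]
    (c : A →+* K) (hker : RingHom.ker φ ≤ RingHom.ker c) : ∃ d : B →+* K, d.comp φ = c := by
  let := φ.toAlgebra
  have : Algebra.IsIntegral A B := ⟨hφ⟩
  have hp : (RingHom.ker c).IsPrime := RingHom.ker_isPrime c
  obtain ⟨Q, -, hQ, hQp⟩ := Ideal.exists_ideal_over_prime_of_isIntegral (RingHom.ker c) (⊥ : Ideal B)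
    (by rwa [← RingHom.ker_eq_comap_bot])
  have : Q.LiesOver (RingHom.ker c) := ⟨hQp.symm⟩
  let : Algebra (A ⧸ RingHom.ker c) K := (RingHom.kerLift c).toAlgebra
  have : FaithfulSMul (A ⧸ RingHom.ker c) K :=
    (faithfulSMul_iff_algebraMap_injective _ _).mpr (RingHom.kerLift_injective c)
  have : Algebra.IsAlgebraic (A ⧸ RingHom.ker c) (B ⧸ Q) := Algebra.IsIntegral.isAlgebraic
  let e : (B ⧸ Q) →ₐ[A ⧸ RingHom.ker c] K := IsAlgClosed.lift
  refine ⟨e.toRingHom.comp (Ideal.Quotient.mk Q), RingHom.ext fun a => ?_⟩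
  exact e.commutes (Ideal.Quotient.mk _ a)

/-- A point of a prime spectrum as a map to an algebraically closed field. -/
theorem exists_point (p : Ideal A) [p.IsPrime] :
    ∃ (K : Type u) (_ : Field K) (_ : IsAlgClosed K) (c : A →+* K), RingHom.ker c = p := by
  refine ⟨AlgebraicClosure p.ResidueField, inferInstance, inferInstance,
    (algebraMap p.ResidueField _).comp (algebraMap A p.ResidueField), ?_⟩
  ext x
  simp [RingHom.mem_ker, Ideal.algebraMap_residueField_eq_zero]

theorem eq_of_forall_points [IsReduced B] {x y : B}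
    (h : ∀ (K : Type u) [Field K] (d : B →+* K), d x = d y) : x = y := by
  rw [← sub_eq_zero]
  refine IsNilpotent.eq_zero ?_
  rw [← mem_nilradical, nilradical_eq_sInf, Submodule.mem_sInf]
  intro J hJ
  have : Ideal.IsPrime J := hJ
  obtain ⟨K, _, _, c, hc⟩ := exists_point J
  rw [← hc, RingHom.mem_ker, map_sub, h K c, sub_self]

/-- `PointsInj` descends to an intermediate ring over which the top is integral. -/
theorem PointsInj.of_comp {φ : A →+* B} {ψ : B →+* C} (h : PointsInj (ψ.comp φ))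
    (hψ : ψ.IsIntegral) (hker : RingHom.ker ψ ≤ nilradical B) : PointsInj φ := by
  intro K _ d₁ d₂ e
  let i := algebraMap K (AlgebraicClosure K)
  have key : ∀ d : B →+* AlgebraicClosure K, ∃ d' : C →+* AlgebraicClosure K, d'.comp ψ = d :=
    fun d => exists_extend ψ hψ d (hker.trans (@nilradical_le_prime _ _ _ (RingHom.ker_isPrime d)))
  obtain ⟨e₁, he₁⟩ := key (i.comp d₁)
  obtain ⟨e₂, he₂⟩ := key (i.comp d₂)
  have : e₁ = e₂ := h _ e₁ e₂ (by rw [← RingHom.comp_assoc, he₁, ← RingHom.comp_assoc, he₂,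
    RingHom.comp_assoc, e, RingHom.comp_assoc])
  subst this
  exact RingHom.ext fun x => i.injective (RingHom.congr_fun (he₁.symm.trans he₂) x)

theorem PointsInj.comp {φ : A →+* B} {ψ : B →+* C} (h₁ : PointsInj φ) (h₂ : PointsInj ψ) :
    PointsInj (ψ.comp φ) := fun K _ d₁ d₂ e => h₂ K d₁ d₂ (h₁ K _ _ e)

theorem PointsInj.of_surjective {φ : A →+* B} {ψ : B →+* C} (h : PointsInj φ)
    (hψ : Function.Surjective ψ) : PointsInj (ψ.comp φ) := by
  intro K _ d₁ d₂ e
  have := h K (d₁.comp ψ) (d₂.comp ψ) e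
  exact RingHom.ext fun x => by obtain ⟨b, rfl⟩ := hψ x; exact RingHom.congr_fun this b

/-- Points injectivity for an adjoined set only needs checking on generators. -/
theorem pointsInj_adjoin [Algebra A B] (s : Set B)
    (h : ∀ (K : Type u) [Field K] (d₁ d₂ : Algebra.adjoin A s →+* K),
      d₁.comp (algebraMap A _) = d₂.comp (algebraMap A _) →
      ∀ x (hx : x ∈ s), d₁ ⟨x, Algebra.subset_adjoin hx⟩ = d₂ ⟨x, Algebra.subset_adjoin hx⟩) :
    PointsInj (algebraMap A (Algebra.adjoin A s)) := by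
  intro K _ d₁ d₂ e
  let := (d₁.comp (algebraMap A _)).toAlgebra
  let e₁ : Algebra.adjoin A s →ₐ[A] K := { d₁ with commutes' := fun _ => rfl }
  let e₂ : Algebra.adjoin A s →ₐ[A] K := { d₂ with commutes' := fun a => (RingHom.congr_fun e a).symm }
  have : e₁ = e₂ := AlgHom.adjoin_ext fun x hx => h K d₁ d₂ e x hx
  exact congrArg AlgHom.toRingHom this

theorem PointsInj.le_of_comap_eq {φ : A →+* C} (h : PointsInj φ) (hφ : φ.IsIntegral)
    {q₁ q₂ : Ideal C} [q₁.IsPrime] [q₂.IsPrime] (e : q₁.comap φ = q₂.comap φ) : q₂ ≤ q₁ := by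
  obtain ⟨K, _, _, c₁, rfl⟩ := exists_point q₁
  obtain ⟨d, hd⟩ := exists_extend ((Ideal.Quotient.mk q₂).comp φ)
    (hφ.trans _ _ (RingHom.isIntegral_of_surjective _ Ideal.Quotient.mk_surjective)) (c₁.comp φ)
    (by rw [← RingHom.comap_ker, Ideal.mk_ker, ← RingHom.comap_ker, e])
  have : c₁ = d.comp (Ideal.Quotient.mk q₂) := h K _ _ (by rw [RingHom.comp_assoc, hd])
  intro x hx
  rw [RingHom.mem_ker, this, RingHom.comp_apply, Ideal.Quotient.eq_zero_iff_mem.mpr hx, map_zero]

theorem PointsInj.eq_of_comap_eq {φ : A →+* C} (h : PointsInj φ) (hφ : φ.IsIntegral)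
    {q₁ q₂ : Ideal C} [q₁.IsPrime] [q₂.IsPrime] (e : q₁.comap φ = q₂.comap φ) : q₁ = q₂ :=
  le_antisymm (h.le_of_comap_eq hφ e.symm) (h.le_of_comap_eq hφ e)

/-- Purely inseparable residue fields, elementwise. -/
theorem PointsInj.pow_mem {φ : A →+* C} (h : PointsInj φ) (q : Ideal C)
    [q.IsPrime] (c : C) :
    ∃ (n : ℕ) (a s : A), φ s ∉ q ∧
      φ s * c ^ (ringExpChar (q.comap φ).ResidueField) ^ n - φ a ∈ q := by
  let := φ.toAlgebra
  let p : Ideal A := q.comap φ
  have : q.LiesOver p := ⟨rfl⟩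
  let F := p.ResidueField
  let E := q.ResidueField
  let ι : F →+* E := Ideal.ResidueField.map p q φ rfl
  let := ι.toAlgebra
  have : IsPurelyInseparable F E := by
    rw [isPurelyInseparable_iff_subsingleton_emb]
    refine ⟨fun σ₁ σ₂ => AlgHom.coe_ringHom_injective (Ideal.ResidueField.ringHom_ext ?_)⟩
    refine h _ _ _ (RingHom.ext fun a => ?_)
    have e : algebraMap C E (φ a) = algebraMap F E (algebraMap A F a) :=
      (Ideal.ResidueField.map_algebraMap p q φ rfl a).symm
    change σ₁ (algebraMap C E (φ a)) = σ₂ (algebraMap C E (φ a))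
    rw [e, σ₁.commutes, σ₂.commutes]
  obtain ⟨n, z, hz⟩ := IsPurelyInseparable.pow_mem F (ringExpChar F) (algebraMap C E c)
  obtain ⟨⟨a, s, hs⟩, hz'⟩ := IsLocalization.surj (nonZeroDivisors (A ⧸ p)) z
  obtain ⟨a, rfl⟩ := Ideal.Quotient.mk_surjective a
  obtain ⟨s, rfl⟩ := Ideal.Quotient.mk_surjective s
  refine ⟨n, a, s, ?_, ?_⟩
  · intro hsq
    exact nonZeroDivisors.ne_zero hs (Ideal.Quotient.eq_zero_iff_mem.mpr hsq)
  · rw [← Ideal.algebraMap_residueField_eq_zero, map_sub, map_mul, map_pow, ← hz, sub_eq_zero]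
    have := congrArg ι hz'
    rw [map_mul, Ideal.algebraMap_quotient_residueField_mk, Ideal.algebraMap_quotient_residueField_mk] at this
    rw [mul_comm]
    calc _ = ι z * ι (algebraMap A F s) := by
          rw [Ideal.ResidueField.map_algebraMap]; rfl
      _ = _ := by rw [this]; exact Ideal.ResidueField.map_algebraMap p q φ rfl a

end Groth.HTopHyper
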