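import Groth.Agent.HTopHyper.SheafGlue
import Groth.Agent.HTopHyper.SigmaProper
import Groth.Prelude.Def_MoreMor
import Groth.Prelude.Def_HTop3

/-! Sheaves for the ph / h topology: thickenings and abstract blow-up squares. -/

set_option autoImplicit false

universe w w' v u

open CategoryTheory CategoryTheory.Limits AlgebraicGeometry Opposite

namespace Groth.HTopHyper

/-- A finite jointly surjective family of universally closed morphisms lifts valuation rings. -/
theorem hasValLift_of_jointlySurjective {T : Scheme.{u}} (E : PreZeroHypercover.{w} T)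
    (huc : ∀ i, UniversallyClosed (E.f i)) (hsurj : ∀ t : T, ∃ i, t ∈ Set.range (E.f i)) :
    HTop.HasValLift E := by
  rw [hasValLift_iff]
  intro V _ _ g
  obtain ⟨i, y, hy⟩ := hsurj (g (genPt V))
  obtain ⟨x', hx', -⟩ :=
    Scheme.Pullback.exists_preimage_pullback (f := g) (g := E.f i) (genPt V) y hy.symm
  have := huc i
  obtain ⟨x, h, hx⟩ := (pullback.fst g (E.f i)).isClosedMap.specializingMap
    (show pullback.fst g (E.f i) x' ⤳ clPt V from specializes_clPt _)
  exact ⟨i, x', x, h, hx', hx⟩

theorem isVCover_of_proper_family {T : Scheme.{u}} (E : PreZeroHypercover.{w} T) [Finite E.I₀]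
    (hp : ∀ i, IsProper (E.f i)) (hsurj : ∀ t : T, ∃ i, t ∈ Set.range (E.f i)) :
    HTop.IsVCover E :=
  isVCover_of_hasValLift (fun i => have := hp i; inferInstance)
    (hasValLift_of_jointlySurjective E (fun i => have := hp i; inferInstance) hsurj)

theorem surjective_sigmaDesc {ι : Type u} {U : Scheme.{u}} {X : ι → Scheme.{u}}
    (f : ∀ i, X i ⟶ U) (h : ∀ y : U, ∃ i, y ∈ Set.range (f i)) : Surjective (Sigma.desc f) := by
  refine ⟨fun y => ?_⟩
  obtain ⟨i, z, rfl⟩ := h y
  exact ⟨Sigma.ι X i z, by rw [← Scheme.Hom.comp_apply, Sigma.ι_desc]⟩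

/-- A finite jointly surjective family of proper morphisms is a ph covering. -/
theorem isPhCover_of_proper_family {T : Scheme.{u}} (E : PreZeroHypercover.{0} T) [Finite E.I₀]
    (hp : ∀ i, IsProper (E.f i)) (hsurj : ∀ t : T, ∃ i, t ∈ Set.range (E.f i)) :
    HTop.IsPhCover E := by
  refine ⟨fun i => (hp i).toLocallyOfFiniteType, fun U => ?_⟩
  have : IsAffine ((U : T.Opens) : Scheme.{u}) := U.2
  let X : ULift.{u} E.I₀ → Scheme.{u} := fun i => (E.f i.down ⁻¹ᵁ (U : T.Opens) : Scheme.{u})
  let π : ∐ X ⟶ ((U : T.Opens) : Scheme.{u}) := Sigma.desc fun i => E.f i.down ∣_ (U : T.Opens)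
  have hres : ∀ i, IsProper (E.f i ∣_ (U : T.Opens)) := fun i =>
    IsZariskiLocalAtTarget.restrict (P := @IsProper) (hp i) _
  have : ∀ i : ULift.{u} E.I₀, CompactSpace (X i) := fun i =>
    have := hres i.down
    QuasiCompact.compactSpace_of_compactSpace (E.f i.down ∣_ (U : T.Opens))
  have hπ : IsProper π := isProper_sigmaDesc _ fun i => hres i.down
  have hs : Surjective π := surjective_sigmaDesc _ fun y => by
    obtain ⟨i, z, hz⟩ := hsurj ((U : T.Opens).ι y)
    have hzU : E.f i z ∈ (U : T.Opens) := hz ▸ y.2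
    refine ⟨⟨i⟩, ⟨z, hzU⟩, ?_⟩
    apply (U : T.Opens).ι.isOpenEmbedding.injective
    refine Eq.trans ?_ hz
    show ((E.f i ∣_ (U : T.Opens)) ≫ (U : T.Opens).ι) _ = _
    rw [morphismRestrict_ι]
    rfl
  let C : ∀ i, (X i).OpenCover := fun i => (X i).affineCover.finiteSubcover
  have : ∀ i, Finite (C i).I₀ := fun i => by dsimp only [C]; infer_instance
  obtain ⟨n, ⟨e⟩⟩ := Finite.exists_equiv_fin (Σ i, (C i).I₀)
  refine ⟨PreZeroHypercover.mk (Fin n) (fun k => (C (e.symm k).1).X (e.symm k).2)
      (fun k => ((C (e.symm k).1).f (e.symm k).2 ≫ Sigma.ι X (e.symm k).1) ≫ π),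
    ⟨inferInstance, inferInstanceAs (Finite (Fin n)), fun k => ?_,
      ∐ X, π, _, hπ, hs, fun k => ?_, fun k => rfl, fun x => ?_⟩, fun k => ?_⟩
  · exact inferInstanceAs (IsAffine ((X (e.symm k).1).affineCover.X _))
  · exact inferInstanceAs (IsOpenImmersion ((C (e.symm k).1).f (e.symm k).2 ≫ Sigma.ι X _))
  · obtain ⟨i, y, rfl⟩ := (sigmaOpenCover X).exists_eq x
    obtain ⟨m, z, rfl⟩ := (C i).exists_eq y
    suffices H : ∀ p : Σ i, (C i).I₀, p = ⟨i, m⟩ →
        Sigma.ι X i ((C i).f m z) ∈ Set.range ((C p.1).f p.2 ≫ Sigma.ι X p.1) by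
      obtain ⟨k, hk⟩ := e.symm.surjective ⟨i, m⟩
      exact ⟨k, H _ hk⟩
    rintro _ rfl
    exact ⟨z, rfl⟩
  · refine ⟨(e.symm k).1.down, (C _).f _ ≫ (E.f _ ⁻¹ᵁ (U : T.Opens)).ι, ?_⟩
    change _ = (((C _).f _ ≫ Sigma.ι X _) ≫ π) ≫ _
    simp only [π, Category.assoc, Sigma.ι_desc_assoc, morphismRestrict_ι]

section Site

variable {S : Scheme.{u}}

theorem isSheafFor_over {K : Precoverage Scheme.{u}} {F : (Over S)ᵒᵖ ⥤ Type v}
    (hF : Presieve.IsSheaf (K.toGrothendieck.over S) F) {Y : Over S} {α : Type w}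
    (X : α → Over S) (f : ∀ i, X i ⟶ Y)
    (h : Presieve.ofArrows (fun i => (X i).left) (fun i => (f i).left) ∈ K Y.left) :
    Presieve.IsSheafFor F (Presieve.ofArrows X f) := by
  refine hF.isSheafFor _ ?_
  rw [GrothendieckTopology.mem_over_iff, ← Sieve.ofArrows, Sieve.overEquiv_ofArrows]
  exact Precoverage.generate_mem_toGrothendieck h

/-- The two-member family. -/
def twoX {C : Type w} (A B : C) : Bool → C := fun c => cond c A B

/-- The morphisms of the two-member family. -/
def twoF {C : Type w} [Category.{w'} C] {A B Y : C} (a : A ⟶ Y) (b : B ⟶ Y) :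
    ∀ c, twoX A B c ⟶ Y
  | true => a
  | false => b

/-- The sheaf condition for pairs of proper morphisms with property `Q`. -/
def SheafForPairs (Q : MorphismProperty Scheme.{u}) (F : (Over S)ᵒᵖ ⥤ Type v) : Prop :=
  ∀ (Y A B : Over S) (a : A ⟶ Y) (b : B ⟶ Y), IsProper a.left → IsProper b.left → Q a.left →
    Q b.left → (∀ y : Y.left, y ∈ Set.range a.left ∨ y ∈ Set.range b.left) →
    Presieve.IsSheafFor F (Presieve.ofArrows (twoX A B) (twoF a b))

theorem map_over {A B C : Over S} (F : (Over S)ᵒᵖ ⥤ Type v) (a : A ⟶ B) (b : B ⟶ C)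
    (s : F.obj (op C)) : F.map (a ≫ b).op s = F.map a.op (F.map b.op s) := by
  rw [op_comp, F.map_comp]; rfl

theorem sheafForPairs_ph (F : HTop.ShPh S) : SheafForPairs ⊤ F.obj := by
  intro Y A B a b ha hb _ _ hs
  refine isSheafFor_over (K := HTop.phPrecoverage) ((isSheaf_iff_isSheaf_of_type _ _).mp F.property)
    _ _ ?_
  let E : PreZeroHypercover.{0} Y.left :=
    ⟨Bool, fun c => (twoX A B c).left, fun c => (twoF a b c).left⟩
  have : Finite E.I₀ := inferInstanceAs (Finite Bool)
  refine (HTop.presieve₀_mem_phPrecoverage_iff E).mpr (isPhCover_of_proper_family E ?_ fun y => ?_)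
  · rintro (_ | _)
    · exact hb
    · exact ha
  · rcases hs y with h | h
    · exact ⟨true, h⟩
    · exact ⟨false, h⟩

theorem sheafForPairs_h (F : HTop.ShH S) : SheafForPairs @LocallyOfFinitePresentation F.obj := by
  intro Y A B a b ha hb ha' hb' hs
  refine isSheafFor_over (K := HTop.hPrecoverage) ((isSheaf_iff_isSheaf_of_type _ _).mp F.property)
    _ _ ?_
  let E : PreZeroHypercover.{0} Y.left :=
    ⟨Bool, fun c => (twoX A B c).left, fun c => (twoF a b c).left⟩
  have : Finite E.I₀ := inferInstanceAs (Finite Bool)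
  refine (HTop.presieve₀_mem_hPrecoverage_iff E).mpr ⟨?_, isVCover_of_proper_family E ?_ fun y => ?_⟩
  · rintro (_ | _)
    · exact hb'
    · exact ha'
  · rintro (_ | _)
    · exact hb
    · exact ha
  · rcases hs y with h | h
    · exact ⟨true, h⟩
    · exact ⟨false, h⟩

variable {Q : MorphismProperty Scheme.{u}} {F : (Over S)ᵒᵖ ⥤ Type v}

theorem bijective_of_thickening (hF : SheafForPairs Q F) {X X' : Over S} (f : X ⟶ X')
    (hf : MoreMor.IsThickening f.left) (hQ : Q f.left) : Function.Bijective (F.map f.op) := by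
  have := hf.1
  have h := (Presieve.isSheafFor_arrows_iff F (twoF f f)).mp
    (hF X' X X f f inferInstance inferInstance hQ hQ
      fun y => Or.inl (hf.2.surj y))
  have : Mono f := Over.mono_of_mono_left f
  refine ⟨fun s t hst => ?_, fun x => ?_⟩
  · obtain ⟨w, -, hu⟩ := h (fun c => F.map (twoF f f c).op s) fun i j Z gi gj hg => by
      rw [← map_over, ← map_over, hg]
    exact (hu s fun _ => rfl).trans (hu t (by rintro (_ | _) <;> exact hst.symm)).symm
  · obtain ⟨w, hw, -⟩ := h (fun c => Bool.rec (motive := fun c => F.obj (op (twoX X X c))) x x c)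
      (by
        rintro (_ | _) (_ | _) Z gi gj hg <;>
          (obtain rfl : gi = gj := (cancel_mono f).mp hg; rfl))
    exact ⟨w, hw true⟩

/-- Abstract blow-up squares give cartesian squares of sections. -/
theorem existsUnique_of_square [Q.IsStableUnderBaseChange] (hF : SheafForPairs Q F)
    {E Z X Y : Over S} (e : E ⟶ X) (π : E ⟶ Z) (f : X ⟶ Y) (i : Z ⟶ Y)
    [IsProper f.left] [IsClosedImmersion i.left] (hQf : Q f.left) (hQi : Q i.left)
    (hΔ : Q (pullback.diagonal f.left))
    (hsq : IsPullback e.left π.left f.left i.left) (U : Y.left.Opens)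
    (hU : ∀ y : Y.left, y ∈ U ∨ y ∈ Set.range i.left) (hiso : IsIso (f.left ∣_ U))
    (t : F.obj (op Z)) (s' : F.obj (op X)) (hts : F.map π.op t = F.map e.op s') :
    ∃! s : F.obj (op Y), F.map i.op s = t ∧ F.map f.op s = s' := by
  have hcov : ∀ y : Y.left, y ∈ Set.range f.left ∨ y ∈ Set.range i.left := by
    intro y
    refine (hU y).imp (fun hy => ?_) id
    obtain ⟨x, hx⟩ := (f.left ∣_ U).surjective ⟨y, hy⟩
    exact ⟨x.1, (congrArg (fun q : _ ⟶ Y.left => q x) (morphismRestrict_ι f.left U).symm).trans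
      (congrArg U.ι hx)⟩
  -- the fibre product of `X` with itself over `Y`
  let P : Over S := Over.mk (pullback.fst f.left f.left ≫ X.hom)
  let p₁ : P ⟶ X := Over.homMk (pullback.fst f.left f.left) rfl
  have h2w : pullback.snd f.left f.left ≫ X.hom = pullback.fst f.left f.left ≫ X.hom := by
    rw [← Over.w f, pullback.condition_assoc]
  let p₂ : P ⟶ X := Over.homMk (pullback.snd f.left f.left) h2w
  have hp : p₁ ≫ f = p₂ ≫ f := Over.OverMorphism.ext pullback.condition
  let Δ : X ⟶ P := Over.homMk (pullback.diagonal f.left) (by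
    change pullback.diagonal f.left ≫ pullback.fst f.left f.left ≫ X.hom = X.hom
    rw [pullback.diagonal_fst_assoc])
  let R : Over S := Over.mk (pullback.fst (pullback.fst f.left f.left ≫ f.left) i.left ≫ P.hom)
  let j : R ⟶ P := Over.homMk (pullback.fst (pullback.fst f.left f.left ≫ f.left) i.left) rfl
  have hmid : ∀ (W : Over S) (a : W ⟶ X) (c : W ⟶ Z), a ≫ f = c ≫ i →
      F.map a.op s' = F.map c.op t := by
    intro W a c hac
    have hac' : a.left ≫ f.left = c.left ≫ i.left := congrArg CommaMorphism.left hac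
    let l : W ⟶ E := Over.homMk (hsq.lift a.left c.left hac') (by
      rw [← Over.w e, hsq.lift_fst_assoc]; exact Over.w a)
    have h1 : l ≫ e = a := Over.OverMorphism.ext (hsq.lift_fst _ _ _)
    have h2 : l ≫ π = c := Over.OverMorphism.ext (hsq.lift_snd _ _ _)
    rw [← h1, ← h2, map_over, map_over, hts]
  have hs' : F.map p₁.op s' = F.map p₂.op s' := by
    have hcovP : ∀ y : P.left, y ∈ Set.range Δ.left ∨ y ∈ Set.range j.left := by
      intro y
      rcases hU ((pullback.fst f.left f.left ≫ f.left) y) with hy | hy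
      · let W : P.left.Opens := (pullback.fst f.left f.left ≫ f.left) ⁻¹ᵁ U
        have h1 : Set.range (W.ι ≫ pullback.fst f.left f.left) ⊆ Set.range (f.left ⁻¹ᵁ U).ι := by
          rintro _ ⟨z, rfl⟩
          rw [Scheme.Opens.range_ι]
          exact z.2
        have h2 : Set.range (W.ι ≫ pullback.snd f.left f.left) ⊆ Set.range (f.left ⁻¹ᵁ U).ι := by
          rintro _ ⟨z, rfl⟩
          rw [Scheme.Opens.range_ι]
          change f.left ((W.ι ≫ pullback.snd f.left f.left) z) ∈ U
          rw [← Scheme.Hom.comp_apply, Category.assoc, ← pullback.condition]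
          exact z.2
        have hl : IsOpenImmersion.lift _ _ h1 = IsOpenImmersion.lift _ _ h2 := by
          rw [← cancel_mono (f.left ∣_ U), ← cancel_mono U.ι]
          simp only [Category.assoc, morphismRestrict_ι, IsOpenImmersion.lift_fac_assoc,
            pullback.condition]
        have h12 : W.ι ≫ pullback.fst f.left f.left = W.ι ≫ pullback.snd f.left f.left := by
          rw [← IsOpenImmersion.lift_fac _ _ h1, hl, IsOpenImmersion.lift_fac]
        let w : (W : Scheme.{u}) := ⟨y, hy⟩
        refine Or.inl ⟨(W.ι ≫ pullback.fst f.left f.left) w, ?_⟩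
        change (pullback.diagonal f.left) ((W.ι ≫ pullback.fst f.left f.left) w) = y
        have : (W.ι ≫ pullback.fst f.left f.left) ≫ pullback.diagonal f.left = W.ι := by
          apply pullback.hom_ext
          · simp
          · simp [← h12]
        exact congrArg (fun q : (W : Scheme.{u}) ⟶ pullback f.left f.left => q w) this
      · obtain ⟨z, hz⟩ := hy
        obtain ⟨r, hr, -⟩ := Scheme.Pullback.exists_preimage_pullback
          (f := pullback.fst f.left f.left ≫ f.left) (g := i.left) y z hz.symm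
        exact Or.inr ⟨r, hr⟩
    refine (hF P X R Δ j (inferInstanceAs (IsProper (pullback.diagonal f.left)))
      (inferInstanceAs (IsProper (pullback.fst (pullback.fst f.left f.left ≫ f.left) i.left))) hΔ
      (MorphismProperty.pullback_fst _ _ hQi) hcovP).isSeparatedFor.ext ?_
    rintro W g ⟨(_ | _)⟩
    · change F.map j.op (F.map p₁.op s') = F.map j.op (F.map p₂.op s')
      let c : R ⟶ Z := Over.homMk (pullback.snd (pullback.fst f.left f.left ≫ f.left) i.left) (by
        rw [← Over.w i, ← pullback.condition_assoc, Category.assoc, Over.w f]; rfl)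
      have hc : j ≫ p₁ ≫ f = c ≫ i :=
        Over.OverMorphism.ext pullback.condition
      rw [← map_over, ← map_over, hmid R (j ≫ p₁) c (by rw [Category.assoc, hc]),
        hmid R (j ≫ p₂) c (by rw [Category.assoc, ← hp, hc])]
    · change F.map Δ.op (F.map p₁.op s') = F.map Δ.op (F.map p₂.op s')
      rw [← map_over, ← map_over]
      congr 4
      exact Over.OverMorphism.ext ((pullback.diagonal_fst _).trans (pullback.diagonal_snd _).symm)
  have : Mono i := Over.mono_of_mono_left i
  obtain ⟨s, hs, hu⟩ := (Presieve.isSheafFor_arrows_iff F (twoF f i)).mp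
    (hF Y X Z f i inferInstance inferInstance hQf hQi hcov)
    (fun c => Bool.rec (motive := fun c => F.obj (op (twoX X Z c))) t s' c) (by
      rintro (_ | _) (_ | _) W gi gj hg
      · obtain rfl : gi = gj := (cancel_mono i).mp hg
        rfl
      · exact (hmid W gj gi hg.symm).symm
      · exact hmid W gi gj hg
      · change W ⟶ X at gi gj
        change gi ≫ f = gj ≫ f at hg
        change F.map gi.op s' = F.map gj.op s'
        let l : W ⟶ P := Over.homMk (pullback.lift gi.left gj.left (congrArg CommaMorphism.left hg))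
          (by
            change _ ≫ pullback.fst f.left f.left ≫ X.hom = _
            rw [pullback.lift_fst_assoc]; exact Over.w gi)
        have h1 : l ≫ p₁ = gi := Over.OverMorphism.ext (pullback.lift_fst _ _ _)
        have h2 : l ≫ p₂ = gj := Over.OverMorphism.ext (pullback.lift_snd _ _ _)
        rw [← h1, ← h2, map_over, map_over]
        exact congrArg _ hs')
  exact ⟨s, ⟨hs false, hs true⟩, fun r hr => hu r (by
    rintro (_ | _)
    exacts [hr.1, hr.2])⟩

end Site

end Groth.HTopHyper
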