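import Mathlib

/-! A finite type algebra over a valuation ring with algebraically closed fraction field which has a
point in a local extension domain has a point in the valuation ring itself. -/

set_option autoImplicit false
set_option backward.isDefEq.respectTransparency false

universe u v

open Polynomial IsLocalRing
open scoped TensorProduct

namespace Groth.HTopHyper

theorem isIntegrallyClosed_mvPolynomial (W : Type u) [CommRing W] [IsDomain W] [IsIntegrallyClosed W]
    (n : ℕ) : IsIntegrallyClosed (MvPolynomial (Fin n) W) := by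
  induction n with
  | zero => exact .of_equiv (MvPolynomial.isEmptyAlgEquiv W (Fin 0)).symm.toRingEquiv
  | succ n ih => exact .of_equiv (MvPolynomial.finSuccEquiv W n).symm.toRingEquiv

/-- A ring map to an algebraically closed field extends along an integral injective extension. -/
theorem exists_extension_of_isIntegral {R S K : Type u} [CommRing R] [CommRing S] [Algebra R S]
    [Algebra.IsIntegral R S] (hinj : Function.Injective (algebraMap R S)) [Field K] [IsAlgClosed K]
    [Algebra R K] : Nonempty (S →ₐ[R] K) := by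
  let P : Ideal R := RingHom.ker (algebraMap R K)
  have hP : P.IsPrime := RingHom.ker_isPrime _
  obtain ⟨Q, -, hQ, hQP⟩ := Ideal.exists_ideal_over_prime_of_isIntegral P (⊥ : Ideal S)
    (by rw [← RingHom.ker_eq_comap_bot, (RingHom.injective_iff_ker_eq_bot _).1 hinj]; exact bot_le)
  have : Q.LiesOver P := ⟨hQP.symm⟩
  let : Algebra (R ⧸ P) K := (Ideal.Quotient.lift P (algebraMap R K) fun a ha => ha).toAlgebra
  have : IsScalarTower R (R ⧸ P) K := .of_algebraMap_eq' rfl
  have : FaithfulSMul (R ⧸ P) K := (faithfulSMul_iff_algebraMap_injective _ _).2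
    (RingHom.lift_injective_of_ker_le_ideal P _ le_rfl)
  have : Algebra.IsIntegral (R ⧸ P) (S ⧸ Q) := Algebra.IsIntegral.tower_top (R := R)
  have : Module.IsTorsionFree (R ⧸ P) (S ⧸ Q) := by
    refine Module.isTorsionFree_iff_algebraMap_injective.2 ((injective_iff_map_eq_zero _).2 ?_)
    intro a ha
    obtain ⟨a, rfl⟩ := Ideal.Quotient.mk_surjective a
    rw [Ideal.Quotient.algebraMap_mk_of_liesOver, Ideal.Quotient.eq_zero_iff_mem] at ha
    rwa [Ideal.Quotient.eq_zero_iff_mem, ← hQP]
  exact ⟨((IsAlgClosed.lift : S ⧸ Q →ₐ[R ⧸ P] K).restrictScalars R).comp (Ideal.Quotient.mkₐ R Q)⟩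

/-- If `B / pB` is finite over `P` then the fibre at `p` is finite. -/
theorem finite_fiber_of_finite_quotient {P B : Type u} [CommRing P] [CommRing B] [Algebra P B]
    (p : Ideal P) [p.IsPrime] [Module.Finite P (B ⧸ p.map (algebraMap P B))] :
    Module.Finite p.ResidueField (p.Fiber B) := by
  classical
  obtain ⟨t, ht⟩ := Module.Finite.fg_top (R := P) (M := B ⧸ p.map (algebraMap P B))
  choose l hl using fun z : B ⧸ p.map (algebraMap P B) => Ideal.Quotient.mk_surjective z
  let N : Submodule p.ResidueField (p.Fiber B) :=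
    Submodule.span _ ↑(t.image fun z => (1 : p.ResidueField) ⊗ₜ[P] l z)
  have hm : ∀ b ∈ p.map (algebraMap P B), (1 : p.ResidueField) ⊗ₜ[P] b = 0 := by
    intro b hb
    induction hb using Submodule.span_induction with
    | mem y hy =>
      obtain ⟨w, hw, rfl⟩ := hy
      rw [Algebra.algebraMap_eq_smul_one, ← TensorProduct.smul_tmul, ← Algebra.algebraMap_eq_smul_one,
        Ideal.algebraMap_residueField_eq_zero.mpr hw, TensorProduct.zero_tmul]
    | zero => simp
    | add y z _ _ hy hz => rw [TensorProduct.tmul_add, hy, hz, add_zero]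
    | smul c y _ hy =>
      rw [show (1 : p.ResidueField) ⊗ₜ[P] (c • y) =
        ((1 : p.ResidueField) ⊗ₜ[P] c) * (1 ⊗ₜ[P] y) by
          rw [Algebra.TensorProduct.tmul_mul_tmul, one_mul, smul_eq_mul], hy, mul_zero]
  have h1 : ∀ b : B, (1 : p.ResidueField) ⊗ₜ[P] b ∈ N := by
    intro b
    obtain ⟨c, hc⟩ := Submodule.mem_span_finset'.mp
      (show Ideal.Quotient.mk (p.map (algebraMap P B)) b ∈ Submodule.span P (t : Set _) by
        rw [ht]; trivial)
    have hdiff : b - ∑ z : t, c z • l z ∈ p.map (algebraMap P B) := by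
      rw [← Ideal.Quotient.eq, map_sum, ← hc]
      refine Finset.sum_congr rfl fun z _ => ?_
      conv_lhs => rw [← hl z.1]
      rfl
    have := hm _ hdiff
    rw [TensorProduct.tmul_sub, sub_eq_zero] at this
    rw [this, TensorProduct.tmul_sum]
    refine N.sum_mem fun z _ => ?_
    rw [TensorProduct.tmul_smul]
    exact N.smul_of_tower_mem _ (Submodule.subset_span (Finset.mem_image_of_mem _ z.2))
  refine ⟨⟨_, (top_le_iff.mp fun z _ => ?_ : N = ⊤)⟩⟩
  induction z using TensorProduct.induction_on with
  | zero => exact N.zero_mem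
  | add a b ha hb => exact N.add_mem (ha trivial) (hb trivial)
  | tmul a b =>
    have := N.smul_mem a (h1 b)
    rwa [TensorProduct.smul_tmul', smul_eq_mul, mul_one] at this

/-- A nonzero polynomial over a valuation ring is a constant times one with a coefficient `1`. -/
theorem exists_eq_C_mul_primitive {W σ : Type*} [CommRing W] [IsDomain W] [ValuationRing W]
    (p : MvPolynomial σ W) (hp : p ≠ 0) :
    ∃ (c : W) (p₀ : MvPolynomial σ W) (d : σ →₀ ℕ), c ≠ 0 ∧ p = MvPolynomial.C c * p₀ ∧
      p₀.coeff d = 1 := by
  have key : ∀ s : Finset (σ →₀ ℕ), s.Nonempty → ∃ d ∈ s, ∀ e ∈ s, p.coeff d ∣ p.coeff e := by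
    intro s hs
    induction hs using Finset.Nonempty.cons_induction with
    | singleton a => exact ⟨a, by simp, by simp⟩
    | cons a s ha hs ih =>
      obtain ⟨d, hd, hmin⟩ := ih
      rcases ValuationRing.iff_dvd_total.mp ‹_› |>.total (p.coeff a) (p.coeff d) with h | h
      · exact ⟨a, Finset.mem_cons_self _ _, (Finset.forall_mem_cons _ _).mpr
          ⟨dvd_rfl, fun e he => h.trans (hmin e he)⟩⟩
      · exact ⟨d, Finset.mem_cons_of_mem hd, (Finset.forall_mem_cons _ _).mpr ⟨h, hmin⟩⟩
  obtain ⟨d, hd, hmin⟩ := key p.support (MvPolynomial.support_nonempty.mpr hp)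
  have hc : p.coeff d ≠ 0 := MvPolynomial.mem_support_iff.mp hd
  obtain ⟨p₀, hp₀⟩ : MvPolynomial.C (p.coeff d) ∣ p := by
    rw [MvPolynomial.C_dvd_iff_dvd_coeff]
    intro e
    by_cases he : e ∈ p.support
    · exact hmin e he
    · rw [MvPolynomial.notMem_support_iff.mp he]; exact dvd_zero _
  refine ⟨_, p₀, d, hc, hp₀, ?_⟩
  have := congrArg (MvPolynomial.coeff d) hp₀
  rw [MvPolynomial.coeff_C_mul] at this
  exact (mul_eq_left₀ hc).mp this.symm

variable {W : Type u} [CommRing W] [IsDomain W] [ValuationRing W]
  {K : Type u} [Field K] [Algebra W K] [IsFractionRing W K] [IsAlgClosed K]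

variable (K) in
include K in
theorem exists_root_of_monic {f : W[X]} (hf : f.Monic) (hd : f.natDegree ≠ 0) :
    ∃ a, f.IsRoot a := by
  obtain ⟨x, hx⟩ := IsAlgClosed.exists_root (f.map (algebraMap W K)) (by
    rw [hf.degree_map, Polynomial.degree_eq_natDegree hf.ne_zero]
    exact_mod_cast hd)
  have hi : IsIntegral W x := ⟨f, hf, by rwa [IsRoot, eval_map] at hx⟩
  obtain ⟨a, rfl⟩ := IsIntegrallyClosed.algebraMap_eq_of_integral hi
  refine ⟨a, IsFractionRing.injective W K ?_⟩
  rw [IsRoot, eval_map, eval₂_at_apply] at hx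
  rw [map_zero]
  exact hx

variable (K) in
include K in
theorem exists_unit_root {f : W[X]} (hf : f.Monic) {j : ℕ} (hj : j < f.natDegree)
    (hu : IsUnit (f.coeff j)) : ∃ a, f.IsRoot a ∧ IsUnit a := by
  suffices H : ∀ n, ∀ f : W[X], f.Monic → f.natDegree = n →
      (∀ a, f.IsRoot a → ¬ IsUnit a) → f.map (residue W) = X ^ n by
    by_contra! hc
    have h := congrArg (fun q => q.coeff j) (H _ f hf rfl hc)
    simp only [coeff_map, coeff_X_pow, if_neg hj.ne] at h
    exact ((residue_eq_zero_iff _).mp h) hu
  intro n
  induction n with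
  | zero =>
    intro f hf hd _
    rw [hf.natDegree_eq_zero.mp hd, Polynomial.map_one, pow_zero]
  | succ n ih =>
    intro f hf hd hr
    obtain ⟨a, ha⟩ := exists_root_of_monic K hf (by omega)
    obtain ⟨g, hg⟩ := dvd_iff_isRoot.mpr ha
    have hgm : g.Monic := (monic_X_sub_C a).of_mul_monic_left (hg ▸ hf)
    have hgd : g.natDegree = n := by
      have := congrArg natDegree hg
      rw [(monic_X_sub_C a).natDegree_mul hgm, natDegree_X_sub_C] at this
      omega
    have hga : ∀ b, g.IsRoot b → ¬ IsUnit b := fun b hb => hr b (by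
      rw [IsRoot, hg, eval_mul, show g.eval b = 0 from hb, mul_zero])
    have ha0 : residue W a = 0 := (residue_eq_zero_iff _).mpr (hr a ha)
    rw [hg, Polynomial.map_mul, ih g hgm hgd hga, Polynomial.map_sub, map_X, map_C, ha0, C_0,
      sub_zero, pow_succ']

variable (K) in
include K in
theorem infinite_residueField : Infinite (ResidueField W) := by
  have : IsAlgClosed (ResidueField W) := IsAlgClosed.of_exists_root _ fun p hp hirr => by
    obtain ⟨q, hq, hd, hqm⟩ := lifts_and_natDegree_eq_and_monic
      ((lifts_iff_coeff_lifts (f := residue W) p).mpr fun n => residue_surjective _) hp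
    obtain ⟨a, ha⟩ := exists_root_of_monic K hqm (by rw [hd]; exact hirr.natDegree_pos.ne')
    refine ⟨residue W a, ?_⟩
    rw [← hq, eval_map, eval₂_at_apply, show q.eval a = 0 from ha, map_zero]
  infer_instance

theorem exists_weaklyQuasiFinite (B : Type u) [CommRing B] [IsDomain B] [Algebra W B]
    [Algebra.FiniteType W B] (hinj : Function.Injective (algebraMap W B))
    (hne : (maximalIdeal W).map (algebraMap W B) ≠ ⊤) :
    ∃ (s : ℕ) (f : MvPolynomial (Fin s) W →ₐ[W] B) (q : Ideal B) (_ : q.IsPrime),
      Function.Injective f ∧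
      q.comap f.toRingHom = RingHom.ker (MvPolynomial.map (σ := Fin s) (residue W)) ∧
      (letI := f.toRingHom.toAlgebra; Algebra.WeaklyQuasiFiniteAt (MvPolynomial (Fin s) W) q) := by
  classical
  let k := ResidueField W
  let mB := (maximalIdeal W).map (algebraMap W B)
  let D := B ⧸ mB
  let : Algebra k D := (Ideal.quotientMap mB (algebraMap W B) Ideal.le_comap_map).toAlgebra
  have : IsScalarTower W k D := .of_algebraMap_eq fun w => rfl
  have : Algebra.FiniteType k D := Algebra.FiniteType.of_restrictScalars_finiteType W k D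
  have : Nontrivial D := Ideal.Quotient.nontrivial_iff.mpr hne
  obtain ⟨s, g, hg, hgfin⟩ := exists_finite_inj_algHom_of_fg k D
  choose x hx using fun i : Fin s => Ideal.Quotient.mk_surjective (g (MvPolynomial.X i))
  let f : MvPolynomial (Fin s) W →ₐ[W] B := MvPolynomial.aeval x
  let π : MvPolynomial (Fin s) W →+* MvPolynomial (Fin s) k := MvPolynomial.map (residue W)
  have hπ : (Ideal.Quotient.mk mB).comp f.toRingHom = g.toRingHom.comp π := by
    apply MvPolynomial.ringHom_ext
    · intro w
      change Ideal.Quotient.mk mB (f (MvPolynomial.C w)) = g (π (MvPolynomial.C w))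
      rw [show f (MvPolynomial.C w) = algebraMap W B w from f.commutes w,
        show π (MvPolynomial.C w) = MvPolynomial.C (residue W w) from MvPolynomial.map_C _ _]
      exact (g.commutes (residue W w)).symm
    · intro i
      change Ideal.Quotient.mk mB (f (MvPolynomial.X i)) = g (π (MvPolynomial.X i))
      rw [show π (MvPolynomial.X i) = MvPolynomial.X i from MvPolynomial.map_X _ _,
        show f (MvPolynomial.X i) = x i from MvPolynomial.aeval_X _ _, hx]
  have hπ' : ∀ p, Ideal.Quotient.mk mB (f p) = g (π p) := fun p => RingHom.congr_fun hπ p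
  have hf : Function.Injective f := by
    rw [injective_iff_map_eq_zero]
    intro p hp
    by_contra hp0
    obtain ⟨c, p₀, d, hc, rfl, hd⟩ := exists_eq_C_mul_primitive p hp0
    rw [map_mul, MvPolynomial.aeval_C] at hp
    rcases mul_eq_zero.mp hp with h | h
    · exact hc (hinj (h.trans (map_zero _).symm))
    · have h1 : π p₀ = 0 := hg (by rw [← hπ', h, map_zero, map_zero])
      have h2 := congrArg (MvPolynomial.coeff d) h1
      simp [π, MvPolynomial.coeff_map, hd] at h2
  let pW : Ideal (MvPolynomial (Fin s) W) := RingHom.ker π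
  have : pW.IsPrime := RingHom.ker_isPrime _
  let : Algebra (MvPolynomial (Fin s) W) B := f.toRingHom.toAlgebra
  have hsmul : ∀ (p : MvPolynomial (Fin s) W) (b : B), p • b = f p * b := fun p b => rfl
  have : IsScalarTower W (MvPolynomial (Fin s) W) B := .of_algebraMap_eq fun w => (f.commutes w).symm
  have : Algebra.FiniteType (MvPolynomial (Fin s) W) B :=
    Algebra.FiniteType.of_restrictScalars_finiteType W _ B
  -- a prime over the generic point of the special fibre
  obtain ⟨q, hq, hqover⟩ : ∃ q : Ideal B, q.IsPrime ∧ q.comap f.toRingHom = pW := by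
    letI := g.toRingHom.toAlgebra
    have : Algebra.IsIntegral (MvPolynomial (Fin s) k) D :=
      ⟨RingHom.Finite.to_isIntegral hgfin⟩
    obtain ⟨Q, -, hQ, hQ'⟩ := Ideal.exists_ideal_over_prime_of_isIntegral
      (⊥ : Ideal (MvPolynomial (Fin s) k)) (⊥ : Ideal D)
      (fun p (hp : g p = 0) => hg (hp.trans (map_zero g).symm))
    refine ⟨Q.comap (Ideal.Quotient.mk mB), inferInstance, ?_⟩
    ext p
    change Ideal.Quotient.mk mB (f p) ∈ Q ↔ π p = 0
    rw [hπ', ← Ideal.mem_bot, ← hQ']
    rfl
  have : q.LiesOver pW := ⟨hqover.symm⟩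
  -- the fibre is finite
  have hle : mB ≤ pW.map (algebraMap (MvPolynomial (Fin s) W) B) := by
    refine Ideal.map_le_iff_le_comap.mpr fun w hw => ?_
    rw [Ideal.mem_comap, ← f.commutes w]
    refine Ideal.mem_map_of_mem (algebraMap (MvPolynomial (Fin s) W) B) ?_
    show π (MvPolynomial.C w) = 0
    rw [show π (MvPolynomial.C w) = MvPolynomial.C (residue W w) from MvPolynomial.map_C _ _,
      (residue_eq_zero_iff w).mpr hw, map_zero]
  have : Module.Finite (MvPolynomial (Fin s) W) (B ⧸ pW.map (algebraMap (MvPolynomial (Fin s) W) B)) := by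
    have h1 : (g.toRingHom.comp π).Finite :=
      RingHom.Finite.comp hgfin (RingHom.Finite.of_surjective _ (MvPolynomial.map_surjective _ residue_surjective))
    have h2 := RingHom.Finite.comp (RingHom.Finite.of_surjective (Ideal.Quotient.factor hle)
      (Ideal.Quotient.factor_surjective hle)) h1
    rw [← hπ] at h2
    exact RingHom.finite_algebraMap.mp h2
  have := finite_fiber_of_finite_quotient (B := B) pW
  obtain ⟨Q', hQ', hQ'q⟩ : ∃ Q : Ideal (pW.Fiber B), Q.IsPrime ∧
      Q.comap Algebra.TensorProduct.includeRight.toRingHom = q := by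
    let e := PrimeSpectrum.preimageHomeomorphFiber (MvPolynomial (Fin s) W) B ⟨pW, inferInstance⟩
    let pt : PrimeSpectrum.comap (algebraMap (MvPolynomial (Fin s) W) B) ⁻¹' {⟨pW, inferInstance⟩} :=
      ⟨⟨q, hq⟩, PrimeSpectrum.ext hqover⟩
    exact ⟨(e pt).asIdeal, (e pt).2, congr($(e.symm_apply_apply pt).1.1)⟩
  have : Algebra.QuasiFiniteAt pW.ResidueField Q' :=
    Algebra.QuasiFinite.of_isLocalization Q'.primeCompl (S := pW.Fiber B)
  exact ⟨s, f, q, hq, hf, hqover,
    Algebra.WeaklyQuasiFiniteAt.of_quasiFiniteAt_residueField (S := B) (p := pW) (q := q) Q' hQ'q⟩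

variable (K) in
include K in
/-- The abstract step: extend a point of the base to the Zariski main theorem open. -/
theorem exists_algHom_of_zmt {P B : Type u} [CommRing P] [IsDomain P] [IsIntegrallyClosed P]
    [CommRing B] [IsDomain B] [Algebra W P] [Algebra W B] [Algebra P B] [IsScalarTower W P B]
    (hinjP : Function.Injective (algebraMap P B)) (ev : P →ₐ[W] W) (r : B) (hrint : IsIntegral P r)
    (hzmt : ∀ x, ∃ m, IsIntegral P (r ^ m * x)) (j : ℕ) (hj : j < (minpoly P r).natDegree)
    (hju : IsUnit (ev ((minpoly P r).coeff j))) : Nonempty (B →ₐ[W] W) := by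
  classical
  have : Module.IsTorsionFree P B := Module.isTorsionFree_iff_algebraMap_injective.2 hinjP
  let μ := minpoly P r
  have hμ : μ.Monic := minpoly.monic hrint
  obtain ⟨α, hα, hαu⟩ := exists_unit_root K (hμ.map ev.toRingHom) (j := j)
    (by rwa [hμ.natDegree_map]) (by rw [coeff_map]; exact hju)
  -- the point of the integral closure
  have hα' : eval₂ ev.toRingHom α (minpoly P r) = 0 := by rwa [IsRoot, eval_map] at hα
  let Ad := Algebra.adjoin (P) {r}
  let ψ : Ad →+* K := (algebraMap W K).comp ((AdjoinRoot.lift ev.toRingHom α hα').comp (minpoly.equivAdjoin hrint).symm.toRingHom)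
  let rA : Ad := ⟨r, Algebra.self_mem_adjoin_singleton _ r⟩
  have hroot : (minpoly.equivAdjoin hrint).symm rA = AdjoinRoot.root μ := by
    rw [AlgEquiv.symm_apply_eq]
    exact Subtype.ext (by simp [minpoly.equivAdjoin, rA, μ])
  let C := integralClosure (P) B
  have hle : Ad ≤ C := Algebra.adjoin_le (Set.singleton_subset_iff.mpr hrint)
  let : Algebra Ad C := (Subalgebra.inclusion hle).toRingHom.toAlgebra
  have : IsScalarTower (P) Ad C := .of_algebraMap_eq fun _ => rfl
  have : Algebra.IsIntegral Ad C := Algebra.IsIntegral.tower_top (R := P)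
  let : Algebra Ad K := ψ.toAlgebra
  obtain ⟨θ⟩ := exists_extension_of_isIntegral (R := Ad) (S := C) (K := K)
    (Subalgebra.inclusion_injective hle)
  have hθP : ∀ p, θ (algebraMap (P) C p) = algebraMap W K (ev p) := fun p => by
    rw [IsScalarTower.algebraMap_apply (P) Ad C, θ.commutes]
    change algebraMap W K (AdjoinRoot.lift ev.toRingHom α hα' ((minpoly.equivAdjoin hrint).symm
      (algebraMap (P) Ad p))) = _
    rw [AlgEquiv.commutes, AdjoinRoot.algebraMap_eq, AdjoinRoot.lift_of]
    rfl
  have hθi : ∀ z : C, ∃ w : W, algebraMap W K w = θ z := fun z => by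
    obtain ⟨g, hg, hg0⟩ := (Subalgebra.mem_toSubmodule _).mp z.2 |> (mem_integralClosure_iff _ _).mp
    refine IsIntegrallyClosed.algebraMap_eq_of_integral ⟨g.map ev.toRingHom, hg.map _, ?_⟩
    have hz : Polynomial.eval₂ (algebraMap (P) C) z g = 0 :=
      Subtype.ext (by
        refine Eq.trans ?_ hg0
        exact Polynomial.hom_eval₂ g _ C.val.toRingHom z)
    rw [eval₂_map, show (algebraMap W K).comp ev.toRingHom =
        θ.toRingHom.comp (algebraMap (P) C) from
          RingHom.ext fun p => (hθP p).symm]
    exact (Polynomial.hom_eval₂ g _ θ.toRingHom z).symm.trans (by rw [hz, map_zero])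
  choose w hw using hθi
  let θW : C →+* W :=
    { toFun := w
      map_one' := IsFractionRing.injective W K (by rw [hw, map_one, map_one])
      map_mul' := fun a b => IsFractionRing.injective W K (by rw [hw, map_mul, map_mul, hw, hw])
      map_zero' := IsFractionRing.injective W K (by rw [hw, map_zero, map_zero])
      map_add' := fun a b => IsFractionRing.injective W K (by rw [hw, map_add, map_add, hw, hw]) }
  let rC : C := ⟨r, hrint⟩
  have hru : IsUnit (θW rC) := by
    suffices w rC = α by
      change IsUnit (w rC)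
      rw [this]; exact hαu
    refine IsFractionRing.injective W K ?_
    rw [hw, show rC = algebraMap Ad C rA from rfl, θ.commutes]
    change algebraMap W K (AdjoinRoot.lift ev.toRingHom α hα' ((minpoly.equivAdjoin hrint).symm rA)) = _
    rw [hroot, AdjoinRoot.lift_root]
  -- extend to `B`
  have hbij : Function.Bijective (Localization.awayMap C.val.toRingHom rC) := by
    refine ⟨IsLocalization.map_injective_of_injective _ _ _ Subtype.val_injective, ?_⟩
    rw [Localization.awayMap_surjective_iff]
    intro b
    obtain ⟨m, hm⟩ := hzmt b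
    exact ⟨⟨_, hm⟩, m, rfl⟩
  let e := RingEquiv.ofBijective _ hbij
  let F : B →+* W := ((IsLocalization.Away.lift rC (g := θW) hru).comp e.symm.toRingHom).comp
    (algebraMap B (Localization.Away r))
  refine ⟨{ F with commutes' := fun a => ?_ }⟩
  have ha : algebraMap W B a = C.val.toRingHom (algebraMap (P) C (algebraMap W P a)) :=
    IsScalarTower.algebraMap_apply W P B a
  change IsLocalization.Away.lift rC hru (e.symm (algebraMap B (Localization.Away r) (algebraMap W B a))) = _
  rw [ha, show e.symm (algebraMap B (Localization.Away r) (C.val.toRingHom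
      (algebraMap (P) C (algebraMap W P a)))) =
      algebraMap C (Localization.Away rC) (algebraMap (P) C (algebraMap W P a)) from ?_,
    IsLocalization.Away.lift_eq]
  · refine IsFractionRing.injective W K ?_
    change algebraMap W K (w _) = _
    rw [hw, hθP]
    exact congrArg _ (ev.commutes a)
  · rw [RingEquiv.symm_apply_eq]
    change _ = Localization.awayMap C.val.toRingHom rC _
    simp [Localization.awayMap, IsLocalization.Away.map]
    rfl



variable (K) in
include K in
theorem exists_algHom_of_isDomain (B : Type u) [CommRing B] [IsDomain B] [Algebra W B]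
    [Algebra.FiniteType W B] (hinj : Function.Injective (algebraMap W B))
    (hne : (maximalIdeal W).map (algebraMap W B) ≠ ⊤) : Nonempty (B →ₐ[W] W) := by
  classical
  let k := ResidueField W
  obtain ⟨s, f, q, hq, hf, hqover, hqf⟩ := exists_weaklyQuasiFinite B hinj hne
  let π : MvPolynomial (Fin s) W →+* MvPolynomial (Fin s) k := MvPolynomial.map (residue W)
  let : Algebra (MvPolynomial (Fin s) W) B := f.toRingHom.toAlgebra
  have : Algebra.WeaklyQuasiFiniteAt (MvPolynomial (Fin s) W) q := hqf
  have hsmul : ∀ (p : MvPolynomial (Fin s) W) (b : B), p • b = f p * b := fun p b => rfl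
  have : IsScalarTower W (MvPolynomial (Fin s) W) B := .of_algebraMap_eq fun w => (f.commutes w).symm
  have : Algebra.FiniteType (MvPolynomial (Fin s) W) B :=
    Algebra.FiniteType.of_restrictScalars_finiteType W _ B
  obtain ⟨r, hr, hrint, hzmt⟩ := Algebra.zariskisMainProperty_iff.mp
    (Algebra.ZariskisMainProperty.of_finiteType_of_weaklyQuasiFiniteAt (R := MvPolynomial (Fin s) W) q)
  have : IsIntegrallyClosed (MvPolynomial (Fin s) W) := isIntegrallyClosed_mvPolynomial W s
  let μ := minpoly (MvPolynomial (Fin s) W) r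
  have hμ : μ.Monic := minpoly.monic hrint
  have : Module.IsTorsionFree (MvPolynomial (Fin s) W) B :=
    Module.isTorsionFree_iff_algebraMap_injective.2 hf
  obtain ⟨j, hj, hjne⟩ : ∃ j < μ.natDegree, π (μ.coeff j) ≠ 0 := by
    by_contra! hc
    have h0 := minpoly.aeval (MvPolynomial (Fin s) W) r
    rw [aeval_eq_sum_range, Finset.sum_range_succ, hμ.coeff_natDegree, one_smul] at h0
    refine hr (hq.mem_of_pow_mem μ.natDegree ?_)
    rw [eq_neg_of_add_eq_zero_right h0]
    refine q.neg_mem (q.sum_mem fun i hi => ?_)
    rw [hsmul]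
    refine q.mul_mem_right _ ?_
    have : μ.coeff i ∈ q.comap f.toRingHom := hqover.ge (hc i (Finset.mem_range.mp hi))
    exact this
  have := infinite_residueField (W := W) K
  obtain ⟨cbar, hcbar⟩ : ∃ cbar : Fin s → k, MvPolynomial.eval cbar (π (μ.coeff j)) ≠ 0 := by
    by_contra! hc
    exact hjne (MvPolynomial.funext fun v => (hc v).trans (map_zero _).symm)
  choose c hc using fun i => residue_surjective (cbar i)
  let ev : MvPolynomial (Fin s) W →+* W := MvPolynomial.eval c
  have hev : ∀ p, residue W (ev p) = MvPolynomial.eval cbar (π p) := fun p => by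
    rw [show cbar = residue W ∘ c from funext fun i => (hc i).symm]
    simp only [ev, π, MvPolynomial.eval_map]
    exact MvPolynomial.eval₂_comp (residue W) c p
  let : Algebra W (MvPolynomial (Fin s) W) := inferInstance
  refine exists_algHom_of_zmt K (P := MvPolynomial (Fin s) W) hf (MvPolynomial.aeval c) r hrint hzmt j hj
    ((residue_ne_zero_iff_isUnit _).mp ?_)
  rw [show (MvPolynomial.aeval c : MvPolynomial (Fin s) W →ₐ[W] W) (μ.coeff j) = ev (μ.coeff j) from rfl,
    hev]
  exact hcbar

variable (K) in
include K in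
/-- The existence of points: if `B` has a point in a domain `W'` containing `W` with a prime over the
closed point, then it has one in `W`. -/
theorem exists_algHom_of_point (B : Type u) [CommRing B] [Algebra W B] [Algebra.FiniteType W B]
    {W' : Type u} [CommRing W'] [IsDomain W'] [IsLocalRing W'] (χ : B →+* W')
    (hinj : Function.Injective (χ.comp (algebraMap W B)))
    (hloc : IsLocalHom (χ.comp (algebraMap W B))) : Nonempty (B →ₐ[W] W) := by
  let I := RingHom.ker χ
  have : I.IsPrime := RingHom.ker_isPrime _
  have h : Nonempty ((B ⧸ I) →ₐ[W] W) := by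
    refine exists_algHom_of_isDomain K (B ⧸ I) ?_ ?_
    · intro a b hab
      exact hinj (congrArg (RingHom.kerLift χ) hab)
    · intro htop
      have hle : (maximalIdeal W).map (algebraMap W (B ⧸ I)) ≤
          (maximalIdeal W').comap (RingHom.kerLift χ) := by
        rw [Ideal.map_le_iff_le_comap]
        intro a ha
        change χ (algebraMap W B a) ∈ maximalIdeal W'
        exact fun hu => ha (hloc.map_nonunit a hu)
      rw [htop, top_le_iff, Ideal.comap_eq_top_iff] at hle
      exact (maximalIdeal.isMaximal W').ne_top hle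
  obtain ⟨φ⟩ := h
  exact ⟨φ.comp (Ideal.Quotient.mkₐ W I)⟩

end Groth.HTopHyper
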