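import Groth.Agent.HTopHyper.PhGlue
import Groth.Agent.HTopHyper.ValPoint
import Groth.Agent.HTopHyper.SigmaProper
import Groth.Agent.HTopHyper.SquareSheaf
import Groth.Agent.BMCoh.Piece
import Groth.Agent.SpectralTopology.Constructible
import Groth.Agent.PropsBasic2.Misc
import Mathlib.FieldTheory.IsAlgClosed.AlgebraicClosure

/-! Families of finite presentation with valuation lifting are refined by proper surjective
morphisms followed by Zariski covers (V coverings are ph coverings). -/

set_option autoImplicit false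
set_option backward.isDefEq.respectTransparency false

universe w w' u

open CategoryTheory CategoryTheory.Limits AlgebraicGeometry Topology

namespace Groth.HTopHyper

open scoped TensorProduct in
/-- Compactness of the space of valuation rings of an algebraically closed field. -/
theorem exists_finite_points {A : CommRingCat.{u}} {ι : Type w} [Finite ι] {B : ι → CommRingCat.{u}}
    (φ : ∀ i, A ⟶ B i) (hft : ∀ i, (φ i).hom.FiniteType)
    (hlift : ∀ (V : CommRingCat.{u}) [IsDomain V] [ValuationRing V] (a : A ⟶ V),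
      ∃ (W : CommRingCat.{u}) (_ : IsDomain W) (_ : ValuationRing W) (ψ : V ⟶ W),
        HTop.IsExtVal V W ψ ∧ ∃ (j : ι) (χ : B j ⟶ W), φ j ≫ χ = a ≫ ψ)
    {K : Type u} [Field K] [IsAlgClosed K] (a : A →+* K) :
    ∃ (m : ℕ) (idx : Fin m → ι) (pt : ∀ k, B (idx k) →+* K),
      (∀ k, (pt k).comp (φ (idx k)).hom = a) ∧
      ∀ W : ValuationSubring K, (∀ x, a x ∈ W) → ∃ k, ∀ b, pt k b ∈ W := by
  classical
  let Pairs := Σ i, {χ : B i →+* K // χ.comp (φ i).hom = a}
  suffices H : ∃ s : Finset Pairs, ∀ W : ValuationSubring K, (∀ x, a x ∈ W) →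
      ∃ p ∈ s, ∀ b, p.2.1 b ∈ W by
    obtain ⟨s, hs⟩ := H
    obtain ⟨m, ⟨e⟩⟩ := Finite.exists_equiv_fin s
    refine ⟨m, fun k => (e.symm k : Pairs).1, fun k => (e.symm k : Pairs).2.1,
      fun k => (e.symm k : Pairs).2.2, fun W hW => ?_⟩
    obtain ⟨p, hp, hpW⟩ := hs W hW
    obtain ⟨k, hk⟩ := e.symm.surjective ⟨p, hp⟩
    refine ⟨k, ?_⟩
    have h : (e.symm k : Pairs) = p := congrArg Subtype.val hk
    show ∀ b, (e.symm k : Pairs).2.1 b ∈ W
    rw [h]; exact hpW
  by_contra! hno
  choose Ws hWa hWs using hno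
  let F : Ultrafilter (Finset Pairs) := Ultrafilter.of Filter.atTop
  have hF : (F : Filter (Finset Pairs)) ≤ Filter.atTop := Ultrafilter.of_le _
  let W₀ : ValuationSubring K :=
    { carrier := {x | ∀ᶠ s in (F : Filter (Finset Pairs)), x ∈ Ws s}
      mul_mem' := fun hx hy => by
        filter_upwards [hx, hy] with s h1 h2 using (Ws s).mul_mem _ _ h1 h2
      one_mem' := Filter.Eventually.of_forall fun s => (Ws s).one_mem
      add_mem' := fun hx hy => by
        filter_upwards [hx, hy] with s h1 h2 using (Ws s).add_mem _ _ h1 h2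
      zero_mem' := Filter.Eventually.of_forall fun s => (Ws s).zero_mem
      neg_mem' := fun hx => by filter_upwards [hx] with s h1 using (Ws s).neg_mem _ h1
      mem_or_inv_mem' := fun x => Ultrafilter.eventually_or.mp
        (Filter.Eventually.of_forall fun s => (Ws s).mem_or_inv_mem x) }
  have hW₀ : ∀ x, a x ∈ W₀ := fun x => Filter.Eventually.of_forall fun s => hWa s x
  let a₀ : A →+* W₀ := a.codRestrict W₀.toSubring hW₀
  obtain ⟨W', _, _, ψ, ⟨hinj, hloc⟩, j, χ, hχ⟩ := hlift (CommRingCat.of W₀) (CommRingCat.ofHom a₀)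
  letI := a₀.toAlgebra
  letI := (φ j).hom.toAlgebra
  letI : Algebra A W' := (ψ.hom.comp a₀).toAlgebra
  let ψₐ : W₀ →ₐ[A] W' := { ψ.hom with commutes' := fun _ => rfl }
  let χₐ : B j →ₐ[A] W' :=
    { χ.hom with commutes' := fun x => congrArg (fun q : A ⟶ W' => q.hom x) hχ }
  let χ' : W₀ ⊗[A] B j →ₐ[A] W' := Algebra.TensorProduct.lift ψₐ χₐ fun _ _ => .all _ _
  have : Algebra.FiniteType A (B j) := hft j
  have hcomp : χ'.toRingHom.comp (algebraMap W₀ (W₀ ⊗[A] B j)) = ψ.hom := RingHom.ext fun w => by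
    show χ' (w ⊗ₜ 1) = ψ.hom w
    rw [Algebra.TensorProduct.lift_tmul, map_one, mul_one]
    rfl
  obtain ⟨θ⟩ := exists_algHom_of_point (W := W₀) K (W₀ ⊗[A] B j) (W' := W') χ'.toRingHom
    (by rw [hcomp]; exact hinj) (by rw [hcomp]; exact hloc)
  let pt : B j →+* K := W₀.subtype.comp (θ.toRingHom.comp Algebra.TensorProduct.includeRight.toRingHom)
  have hpt : pt.comp (φ j).hom = a := RingHom.ext fun x => by
    show ((θ (1 ⊗ₜ (algebraMap A (B j) x)) : W₀) : K) = a x
    rw [show (1 : W₀) ⊗ₜ[A] (algebraMap A (B j) x) = algebraMap W₀ (W₀ ⊗[A] B j) (algebraMap A W₀ x) from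
      ((Algebra.TensorProduct.algebraMap_apply (R := A) (A := W₀) (B := B j) (algebraMap A W₀ x)).trans
        (by rw [Algebra.algebraMap_self, RingHom.id_apply, Algebra.algebraMap_eq_smul_one,
          TensorProduct.smul_tmul, ← Algebra.algebraMap_eq_smul_one])).symm, AlgHom.commutes]
    rfl
  let p : Pairs := ⟨j, pt, hpt⟩
  obtain ⟨t, ht⟩ := Algebra.FiniteType.out (R := A) (A := B j)
  have h1 : ∀ᶠ s in (F : Filter (Finset Pairs)), p ∈ s ∧ ∀ b ∈ t, pt b ∈ Ws s := by
    refine Filter.Eventually.and (hF ?_) ((Finset.eventually_all t).mpr fun b _ => ?_)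
    · filter_upwards [Filter.eventually_ge_atTop ({p} : Finset Pairs)] with s hs
      exact hs (Finset.mem_singleton_self p)
    · exact (θ (1 ⊗ₜ b)).2
  obtain ⟨s, hps, hts⟩ := h1.exists
  obtain ⟨b, hb⟩ := hWs s p hps
  apply hb
  clear hb
  have hb' : b ∈ Algebra.adjoin A (t : Set (B j)) := by rw [ht]; trivial
  induction hb' using Algebra.adjoin_induction with
  | mem x hx => exact hts x hx
  | algebraMap x =>
    show pt (φ j x) ∈ Ws s
    rw [show pt (φ j x) = a x from RingHom.congr_fun hpt x]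
    exact hWa s x
  | add x y _ _ hx hy => rw [map_add]; exact (Ws s).add_mem _ _ hx hy
  | mul x y _ _ hx hy => rw [map_mul]; exact (Ws s).mul_mem _ _ hx hy

/-- Finite fibre products of proper finitely presented schemes over `S`, with a compatible point. -/
theorem exists_product {S T : Scheme.{u}} (η : T ⟶ S) :
    ∀ {m : ℕ} (P : Fin m → Scheme.{u}) (p : ∀ k, P k ⟶ S) (_ : ∀ k, IsProper (p k))
      (_ : ∀ k, LocallyOfFinitePresentation (p k)) (ξ : ∀ k, T ⟶ P k) (_ : ∀ k, ξ k ≫ p k = η),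
      ∃ (Q : Scheme.{u}) (q : Q ⟶ S) (ξQ : T ⟶ Q) (pr : ∀ k, Q ⟶ P k),
        IsProper q ∧ LocallyOfFinitePresentation q ∧ ξQ ≫ q = η ∧
        (∀ k, pr k ≫ p k = q) ∧ ∀ k, ξQ ≫ pr k = ξ k
  | 0, _, _, _, _, _, _ => ⟨S, 𝟙 S, η, fun k => k.elim0, inferInstance, inferInstance,
      Category.comp_id _, fun k => k.elim0, fun k => k.elim0⟩
  | m + 1, P, p, hp, hf, ξ, hξ => by
    obtain ⟨Q, q, ξQ, pr, hq, hqf, hξQ, hpr, hξpr⟩ := exists_product η (fun k => P (Fin.castSucc k))
      (fun k => p _) (fun k => hp _) (fun k => hf _) (fun k => ξ _) (fun k => hξ _)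
    have := hp (Fin.last m); have := hf (Fin.last m); have := hq; have := hqf
    refine ⟨pullback q (p (Fin.last m)), pullback.fst _ _ ≫ q,
      pullback.lift ξQ (ξ (Fin.last m)) (by rw [hξQ, hξ]),
      Fin.lastCases (motive := fun k => pullback q (p (Fin.last m)) ⟶ P k) (pullback.snd _ _)
        (fun i => pullback.fst _ _ ≫ pr i),
      inferInstance, inferInstance, by rw [pullback.lift_fst_assoc, hξQ], fun k => ?_, fun k => ?_⟩
    · induction k using Fin.lastCases with
      | last => rw [Fin.lastCases_last]; exact pullback.condition.symm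
      | cast i => rw [Fin.lastCases_castSucc, Category.assoc, hpr]
    · induction k using Fin.lastCases with
      | last => rw [Fin.lastCases_last]; exact pullback.lift_snd _ _ _
      | cast i => rw [Fin.lastCases_castSucc, pullback.lift_fst_assoc, hξpr]

theorem isClopen_constructibleTopology {X : Type u} [TopologicalSpace X] [CompactSpace X]
    [QuasiSeparatedSpace X] {s : Set X} (hs : IsConstructible s) :
    @IsClopen X (constructibleTopology X) s := by
  induction hs using IsConstructible.empty_union_induction with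
  | open_retrocompact U hUo hUc =>
    refine ⟨?_, hUc.isCompact.isOpen_constructibleTopology_of_isOpen hUo⟩
    refine @IsClosed.mk _ (constructibleTopology X) _ ?_
    exact IsCompact.isOpen_constructibleTopology_of_isClosed (by rw [compl_compl]; exact hUc.isCompact)
      hUo.isClosed_compl
  | union s hs t ht hs' ht' => exact @IsClopen.union _ (constructibleTopology X) _ _ hs' ht'
  | compl s hs hs' => exact @IsClopen.compl _ (constructibleTopology X) _ hs'

theorem lfp_toBase (n : ℕ) (S : Scheme.{u}) :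
    LocallyOfFinitePresentation (CohB1.ProjSpaceOver.toBase n S) := by
  have := Groth.Variety2.isProper_projSpace_toSpec n (ULift.{u} ℤ)
  have : IsNoetherianRing (CommRingCat.of (ULift.{u} ℤ)) :=
    isNoetherianRing_of_ringEquiv ℤ ULift.ringEquiv.symm
  have h : LocallyOfFinitePresentation (CohB1.ProjSpace.toSpec n (ULift.{u} ℤ)) := inferInstance
  exact MorphismProperty.pullback_snd _ _ h

/-- Points of the closure of a field valued point lie in the affine parts of the compactifications. -/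
theorem mem_range_of_specializes {A : CommRingCat.{u}} {ι : Type w} {Y : ι → Scheme.{u}}
    [∀ i, IsAffine (Y i)] {f : ∀ i, Y i ⟶ Spec A} {K : Type u} [Field K]
    {a : A ⟶ CommRingCat.of K} {φ : ∀ i, A ⟶ Γ(Y i, ⊤)}
    (hφ : ∀ i, Spec.map (φ i) = (Y i).isoSpec.inv ≫ f i) {m : ℕ} {idx : Fin m → ι}
    {pt : ∀ k, Γ(Y (idx k), ⊤) →+* K} (hpt : ∀ k, (pt k).comp (φ (idx k)).hom = a.hom)
    (hcov : ∀ W : ValuationSubring K, (∀ x, a.hom x ∈ W) → ∃ k, ∀ b, pt k b ∈ W)
    {Q : Fin m → Scheme.{u}} (p : ∀ k, Q k ⟶ Spec A) [∀ k, IsSeparated (p k)]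
    (j : ∀ k, Y (idx k) ⟶ Q k) (hjb : ∀ k, j k ≫ p k = f (idx k))
    {P : Scheme.{u}} {q : P ⟶ Spec A} {ξ : Spec (CommRingCat.of K) ⟶ P} (hξq : ξ ≫ q = Spec.map a)
    {pr : ∀ k, P ⟶ Q k} (hprq : ∀ k, pr k ≫ p k = q)
    (hξpr : ∀ k, ξ ≫ pr k =
      (Spec.map (CommRingCat.ofHom (pt k)) ≫ (Y (idx k)).isoSpec.inv) ≫ j k)
    (z : P) (hz : ξ (IsLocalRing.closedPoint K) ⤳ z) : ∃ k, pr k z ∈ Set.range (j k) := by
  let ψ : P.presheaf.stalk z ⟶ CommRingCat.of K :=
    P.presheaf.stalkSpecializes hz ≫ Scheme.stalkClosedPointTo ξ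
  obtain ⟨W, hW, hWloc⟩ := IsLocalRing.exists_factor_valuationRing ψ.hom
  let ψ' : P.presheaf.stalk z ⟶ CommRingCat.of W := CommRingCat.ofHom (ψ.hom.codRestrict _ hW)
  have : IsLocalHom ψ'.hom := hWloc
  let incl : CommRingCat.of W ⟶ CommRingCat.of K := CommRingCat.ofHom (algebraMap W K)
  let g : Spec (CommRingCat.of W) ⟶ P := Spec.map ψ' ≫ P.fromSpecStalk z
  have hgξ : Spec.map incl ≫ g = ξ := by
    rw [← Spec.map_comp_assoc, show ψ' ≫ incl = ψ from rfl, Spec.map_comp, Category.assoc,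
      Scheme.SpecMap_stalkSpecializes_fromSpecStalk]
    exact Scheme.Spec_stalkClosedPointTo_fromSpecStalk ξ
  let c := Spec.preimage (g ≫ q)
  have hc : c ≫ incl = a := Spec.map_injective (by
    rw [Spec.map_comp, Spec.map_preimage, ← Category.assoc, hgξ, hξq])
  obtain ⟨k, hk⟩ := hcov W fun y => by rw [← hc]; exact (c.hom y).2
  let h : Spec (CommRingCat.of W) ⟶ Y (idx k) :=
    Spec.map (CommRingCat.ofHom ((pt k).codRestrict W.toSubring hk)) ≫ (Y (idx k)).isoSpec.inv
  have hh : Spec.map incl ≫ h =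
      Spec.map (CommRingCat.ofHom (pt k)) ≫ (Y (idx k)).isoSpec.inv := by
    rw [← Spec.map_comp_assoc]
    rfl
  have hhf : h ≫ f (idx k) = g ≫ q := by
    rw [Category.assoc, ← hφ, ← Spec.map_comp, ← Spec.map_preimage (g ≫ q)]
    congr 1
    ext y
    exact (RingHom.congr_fun (hpt k) y).trans (congrArg (fun t : A ⟶ _ => t.hom y) hc.symm)
  let sq : ValuativeCommSq (p k) :=
    { R := W, K := K, i₁ := ξ ≫ pr k, i₂ := g ≫ q,
      commSq := ⟨by
        show (ξ ≫ pr k) ≫ _ = Spec.map incl ≫ g ≫ q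
        rw [Category.assoc, hprq, reassoc_of% hgξ]⟩ }
  have e := @Subsingleton.elim _ (IsSeparated.valuativeCriterion _ sq)
    (⟨g ≫ pr k, by
      show Spec.map incl ≫ g ≫ pr k = ξ ≫ pr k
      rw [reassoc_of% hgξ], by
      show (g ≫ pr k) ≫ _ = g ≫ q
      rw [Category.assoc, hprq]⟩ : sq.commSq.LiftStruct)
    ⟨h ≫ j k, by
      show Spec.map incl ≫ h ≫ j k = ξ ≫ pr k
      rw [reassoc_of% hh, hξpr, Category.assoc], by
      show (h ≫ j k) ≫ _ = g ≫ q
      rw [Category.assoc, hjb, hhf]⟩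
  have e' : g ≫ pr k = h ≫ j k := congrArg CommSq.LiftStruct.l e
  refine ⟨k, h (IsLocalRing.closedPoint W), ?_⟩
  rw [← Scheme.Hom.comp_apply, ← e', Scheme.Hom.comp_apply]
  congr 1
  rw [Scheme.Hom.comp_apply, Spec_closedPoint, Scheme.fromSpecStalk_closedPoint]

/-- The range of an immersion of finite presentation is constructible. -/
theorem isConstructible_range_immersion {T Q S : Scheme.{u}} [IsAffine S] [CompactSpace T]
    (j : T ⟶ Q) (p : Q ⟶ S) [IsProper p] [LocallyOfFinitePresentation (j ≫ p)] :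
    IsConstructible (Set.range j) := by
  have : CompactSpace Q := QuasiCompact.compactSpace_of_compactSpace p
  have : QuasiSeparatedSpace Q := quasiSeparatedSpace_of_quasiSeparated p
  have := Groth.PropsBasic2.lfp_of_comp j p
  have : QuasiCompact j := quasiCompact_of_compactSpace _
  rw [← Set.image_univ]
  exact j.isConstructible_image IsConstructible.univ

/-- Cutting a closed constructible set out of the good locus of a point. -/
theorem exists_closed_good {P : Type u} [TopologicalSpace P] [CompactSpace P] [QuasiSeparatedSpace P]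
    [PrespectralSpace P] {m : ℕ} (S U : Fin m → Set P) (hS : ∀ k, IsConstructible (S k))
    (hU : ∀ k, IsOpen (U k)) (hSU : ∀ k, S k ⊆ U k) (x₀ : P)
    (hZ : ∀ z, x₀ ⤳ z → ∃ k, z ∈ S k) (hSZ : ∀ k z, x₀ ⤳ z → z ∈ U k → z ∈ S k) :
    ∃ (C : TopologicalSpace.Closeds P) (T : Fin m → TopologicalSpace.Opens P),
      IsConstructible (C : Set P) ∧ x₀ ∈ (C : Set P) ∧ (∀ k, (T k : Set P) ⊆ U k) ∧
      (∀ z ∈ C, ∃ k, z ∈ T k) ∧ ∀ k, ∀ z ∈ C, z ∈ T k → z ∈ S k := by
  have hT : ∀ k, ∃ T : TopologicalSpace.Opens P, IsCompact (T : Set P) ∧ S k ⊆ T ∧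
      (T : Set P) ⊆ U k := fun k => by
    obtain ⟨K', hK', hK'o, h1, h2⟩ := PrespectralSpace.exists_isCompact_and_isOpen_between
      (Groth.SpectralTopology.isRetrocompact_of_isConstructible (hS k)).isCompact (hU k) (hSU k)
    exact ⟨⟨K', hK'o⟩, hK', h1, h2⟩
  choose T hTc hST hTU using hT
  let D : Set P := (⋃ k, (T k : Set P))ᶜ ∪ ⋃ k, ((T k : Set P) \ S k)
  have hDc : IsConstructible D :=
    (IsConstructible.iUnion fun k => (hTc k).isConstructible (T k).isOpen).compl.union
      (IsConstructible.iUnion fun k => ((hTc k).isConstructible (T k).isOpen).sdiff (hS k))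
  have hD : ∀ d ∈ D, ¬ x₀ ⤳ d := by
    rintro d (hd | hd) hz
    · obtain ⟨k, hk⟩ := hZ d hz
      exact hd (Set.mem_iUnion.mpr ⟨k, hST k hk⟩)
    · obtain ⟨k, hk, hk'⟩ := Set.mem_iUnion.mp hd
      exact hk' (hSZ k d hz (hTU k hk))
  obtain ⟨Wc, hWc, hWo, hDW, hWz⟩ := PrespectralSpace.exists_isCompact_and_isOpen_between
    (Groth.SpectralTopology.isRetrocompact_of_isConstructible hDc).isCompact
    (isClosed_closure (s := ({x₀} : Set P))).isOpen_compl
    (fun d hd hd' => hD d hd (specializes_iff_mem_closure.mpr hd'))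
  refine ⟨⟨Wcᶜ, hWo.isClosed_compl⟩, T, (hWc.isConstructible hWo).compl,
    fun h => hWz h (subset_closure rfl), hTU, fun z hz => ?_, fun k z hz hzT => ?_⟩
  · by_contra hne
    exact hz (hDW (Or.inl fun h => hne (Set.mem_iUnion.mp h)))
  · by_contra hne
    exact hz (hDW (Or.inr (Set.mem_iUnion.mpr ⟨k, hzT, hne⟩)))

/-- A reduced scheme mapping set-theoretically into an immersion, inside its coborder, lifts. -/
theorem exists_lift_immersion {O Q T : Scheme.{u}} [IsReduced O] (j : T ⟶ Q) [IsImmersion j]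
    (g : O ⟶ Q) (h : ∀ y, g y ∈ Set.range j) : ∃ l : O ⟶ T, l ≫ j = g := by
  let l₀ : O ⟶ j.coborderRange := IsOpenImmersion.lift j.coborderRange.ι g (by
    rw [Scheme.Opens.range_ι]
    rintro _ ⟨y, rfl⟩
    exact subset_coborder (h y))
  have hl : l₀ ≫ j.coborderRange.ι = g := IsOpenImmersion.lift_fac _ _ _
  have hsurj : Surjective (pullback.fst l₀ j.liftCoborder) := by
    refine ⟨fun y => ?_⟩
    obtain ⟨w, hw⟩ := h y
    obtain ⟨u', hu, -⟩ := Scheme.Pullback.exists_preimage_pullback (f := l₀)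
      (g := j.liftCoborder) y w (j.coborderRange.ι.isOpenEmbedding.injective (by
        rw [← Scheme.Hom.comp_apply, hl, ← Scheme.Hom.comp_apply, Scheme.Hom.liftCoborder_ι, hw]))
    exact ⟨u', hu⟩
  have := isIso_of_isClosedImmersion_of_surjective (pullback.fst l₀ j.liftCoborder)
  refine ⟨inv (pullback.fst l₀ j.liftCoborder) ≫ pullback.snd _ _, ?_⟩
  conv_lhs => arg 2; rw [← Scheme.Hom.liftCoborder_ι j]
  rw [Category.assoc, ← pullback.condition_assoc, IsIso.inv_hom_id_assoc, hl]


section Main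

variable {A : CommRingCat.{u}} {ι : Type w} [Finite ι] {Y : ι → Scheme.{u}} [∀ i, IsAffine (Y i)]
  (f : ∀ i, Y i ⟶ Spec A) [∀ i, LocallyOfFinitePresentation (f i)]

/-- The local piece of the refining proper surjection at a point. -/
theorem exists_proper_piece
    (hlift : HTop.HasValLift (PreZeroHypercover.mk ι Y f)) (x : ↑(Spec A)) :
    ∃ (C : Scheme.{u}) (c : C ⟶ Spec A), IsProper c ∧ IsConstructible (Set.range c) ∧
      x ∈ Set.range c ∧ ∀ z : C, ∃ O : C.Opens, z ∈ O ∧
        ∃ (i : ι) (h : (O : Scheme.{u}) ⟶ Y i), h ≫ f i = O.ι ≫ c := by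
  classical
  let K := AlgebraicClosure ((Spec A).residueField x)
  let η : Spec (CommRingCat.of K) ⟶ Spec A :=
    Spec.map (CommRingCat.ofHom (algebraMap ((Spec A).residueField x) K)) ≫
      (Spec A).fromSpecResidueField x
  have hη : ∀ z, η z = x := fun z => by
    rw [Scheme.Hom.comp_apply]
    exact Scheme.fromSpecResidueField_apply _ _
  let a := Spec.preimage η
  let φ : ∀ i, A ⟶ Γ(Y i, ⊤) := fun i => Spec.preimage ((Y i).isoSpec.inv ≫ f i)
  have hφ : ∀ i, Spec.map (φ i) = (Y i).isoSpec.inv ≫ f i := fun i => Spec.map_preimage _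
  have hft : ∀ i, (φ i).hom.FiniteType := fun i => by
    have : LocallyOfFiniteType (Spec.map (φ i)) := by rw [hφ]; infer_instance
    exact (HasRingHomProperty.Spec_iff (P := @LocallyOfFiniteType)).mp this
  obtain ⟨m, idx, pt, hpt, hcov⟩ := exists_finite_points φ hft (fun V _ _ a' => by
    obtain ⟨W, hW, hW', ψ, hψ, j, g', hg'⟩ := hlift V (Spec.map a')
    refine ⟨W, hW, hW', ψ, hψ, j, Spec.preimage (g' ≫ (Y j).isoSpec.hom), Spec.map_injective ?_⟩
    rw [Spec.map_comp, Spec.map_comp, hφ, Spec.map_preimage, Category.assoc, Iso.hom_inv_id_assoc]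
    exact hg') a.hom
  -- the compactifications
  choose N j hj hjb using fun k => Groth.Chow.exists_immersion_projSpaceOver (f (idx k))
  let ξY : ∀ k, Spec (CommRingCat.of K) ⟶ Y (idx k) := fun k =>
    Spec.map (CommRingCat.ofHom (pt k)) ≫ (Y (idx k)).isoSpec.inv
  have hξY : ∀ k, ξY k ≫ f (idx k) = η := fun k => by
    rw [Category.assoc, ← hφ, ← Spec.map_comp]
    refine Eq.trans (congrArg Spec.map ?_) (Spec.map_preimage η)
    exact CommRingCat.hom_ext (hpt k)
  obtain ⟨P, q, ξ, pr, hq, hqf, hξq, hprq, hξpr⟩ := exists_product η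
    (fun k => CohB1.ProjSpaceOver (N k) (Spec A)) (fun k => CohB1.ProjSpaceOver.toBase _ _)
    (fun k => Groth.Variety2.isProper_projSpaceOver_toBase _ _) (fun k => lfp_toBase _ _)
    (fun k => ξY k ≫ j k) (fun k => by rw [Category.assoc, hjb, hξY])
  have := hq; have := hqf
  have : CompactSpace P := QuasiCompact.compactSpace_of_compactSpace q
  have : QuasiSeparatedSpace P := quasiSeparatedSpace_of_quasiSeparated q
  let x₀ : P := ξ (IsLocalRing.closedPoint K)
  obtain ⟨C, T, hCc, hxC, hTU, hCT, hCS⟩ := exists_closed_good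
    (fun k => pr k ⁻¹' Set.range (j k))
    (fun k => pr k ⁻¹' ((haveI := hj k; (j k).coborderRange) : Set _))
    (fun k => (pr k).isConstructible_preimage (by
      have := Groth.Variety2.isProper_projSpaceOver_toBase (N k) (Spec A)
      have : LocallyOfFinitePresentation (j k ≫ CohB1.ProjSpaceOver.toBase _ _) := by
        rw [hjb]; infer_instance
      exact isConstructible_range_immersion (j k) (CohB1.ProjSpaceOver.toBase _ _)))
    (fun k => (haveI := hj k; (j k).coborderRange).isOpen.preimage (pr k).continuous)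
    (fun k => Set.preimage_mono subset_coborder) x₀
    (fun z hz => haveI : ∀ k, IsSeparated (CohB1.ProjSpaceOver.toBase (N k) (Spec A)) := fun k =>
        haveI := Groth.Variety2.isProper_projSpaceOver_toBase (N k) (Spec A); inferInstance
      mem_range_of_specializes hφ hpt hcov (fun k => CohB1.ProjSpaceOver.toBase (N k) (Spec A))
        j hjb (hξq.trans (Spec.map_preimage η).symm) hprq hξpr z hz)
    (fun k z hz hzT => by
      have := hj k
      have hx₀S : pr k x₀ ∈ Set.range (j k) :=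
        ⟨ξY k (IsLocalRing.closedPoint K), by
          rw [← Scheme.Hom.comp_apply, ← hξpr, Scheme.Hom.comp_apply]⟩
      exact (coborder_inter_closure (s := Set.range (j k))).le
        ⟨hzT, closure_mono (Set.singleton_subset_iff.mpr hx₀S)
          (specializes_iff_mem_closure.mp (hz.map (pr k).continuous))⟩)
  let I := Scheme.IdealSheafData.vanishingIdeal C
  have hI : Set.range I.subschemeι = (C : Set P) := by
    rw [Scheme.IdealSheafData.range_subschemeι, Scheme.IdealSheafData.coe_support_vanishingIdeal]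
  have : IsReduced I.subscheme := Groth.BMCohLib.isReduced_vanishingIdeal C
  refine ⟨I.subscheme, I.subschemeι ≫ q, inferInstance, ?_, ?_, fun z => ?_⟩
  · have hr : Set.range (I.subschemeι ≫ q) = q '' (C : Set P) := by
      rw [← hI, ← Set.range_comp]
      rfl
    rw [hr]
    exact q.isConstructible_image hCc
  · obtain ⟨z, hz⟩ : x₀ ∈ Set.range I.subschemeι := hI ▸ hxC
    refine ⟨z, ?_⟩
    rw [Scheme.Hom.comp_apply, hz, ← Scheme.Hom.comp_apply, hξq, hη]
  · obtain ⟨k, hk⟩ := hCT _ (hI.le ⟨z, rfl⟩)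
    have := hj k
    let O : I.subscheme.Opens := I.subschemeι ⁻¹ᵁ T k
    obtain ⟨l, hl⟩ := exists_lift_immersion (j k) (O.ι ≫ I.subschemeι ≫ pr k)
      (fun y => hCS k _ (hI.le ⟨O.ι y, rfl⟩) y.2)
    refine ⟨O, hk, idx k, l, ?_⟩
    rw [← hjb k, reassoc_of% hl, hprq]

/-- Finite families of finite presentation over an affine scheme with valuation lifting. -/
theorem exists_proper_surjective_lift
    (hlift : HTop.HasValLift (PreZeroHypercover.mk ι Y f)) :
    ∃ (U : Scheme.{u}) (c : U ⟶ Spec A), IsProper c ∧ Surjective c ∧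
      ∀ z : U, ∃ O : U.Opens, z ∈ O ∧
        ∃ (i : ι) (h : (O : Scheme.{u}) ⟶ Y i), h ≫ f i = O.ι ≫ c := by
  classical
  choose C c hc hcc hx hO using exists_proper_piece f hlift
  let e := @WithTopology.toTopology ↑(Spec A) (constructibleTopology ↑(Spec A))
  obtain ⟨t, ht⟩ := (CompactSpace.isCompact_univ (X := WithConstructibleTopology ↑(Spec A))).elim_finite_subcover
    (fun x => e '' Set.range (c x))
    (fun x => by
      rw [WithConstructibleTopology.isOpen_iff, Set.preimage_image_eq _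
        (WithTopology.toTopology_injective _)]
      exact (isClopen_constructibleTopology (hcc x)).2)
    (fun y _ => by
      obtain ⟨x, rfl⟩ := WithTopology.toTopology_surjective _ y
      exact Set.mem_iUnion.mpr ⟨x, x, hx x, rfl⟩)
  have : Finite t := t.finite_toSet.to_subtype
  let X : t → Scheme.{u} := fun x => C x
  have hp : IsProper (Sigma.desc fun x : t => c x) := isProper_sigmaDesc _ fun x => hc x
  refine ⟨∐ X, Sigma.desc fun x : t => c x, hp,
    Groth.HTopHyper.surjective_sigmaDesc _ fun y => ?_, fun z => ?_⟩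
  · obtain ⟨x, hxt, w, hw, hwy⟩ := Set.mem_iUnion₂.mp (ht (Set.mem_univ (e y)))
    exact ⟨⟨x, hxt⟩, (WithTopology.toTopology_injective _ hwy) ▸ hw⟩
  · obtain ⟨x, w, rfl⟩ := (sigmaOpenCover X).exists_eq z
    obtain ⟨O, hwO, i, h, hh⟩ := hO (x : t).1 w
    have hx : Sigma.ι X (x : t) ≫ Sigma.desc (fun y : t => c y) = c (x : t).1 :=
      Sigma.ι_desc (f := X) (fun y : t => c y) (x : t)
    refine ⟨(Sigma.ι X (x : t)) ''ᵁ O, ⟨w, hwO, rfl⟩, i,
      ((Sigma.ι X (x : t)).isoImage O).inv ≫ h, ?_⟩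
    rw [Category.assoc, hh]
    refine (congrArg (fun e => ((Sigma.ι X (x : t)).isoImage O).inv ≫ O.ι ≫ e) hx.symm).trans ?_
    exact Scheme.Hom.isoImage_inv_ι_assoc (Sigma.ι X (x : t)) O _

end Main

end Groth.HTopHyper
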