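import Groth.Agent.HTopHyper.Local
import Mathlib.AlgebraicGeometry.Morphisms.IsIso
import Mathlib.RingTheory.Ideal.Quotient.Nilpotent

/-!
Residue-field isomorphisms, reduced schemes, rigidity of seminormal / AWN schemes.
-/

universe u

open CategoryTheory CategoryTheory.Limits AlgebraicGeometry

namespace Groth.HTopHyper

variable {X Y Z : Scheme.{u}}

theorem residueFieldsIso_comp {f : X ⟶ Y} {g : Y ⟶ Z} (hf : HTop.ResidueFieldsIso f)
    (hg : HTop.ResidueFieldsIso g) : HTop.ResidueFieldsIso (f ≫ g) := by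
  intro x
  rw [Scheme.residueFieldMap_comp]
  exact @IsIso.comp_isIso _ _ _ _ _ _ _ (hg (f x)) (hf x)

theorem residueFieldsIso_cancel {f : X ⟶ Y} {g : Y ⟶ Z} (h : HTop.ResidueFieldsIso (f ≫ g))
    (hg : HTop.ResidueFieldsIso g) : HTop.ResidueFieldsIso f := by
  intro x
  have h1 := h x
  rw [Scheme.residueFieldMap_comp] at h1
  exact @IsIso.of_isIso_comp_left _ _ _ _ _ _ _ (hg (f x)) h1

theorem residueFieldsIso_of_isOpenImmersion (f : X ⟶ Y) [IsOpenImmersion f] :
    HTop.ResidueFieldsIso f := fun _ => inferInstance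

theorem residueFieldsIso_of_stalkMap_surjective (f : X ⟶ Y)
    (h : ∀ x, Function.Surjective (f.stalkMap x)) : HTop.ResidueFieldsIso f := by
  intro x
  rw [ConcreteCategory.isIso_iff_bijective]
  refine ⟨(f.residueFieldMap x).hom.injective, fun z => ?_⟩
  obtain ⟨z, rfl⟩ := X.residue_surjective x z
  obtain ⟨y, rfl⟩ := h x z
  exact ⟨Y.residue (f x) y, ConcreteCategory.congr_hom (Scheme.residue_residueFieldMap f x) y⟩

theorem residueFieldsIso_of_isClosedImmersion (f : X ⟶ Y) [IsClosedImmersion f] :
    HTop.ResidueFieldsIso f :=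
  residueFieldsIso_of_stalkMap_surjective f f.stalkMap_surjective

theorem residueFieldsIso_id : HTop.ResidueFieldsIso (𝟙 X) := fun _ => inferInstance

theorem residueFieldsIso_of_isPullback {P : Scheme.{u}} {fst : P ⟶ X} {snd : P ⟶ Z} {f : X ⟶ Y}
    {g : Z ⟶ Y} (H : IsPullback fst snd f g) (hg : HTop.ResidueFieldsIso g)
    [UniversallyInjective g] : HTop.ResidueFieldsIso fst := by
  have hinj : Function.Injective fst :=
    UniversallyInjective.universally_injective (f := g) snd f fst H
  intro p
  set x := fst p with hx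
  have hz : g (snd p) = f x := by
    rw [hx, ← Scheme.Hom.comp_apply, ← Scheme.Hom.comp_apply, H.w]
  have := hg (snd p)
  -- the point `x` lifts to `P`
  let l : Spec (X.residueField x) ⟶ Z :=
    Spec.map ((inv (g.residueFieldMap (snd p))) ≫ (Y.residueFieldCongr hz).hom ≫ f.residueFieldMap x) ≫
      Z.fromSpecResidueField (snd p)
  have hl : X.fromSpecResidueField x ≫ f = l ≫ g := by
    simp only [l, Category.assoc]
    rw [← g.SpecMap_residueFieldMap_fromSpecResidueField (snd p), ← Spec.map_comp_assoc]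
    simp only [IsIso.hom_inv_id_assoc, Spec.map_comp_assoc]
    rw [Scheme.residueFieldCongr_fromSpecResidueField]
    exact (f.SpecMap_residueFieldMap_fromSpecResidueField x).symm
  let σ : Spec (X.residueField x) ⟶ P := H.lift (X.fromSpecResidueField x) l hl
  have hσ : σ ≫ fst = X.fromSpecResidueField x := H.lift_fst _ _ hl
  obtain ⟨⟨q, r⟩, hqr⟩ : ∃ d, (Scheme.SpecToEquivOfField (X.residueField x) P).symm d = σ :=
    ⟨_, Equiv.symm_apply_apply _ σ⟩
  rw [Scheme.SpecToEquivOfField_symm_apply] at hqr
  have hq : q = p := by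
    refine hinj ?_
    let c : Spec (X.residueField x) := IsLocalRing.closedPoint (X.residueField x)
    have h1 : σ c = q := by
      rw [← hqr, Scheme.Hom.comp_apply]
      exact Scheme.fromSpecResidueField_apply _ _
    rw [← h1, ← Scheme.Hom.comp_apply, hσ]
    exact Scheme.fromSpecResidueField_apply _ _
  subst hq
  have key : fst.residueFieldMap q ≫ r = 𝟙 _ := by
    apply Spec.map_injective
    rw [← cancel_mono (X.fromSpecResidueField x), Spec.map_comp, Category.assoc,
      fst.SpecMap_residueFieldMap_fromSpecResidueField q, ← Category.assoc, hqr, hσ]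
    rw [Spec.map_id]; exact (Category.id_comp _).symm
  rw [ConcreteCategory.isIso_iff_bijective]
  refine ⟨(fst.residueFieldMap q).hom.injective, fun z => ⟨r.hom z, r.hom.injective ?_⟩⟩
  exact ConcreteCategory.congr_hom key (r.hom z)

instance isReduced_nilradical_subscheme (X : Scheme.{u}) : IsReduced X.nilradical.subscheme := by
  have : ∀ U : X.affineOpens, IsReduced ((X.nilradical.subschemeCover).openCover.X U) := fun U => by
    change IsReduced (Spec (CommRingCat.of (Γ(X, U) ⧸ X.nilradical.ideal U)))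
    refine (affine_isReduced_iff _).mpr ?_
    change _root_.IsReduced (Γ(X, U) ⧸ X.nilradical.ideal U)
    rw [← Ideal.isRadical_iff_quotient_reduced]
    exact Ideal.radical_isRadical _
  exact @IsReduced.of_openCover X.nilradical.subscheme X.nilradical.subschemeCover.openCover this

instance surjective_nilradical_subschemeι (X : Scheme.{u}) : Surjective X.nilradical.subschemeι :=
  ⟨fun x => by
    obtain ⟨y, hy⟩ : x ∈ Set.range X.nilradical.subschemeι := by
      rw [Scheme.IdealSheafData.range_subschemeι, Scheme.support_nilradical]; trivial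
    exact ⟨y, hy⟩⟩

theorem isUnivHomeo_of_surjective_closedImmersion (f : X ⟶ Y) [IsClosedImmersion f] [Surjective f] :
    FlatMor.IsUnivHomeo f :=
  isUnivHomeo_iff.mpr ⟨inferInstance, inferInstance, inferInstance⟩

theorem isIso_of_isUnivHomeo {π : Y ⟶ X} [IsReduced Y] (h : FlatMor.IsUnivHomeo π)
    (hX : HTop.IsAWN X ∨ (HTop.IsSeminormal X ∧ HTop.ResidueFieldsIso π)) : IsIso π := by
  have := isIntegralHom_of_isUnivHomeo h
  change MorphismProperty.isomorphisms Scheme π
  rw [IsZariskiLocalAtTarget.iff_of_iSup_eq_top (P := MorphismProperty.isomorphisms Scheme) _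
    (iSup_affineOpens_eq_top X)]
  intro U
  have : IsAffine U.1 := U.2
  have : IsAffine (π ⁻¹ᵁ U.1).toScheme := IsAffineOpen.preimage U.2 π
  let g := π ∣_ U.1
  have hg : FlatMor.IsUnivHomeo g := isUnivHomeo_of_isPullback (isPullback_morphismRestrict π U.1) h
  let e := arrowIsoSpecΓOfIsAffine g
  have hspec : FlatMor.IsUnivHomeo (Spec.map g.appTop) :=
    (MorphismProperty.arrow_mk_iso_iff FlatMor.IsUnivHomeo e).mp hg
  refine (MorphismProperty.arrow_mk_iso_iff (MorphismProperty.isomorphisms Scheme) e).mpr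
    (isIso_SpecMap_iff.mpr ?_)
  rcases hX with hX | ⟨hX, hres⟩
  · have hU : HTop.IsAWNRing Γ(U.1.toScheme, ⊤) :=
      isAWNRing_of_equiv U.1.topIso.commRingCatIsoToRingEquiv (forall_affine_of_isAWN hX U)
    exact surjective_of_univHomeo g.appTop.hom hU.1 hspec (Or.inl hU)
  · have hU : HTop.IsSeminormalRing Γ(U.1.toScheme, ⊤) :=
      isSeminormalRing_of_equiv U.1.topIso.commRingCatIsoToRingEquiv.symm (forall_affine_of_isSeminormal hX U)
    refine surjective_of_univHomeo g.appTop.hom hU hspec (Or.inr ?_)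
    rw [← residueFieldsIso_SpecMap_iff]
    have hgres : HTop.ResidueFieldsIso g :=
      residueFieldsIso_cancel (g := U.1.ι)
        (by rw [morphismRestrict_ι]; exact residueFieldsIso_comp (residueFieldsIso_of_isOpenImmersion _) hres)
        (residueFieldsIso_of_isOpenImmersion _)
    have hw : Spec.map g.appTop = e.inv.left ≫ g ≫ e.hom.right := by
      have h1 := e.inv.w
      dsimp [g] at h1 ⊢
      rw [← Category.assoc, h1, Category.assoc]
      simp
    change HTop.ResidueFieldsIso (Spec.map g.appTop)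
    rw [hw]
    exact residueFieldsIso_comp (residueFieldsIso_of_isOpenImmersion _)
      (residueFieldsIso_comp hgres (residueFieldsIso_of_isOpenImmersion _))

/-- A universal homeomorphism to an AWN (or, with residue isomorphisms, seminormal and reduced)
scheme has exactly one section after any base change. -/
theorem existsUnique_lift {X' : Scheme.{u}} [IsReduced X'] (ν : X' ⟶ X) {π : Y ⟶ X}
    (hπ : FlatMor.IsUnivHomeo π)
    (hX' : HTop.IsAWN X' ∨ (HTop.IsSeminormal X' ∧ HTop.ResidueFieldsIso π)) :
    ∃! h : X' ⟶ Y, h ≫ π = ν := by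
  let P := pullback ν π
  let r := P.nilradical.subschemeι
  let q := r ≫ pullback.fst ν π
  have hfst : FlatMor.IsUnivHomeo (pullback.fst ν π) :=
    isUnivHomeo_of_isPullback (IsPullback.of_hasPullback ν π) hπ
  have hq : FlatMor.IsUnivHomeo q := isUnivHomeo_comp (isUnivHomeo_of_surjective_closedImmersion r) hfst
  have : IsIso q := isIso_of_isUnivHomeo hq (hX'.imp_right fun ⟨h1, h2⟩ => ⟨h1, by
    have := universallyInjective_of_isUnivHomeo hπ
    exact residueFieldsIso_comp (residueFieldsIso_of_isClosedImmersion r)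
      (residueFieldsIso_of_isPullback (IsPullback.of_hasPullback ν π) h2)⟩)
  refine ⟨inv q ≫ r ≫ pullback.snd ν π, ?_, fun h hh => ?_⟩
  · simp only [Category.assoc, ← pullback.condition]
    exact IsIso.inv_hom_id_assoc q ν
  · let k : X' ⟶ P := pullback.lift (𝟙 X') h (by rw [Category.id_comp]; exact hh.symm)
    have : Surjective (pullback.fst k r) := inferInstance
    have : IsIso (pullback.fst k r) := isIso_of_isClosedImmersion_of_surjective _
    let k' : X' ⟶ P.nilradical.subscheme := inv (pullback.fst k r) ≫ pullback.snd k r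
    have hk' : k' ≫ r = k := by rw [Category.assoc, ← pullback.condition, IsIso.inv_hom_id_assoc]
    have hk'' : k' = inv q := by
      apply IsIso.eq_inv_of_inv_hom_id
      rw [← Category.assoc, hk', pullback.lift_fst]
    calc h = k ≫ pullback.snd ν π := (pullback.lift_snd _ _ _).symm
      _ = _ := by rw [← hk', hk'', Category.assoc]

theorem isReduced_of_isSeminormal (h : HTop.IsSeminormal X) : IsReduced X := by
  have hr : ∀ i, IsReduced (X.affineCover.X i) := fun i => by
    have hU : IsAffineOpen (X.affineCover.f i).opensRange := isAffineOpen_opensRange _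
    have := isReduced_of_seminormal (forall_affine_of_isSeminormal h ⟨_, hU⟩)
    have : IsReduced (Spec Γ(X, (X.affineCover.f i).opensRange)) := (affine_isReduced_iff _).mpr this
    exact isReduced_of_isOpenImmersion ((X.affineCover.f i).isoOpensRange ≪≫ hU.isoSpec).hom
  exact IsReduced.of_openCover (X := X) X.affineCover

theorem isSeminormal_of_isAWN (h : HTop.IsAWN X) : HTop.IsSeminormal X :=
  fun x => (h x).imp fun _ hU => ⟨hU.1, hU.2.1⟩

theorem isReduced_of_isAWN (h : HTop.IsAWN X) : IsReduced X :=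
  isReduced_of_isSeminormal (isSeminormal_of_isAWN h)

theorem isSeminormal_of_isOpenImmersion (f : X ⟶ Y) [IsOpenImmersion f] (h : HTop.IsSeminormal Y) :
    HTop.IsSeminormal X := fun x => by
  obtain ⟨_, ⟨U, hU, rfl⟩, hx, -⟩ := X.isBasis_affineOpens.exists_subset_of_mem_open (Set.mem_univ x) isOpen_univ
  exact ⟨⟨U, hU⟩, hx, isSeminormalRing_of_equiv (f.appIso U).commRingCatIsoToRingEquiv
    (forall_affine_of_isSeminormal h ⟨_, hU.image_of_isOpenImmersion f⟩)⟩

theorem isAWN_of_isOpenImmersion (f : X ⟶ Y) [IsOpenImmersion f] (h : HTop.IsAWN Y) :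
    HTop.IsAWN X := fun x => by
  obtain ⟨_, ⟨U, hU, rfl⟩, hx, -⟩ := X.isBasis_affineOpens.exists_subset_of_mem_open (Set.mem_univ x) isOpen_univ
  exact ⟨⟨U, hU⟩, hx, isAWNRing_of_equiv (f.appIso U).symm.commRingCatIsoToRingEquiv
    (forall_affine_of_isAWN h ⟨_, hU.image_of_isOpenImmersion f⟩)⟩

theorem isAWNormalization_of_isAWN {X' : Scheme.{u}} (ν : X' ⟶ X) (h : FlatMor.IsUnivHomeo ν)
    (hX' : HTop.IsAWN X') : HTop.IsAWNormalization ν := by
  have := isReduced_of_isAWN hX'
  exact ⟨h, fun _ π hπ => existsUnique_lift ν hπ (Or.inl hX')⟩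

theorem isSeminormalization_of_isSeminormal {X' : Scheme.{u}} (ν : X' ⟶ X)
    (h : FlatMor.IsUnivHomeo ν) (hr : HTop.ResidueFieldsIso ν) (hX' : HTop.IsSeminormal X') :
    HTop.IsSeminormalization ν := by
  have := isReduced_of_isSeminormal hX'
  exact ⟨⟨h, hr⟩, fun _ π hπ hres => existsUnique_lift ν hπ (Or.inr ⟨hX', hres⟩)⟩

end Groth.HTopHyper
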