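import Groth.Agent.HTopHyper.ResidueIso
import Mathlib.FieldTheory.IsAlgClosed.AlgebraicClosure

/-!
Absolute weak normalization of a ring, constructed inside the product of algebraic closures of residue fields.
-/

universe u

open CategoryTheory AlgebraicGeometry

namespace Groth.HTopHyper

variable (A : Type u) [CommRing A]

/-- product of algebraic closures of all residue fields -/
abbrev PtProd : Type u := ∀ p : PrimeSpectrum A, AlgebraicClosure p.asIdeal.ResidueField

variable {A}

/-- subalgebras of `PtProd A` inducing universal homeomorphisms -/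
def IsGoodSub (C : Subalgebra A (PtProd A)) : Prop :=
  (algebraMap A C).IsIntegral ∧ PointsInj (algebraMap A C)

variable (A) in
/-- the absolute weak normalization -/
noncomputable def awnSub : Subalgebra A (PtProd A) :=
  Algebra.adjoin A {x | ∃ C : Subalgebra A (PtProd A), IsGoodSub C ∧ x ∈ C}

theorem ker_algebraMap_ptProd : RingHom.ker (algebraMap A (PtProd A)) ≤ nilradical A := by
  intro x hx
  rw [nilradical_eq_sInf, Submodule.mem_sInf]
  intro J hJ
  have hJ' : Ideal.IsPrime J := hJ
  have h1 : algebraMap A (AlgebraicClosure (PrimeSpectrum.mk J hJ').asIdeal.ResidueField) x = 0 :=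
    congrFun (RingHom.mem_ker.mp hx) ⟨J, hJ'⟩
  rw [IsScalarTower.algebraMap_apply A (PrimeSpectrum.mk J hJ').asIdeal.ResidueField,
    map_eq_zero, Ideal.algebraMap_residueField_eq_zero] at h1
  exact h1

theorem ker_algebraMap_sub (C : Subalgebra A (PtProd A)) :
    RingHom.ker (algebraMap A C) ≤ nilradical A :=
  fun x hx => ker_algebraMap_ptProd (x := x) (congrArg Subtype.val (RingHom.mem_ker.mp hx))

theorem isUnivHomeo_sub {C : Subalgebra A (PtProd A)} (h : IsGoodSub C) :
    FlatMor.IsUnivHomeo (Spec.map (CommRingCat.ofHom (algebraMap A C))) :=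
  (specUnivHomeo_iff _).mpr ⟨h.1, ker_algebraMap_sub C, h.2⟩

theorem le_awnSub {C : Subalgebra A (PtProd A)} (h : IsGoodSub C) : C ≤ awnSub A :=
  fun x hx => Algebra.subset_adjoin ⟨C, h, hx⟩

theorem isGood_awnSub : IsGoodSub (awnSub A) := by
  refine ⟨?_, pointsInj_adjoin _ ?_⟩
  · intro x
    have hx : IsIntegral A (x : PtProd A) := by
      have : awnSub A ≤ integralClosure A (PtProd A) := by
        refine Algebra.adjoin_le ?_
        rintro y ⟨C, hC, hy⟩
        exact (show IsIntegral A (⟨y, hy⟩ : C) from hC.1 _).map C.val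
      exact this x.2
    exact (isIntegral_algHom_iff (awnSub A).val Subtype.val_injective).mp hx
  · rintro K _ d₁ d₂ e x ⟨C, hC, hx⟩
    let i : C →ₐ[A] awnSub A := Subalgebra.inclusion (le_awnSub hC)
    exact RingHom.congr_fun (hC.2 K (d₁.comp i.toRingHom) (d₂.comp i.toRingHom)
      (RingHom.ext fun a => RingHom.congr_fun e a)) ⟨x, hx⟩

/-- Adjoining an element to the weak normalization that is integral and has at most one value at
every point stays inside it. -/
theorem mem_awnSub_of_adjoin (x : PtProd A) (hint : IsIntegral A x)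
    (huniq : ∀ (K : Type u) [Field K] (d₁ d₂ : Algebra.adjoin A (insert x (awnSub A : Set (PtProd A))) →+* K),
      (∀ w (hw : w ∈ awnSub A), d₁ ⟨w, Algebra.subset_adjoin (Or.inr hw)⟩ = d₂ ⟨w, Algebra.subset_adjoin (Or.inr hw)⟩) →
      d₁ ⟨x, Algebra.subset_adjoin (Or.inl rfl)⟩ = d₂ ⟨x, Algebra.subset_adjoin (Or.inl rfl)⟩) :
    x ∈ awnSub A := by
  let C := Algebra.adjoin A (insert x (awnSub A : Set (PtProd A)))
  refine (le_awnSub (C := C) ⟨?_, pointsInj_adjoin _ ?_⟩) (Algebra.subset_adjoin (Or.inl rfl))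
  · intro y
    have : C ≤ integralClosure A (PtProd A) := by
      refine Algebra.adjoin_le ?_
      rintro z (rfl | hz)
      · exact hint
      · exact (show IsIntegral A (⟨z, hz⟩ : awnSub A) from isGood_awnSub.1 _).map (awnSub A).val
    exact (isIntegral_algHom_iff C.val Subtype.val_injective).mp (this y.2)
  · intro K _ d₁ d₂ e
    have hle : awnSub A ≤ C := fun w hw => Algebra.subset_adjoin (Or.inr hw)
    have hw : ∀ w (hw : w ∈ awnSub A), d₁ ⟨w, hle hw⟩ = d₂ ⟨w, hle hw⟩ := fun w hw =>
      RingHom.congr_fun (isGood_awnSub.2 K (d₁.comp (Subalgebra.inclusion hle).toRingHom)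
        (d₂.comp (Subalgebra.inclusion hle).toRingHom) (RingHom.ext fun a => RingHom.congr_fun e a)) ⟨w, hw⟩
    rintro z (rfl | hz)
    · exact huniq K d₁ d₂ hw
    · exact hw z hz

instance isReduced_awnSub : _root_.IsReduced (awnSub A) :=
  isReduced_of_injective (awnSub A).val Subtype.val_injective

theorem isAWNRing_awnSub : HTop.IsAWNRing (awnSub A) := by
  refine ⟨fun x y hxy => ?_, fun p hp x y hxy => ?_⟩
  · let a : PtProd A := fun i => y.1 i / x.1 i
    have hxy' : x.1 ^ 3 = y.1 ^ 2 := congrArg Subtype.val hxy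
    have ha2 : a ^ 2 = x.1 := funext fun i => by
      have := congrFun hxy' i
      simp only [Pi.pow_apply, a] at this ⊢
      by_cases hx : x.1 i = 0
      · rw [hx, div_zero, zero_pow two_ne_zero]
      · rw [div_pow, ← this]; field_simp
    have ha3 : a ^ 3 = y.1 := funext fun i => by
      have := congrFun hxy' i
      simp only [Pi.pow_apply, a] at this ⊢
      by_cases hx : x.1 i = 0
      · rw [hx, zero_pow three_ne_zero] at this
        rw [(pow_eq_zero_iff two_ne_zero).mp this.symm, zero_div, zero_pow three_ne_zero]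
      · rw [div_pow, this]
        field_simp
    have hint : IsIntegral A a := IsIntegral.of_pow (n := 2) (by omega) (by
      rw [ha2]; exact (show IsIntegral A x from isGood_awnSub.1 x).map (awnSub A).val)
    have hmem : a ∈ awnSub A := mem_awnSub_of_adjoin a hint fun K _ d₁ d₂ hw => by
      let C := Algebra.adjoin A (insert a (awnSub A : Set (PtProd A)))
      let aC : C := ⟨a, Algebra.subset_adjoin (Or.inl rfl)⟩
      have e2 : aC ^ 2 = ⟨x.1, Algebra.subset_adjoin (Or.inr x.2)⟩ := Subtype.ext ha2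
      have e3 : aC ^ 3 = ⟨y.1, Algebra.subset_adjoin (Or.inr y.2)⟩ := Subtype.ext ha3
      refine eq_of_sq_cube ?_ ?_
      · rw [← map_pow, ← map_pow, e2]; exact hw x.1 x.2
      · rw [← map_pow, ← map_pow, e3]; exact hw y.1 y.2
    refine ⟨⟨a, hmem⟩, ⟨Subtype.ext ha2.symm, Subtype.ext ha3.symm⟩, fun b hb => Subtype.ext ?_⟩
    exact eq_of_sq_cube ((congrArg Subtype.val hb.1).symm.trans ha2.symm)
      ((congrArg Subtype.val hb.2).symm.trans ha3.symm)
  · have hxy' : (p : PtProd A) ^ p * x.1 = y.1 ^ p := congrArg Subtype.val hxy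
    have hex : ∀ i, ∃ c : AlgebraicClosure (i : PrimeSpectrum A).asIdeal.ResidueField,
        c ^ p = x.1 i ∧ (p : AlgebraicClosure i.asIdeal.ResidueField) * c = y.1 i := fun i => by
      have h : (p : AlgebraicClosure i.asIdeal.ResidueField) ^ p * x.1 i = y.1 i ^ p := congrFun hxy' i
      by_cases hK : (p : AlgebraicClosure i.asIdeal.ResidueField) = 0
      · obtain ⟨c, hc⟩ := IsAlgClosed.exists_pow_nat_eq (x.1 i) hp.pos
        refine ⟨c, hc, ?_⟩
        rw [hK, zero_pow hp.ne_zero, zero_mul] at h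
        rw [hK, zero_mul, (pow_eq_zero_iff hp.ne_zero).mp h.symm]
      · refine ⟨y.1 i / (p : AlgebraicClosure i.asIdeal.ResidueField), ?_, mul_div_cancel₀ _ hK⟩
        rw [div_pow, ← h]
        field_simp
    choose a ha using hex
    have ha1 : a ^ p = x.1 := funext fun i => (ha i).1
    have ha2 : (p : PtProd A) * a = y.1 := funext fun i => (ha i).2
    have hint : IsIntegral A a := IsIntegral.of_pow hp.pos (by
      rw [ha1]; exact (show IsIntegral A x from isGood_awnSub.1 x).map (awnSub A).val)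
    have hmem : a ∈ awnSub A := mem_awnSub_of_adjoin a hint fun K _ d₁ d₂ hw => by
      let C := Algebra.adjoin A (insert a (awnSub A : Set (PtProd A)))
      let aC : C := ⟨a, Algebra.subset_adjoin (Or.inl rfl)⟩
      have e1 : aC ^ p = ⟨x.1, Algebra.subset_adjoin (Or.inr x.2)⟩ := Subtype.ext ha1
      have e2 : (p : C) * aC = ⟨y.1, Algebra.subset_adjoin (Or.inr y.2)⟩ := Subtype.ext ha2
      refine eq_of_pow_mul hp ?_ ?_
      · rw [← map_pow, ← map_pow, e1]; exact hw x.1 x.2
      · have h12 : d₁ ((p : C) * aC) = d₂ ((p : C) * aC) := by rw [e2]; exact hw y.1 y.2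
        simp only [map_mul, map_natCast] at h12
        exact h12
    refine ⟨⟨a, hmem⟩, ⟨Subtype.ext ha1.symm, Subtype.ext ha2.symm⟩, fun b hb => Subtype.ext ?_⟩
    exact eq_of_pow_mul hp ((congrArg Subtype.val hb.1).symm.trans ha1.symm)
      ((congrArg Subtype.val hb.2).symm.trans ha2.symm)

theorem exists_hom_awnSub {C : Type u} [CommRing C] (ψ : A →+* C)
    (h : FlatMor.IsUnivHomeo (Spec.map (CommRingCat.ofHom ψ))) :
    ∃! χ : C →+* awnSub A, χ.comp ψ = algebraMap A (awnSub A) := by
  obtain ⟨hint, hker, hUI⟩ := (specUnivHomeo_iff ψ).mp h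
  have hex : ∀ i : PrimeSpectrum A, ∃ d : C →+* AlgebraicClosure i.asIdeal.ResidueField,
      d.comp ψ = algebraMap A _ := fun i =>
    exists_extend ψ hint _ (hker.trans (@nilradical_le_prime _ _ _ (RingHom.ker_isPrime _)))
  choose d hd using hex
  let := ψ.toAlgebra
  let g : C →ₐ[A] PtProd A :=
    { RingHom.pi d with commutes' := fun a => funext fun i => RingHom.congr_fun (hd i) a }
  have hgood : IsGoodSub g.range := by
    refine ⟨fun y => ?_, fun K _ d₁ d₂ e => ?_⟩
    · obtain ⟨c, hc⟩ := y.2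
      have hc' : IsIntegral A c := hint c
      refine (isIntegral_algHom_iff g.range.val Subtype.val_injective).mp ?_
      change IsIntegral A (y : PtProd A)
      rw [← hc]
      exact hc'.map g
    · have := hUI K (d₁.comp g.rangeRestrict.toRingHom) (d₂.comp g.rangeRestrict.toRingHom)
        (RingHom.ext fun a => by
          have hh : g.rangeRestrict (algebraMap A C a) = algebraMap A g.range a := g.rangeRestrict.commutes a
          change d₁ (g.rangeRestrict (algebraMap A C a)) = d₂ (g.rangeRestrict (algebraMap A C a))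
          rw [hh]; exact RingHom.congr_fun e a)
      exact RingHom.ext fun y => by
        obtain ⟨c, rfl⟩ := g.rangeRestrict_surjective y
        exact RingHom.congr_fun this c
  refine ⟨(Subalgebra.inclusion (le_awnSub hgood)).toRingHom.comp g.rangeRestrict.toRingHom,
    RingHom.ext fun a => Subtype.ext (g.commutes a), fun χ hχ => RingHom.ext fun c => Subtype.ext ?_⟩
  funext i
  refine RingHom.congr_fun (hUI _ ((Pi.evalRingHom _ i).comp ((awnSub A).val.toRingHom.comp χ))
    ((Pi.evalRingHom _ i).comp g.toRingHom) (RingHom.ext fun a => ?_)) c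
  exact (congrFun (congrArg Subtype.val (RingHom.congr_fun hχ a)) i).trans (congrFun (g.commutes a) i).symm

theorem isRingAWN_awnSub : HTop.IsRingAWN (algebraMap A (awnSub A)) :=
  ⟨isUnivHomeo_sub isGood_awnSub, fun _ _ ψ h => exists_hom_awnSub ψ h⟩

/-- Two weak normalizations of a ring are isomorphic. -/
theorem isRingAWN_unique {W W' : Type u} [CommRing W] [CommRing W'] {φ : A →+* W} {φ' : A →+* W'}
    (h : HTop.IsRingAWN φ) (h' : HTop.IsRingAWN φ') :
    ∃ e : W ≃+* W', (e : W →+* W').comp φ = φ' := by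
  obtain ⟨f, hf, -⟩ := h'.2 W φ h.1
  obtain ⟨g, hg, -⟩ := h.2 W' φ' h'.1
  have h1 : g.comp f = RingHom.id W :=
    (h.2 W φ h.1).unique (by rw [RingHom.comp_assoc, hf, hg]) (RingHom.id_comp _)
  have h2 : f.comp g = RingHom.id W' :=
    (h'.2 W' φ' h'.1).unique (by rw [RingHom.comp_assoc, hg, hf]) (RingHom.id_comp _)
  exact ⟨RingEquiv.ofRingHom f g h2 h1, hf⟩

theorem isAWNRing_of_equiv {W W' : Type u} [CommRing W] [CommRing W'] (e : W ≃+* W')
    (h : HTop.IsAWNRing W') : HTop.IsAWNRing W := by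
  refine ⟨fun x y hxy => ?_, fun p hp x y hxy => ?_⟩
  · obtain ⟨a, ⟨h1, h2⟩, hu⟩ := h.1 (e x) (e y) (by rw [← map_pow, ← map_pow, hxy])
    refine ⟨e.symm a, ⟨?_, ?_⟩, fun b hb => ?_⟩
    · rw [← map_pow, ← h1, e.symm_apply_apply]
    · rw [← map_pow, ← h2, e.symm_apply_apply]
    · rw [← hu (e b) ⟨by rw [← map_pow, ← hb.1], by rw [← map_pow, ← hb.2]⟩, e.symm_apply_apply]
  · obtain ⟨a, ⟨h1, h2⟩, hu⟩ := h.2 p hp (e x) (e y) (by rw [← map_pow, ← hxy, map_mul, map_pow, map_natCast])
    refine ⟨e.symm a, ⟨?_, ?_⟩, fun b hb => ?_⟩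
    · rw [← map_pow, ← h1, e.symm_apply_apply]
    · rw [← map_natCast e.symm, ← map_mul, ← h2, e.symm_apply_apply]
    · rw [← hu (e b) ⟨by rw [← map_pow, ← hb.1], by rw [← map_natCast e, ← map_mul, ← hb.2]⟩,
        e.symm_apply_apply]

theorem isAWNRing_of_isRingAWN {W : Type u} [CommRing W] {φ : A →+* W} (h : HTop.IsRingAWN φ) :
    HTop.IsAWNRing W := by
  obtain ⟨e, -⟩ := isRingAWN_unique h isRingAWN_awnSub
  exact isAWNRing_of_equiv e isAWNRing_awnSub

end Groth.HTopHyper
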