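import Groth.Agent.HTopHyper.SquareSheaf
import Groth.Agent.BlowUpBasics.Universal

/-! Almost blow-up squares are isomorphisms off the centre. -/

set_option autoImplicit false

universe u

open CategoryTheory CategoryTheory.Limits AlgebraicGeometry

namespace Groth.HTopHyper

theorem disjoint_support_ker {Z X : Scheme.{u}} (i : Z ⟶ X) [IsClosedImmersion i] (U : X.Opens)
    (hU : Disjoint (Set.range i) (U : Set X)) : Disjoint (i.ker.support : Set X) (U : Set X) := by
  rwa [Scheme.Hom.support_ker, i.isClosedEmbedding.isClosed_range.closure_eq]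

/-- The open complement of the range of a closed immersion. -/
noncomputable def offCentre {Z X : Scheme.{u}} (i : Z ⟶ X) [IsClosedImmersion i] : X.Opens :=
  ⟨(Set.range i)ᶜ, i.isClosedEmbedding.isClosed_range.isOpen_compl⟩

theorem isIso_offCentre_of_almostBlowUp {E Z X' X : Scheme.{u}} {e : E ⟶ X'} {π : E ⟶ Z}
    {b : X' ⟶ X} {i : Z ⟶ X} (h : HTop.IsAlmostBlowUpSquare e π b i) :
    have := h.isClosedImmersion
    IsIso (b ∣_ offCentre i) := by
  intro _
  let 𝓘 := i.ker.comap b
  let k := (HTop.supportedOn 𝓘).subschemeι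
  let O : X'.Opens := b ⁻¹ᵁ offCentre i
  have hc : IsIso ((k ≫ b) ∣_ offCentre i) :=
    Groth.BlowUpBasics.isIso_morphismRestrict h.isBlowUp (offCentre i)
      (disjoint_support_ker i _ disjoint_compl_right)
  have hO : O = HTop.awayFrom 𝓘 := by
    ext x
    change b x ∈ (Set.range i)ᶜ ↔ x ∈ (𝓘.support : Set X')ᶜ
    rw [Scheme.IdealSheafData.support_comap, ← i.isClosedEmbedding.isClosed_range.closure_eq,
      ← Scheme.Hom.support_ker]
    rfl
  obtain ⟨s, hs⟩ : ∃ s : (O : Scheme.{u}) ⟶ (HTop.supportedOn 𝓘).subscheme, s ≫ k = O.ι := by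
    rw [hO]
    exact ⟨(HTop.awayFrom 𝓘).ι.toImage, (HTop.awayFrom 𝓘).ι.toImage_imageι⟩
  have hk : IsIso (k ∣_ O) := by
    have hr : Set.range s ⊆ Set.range (k ⁻¹ᵁ O).ι := by
      rintro _ ⟨z, rfl⟩
      rw [Scheme.Opens.range_ι]
      change k (s z) ∈ O
      rw [← Scheme.Hom.comp_apply, hs]
      exact z.2
    have hsec : IsOpenImmersion.lift (k ⁻¹ᵁ O).ι s hr ≫ (k ∣_ O) = 𝟙 _ := by
      rw [← cancel_mono O.ι, Category.assoc, morphismRestrict_ι, IsOpenImmersion.lift_fac_assoc,
        hs, Category.id_comp]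
    have : IsClosedImmersion (k ∣_ O) :=
      IsZariskiLocalAtTarget.restrict (P := @IsClosedImmersion) inferInstance O
    refine ⟨_, ?_, hsec⟩
    rw [← cancel_mono (k ∣_ O), Category.assoc, hsec, Category.comp_id, Category.id_comp]
  rw [morphismRestrict_comp] at hc
  exact @IsIso.of_isIso_comp_left _ _ _ _ _ (k ∣_ (b ⁻¹ᵁ offCentre i)) (b ∣_ offCentre i) hk hc

theorem mem_offCentre_or {Z X : Scheme.{u}} (i : Z ⟶ X) [IsClosedImmersion i] (y : X) :
    y ∈ offCentre i ∨ y ∈ Set.range i :=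
  (em (y ∈ Set.range i)).symm

end Groth.HTopHyper
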