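import Groth.Agent.HTopHyper.AlmostBlowUp
import Groth.Agent.BlowUpBasics.Global

/-! Sections supported on a locally principal closed subscheme; almost blow-up squares. -/

set_option autoImplicit false

universe u

open CategoryTheory CategoryTheory.Limits AlgebraicGeometry

namespace Groth.HTopHyper

variable {X : Scheme.{u}}

theorem awayFrom_inf_eq_basicOpen {I : X.IdealSheafData} {U : X.affineOpens} {f : Γ(X, (U : X.Opens))}
    (hf : I.ideal U = Ideal.span {f}) : HTop.awayFrom I ⊓ (U : X.Opens) = X.basicOpen f := by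
  ext y
  have key : y ∈ (U : X.Opens) → (y ∈ I.support ↔ y ∉ X.basicOpen f) := fun hy => by
    rw [Scheme.IdealSheafData.mem_support_iff_of_mem hy, hf, Scheme.zeroLocus_span,
      Scheme.mem_zeroLocus_iff]
    simp
  constructor
  · rintro ⟨h1, h2⟩
    by_contra h
    exact h1 ((key h2).mpr h)
  · intro h
    exact ⟨fun h' => (key (X.basicOpen_le f h)).mp h' h, X.basicOpen_le f h⟩

theorem isAffineHom_awayFrom {I : X.IdealSheafData} (hI : HTop.IsLocPrincipal I) :
    IsAffineHom (HTop.awayFrom I).ι := by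
  refine isAffineHom_of_forall_exists_isAffineOpen _ fun x => ?_
  obtain ⟨U, hx, f, hf⟩ := hI x
  refine ⟨U, hx, U.2, ?_⟩
  rw [← (HTop.awayFrom I).ι.isAffineOpen_iff_of_isOpenImmersion,
    Scheme.Hom.image_preimage_eq_opensRange_inf, Scheme.Opens.opensRange_ι,
    awayFrom_inf_eq_basicOpen hf]
  exact IsAffineOpen.basicOpen U.2 f

theorem isLocPrincipal_comap {Y : Scheme.{u}} (g : Y ⟶ X) {I : X.IdealSheafData}
    (hI : HTop.IsLocPrincipal I) : HTop.IsLocPrincipal (I.comap g) := by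
  intro y
  obtain ⟨U, hU, f, hf⟩ := hI (g y)
  obtain ⟨V, hV, hy, hle⟩ := Y.isBasis_affineOpens.exists_subset_of_mem_open
    (show y ∈ g ⁻¹ᵁ (U : X.Opens) from hU) (g ⁻¹ᵁ (U : X.Opens)).isOpen
  obtain ⟨V', hV', rfl⟩ := hV
  refine ⟨⟨V', hV'⟩, hy, g.appLE U.1 V' hle f, ?_⟩
  rw [Groth.BlowUpBasics.ideal_comap g I U ⟨V', hV'⟩ hle, hf, Ideal.map_span, Set.image_singleton]

/-- On the subscheme cut out by the sections supported on a locally principal ideal, that ideal
becomes effective Cartier. -/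
theorem isEffCartierIdeal_comap_supportedOn {I : X.IdealSheafData} (hI : HTop.IsLocPrincipal I) :
    BlowUp.IsEffCartierIdeal (I.comap (HTop.supportedOn I).subschemeι) := by
  set J := HTop.supportedOn I
  intro s
  let k := J.subschemeι
  obtain ⟨U, hU, f, hf⟩ := hI (k s)
  have hV : IsAffineOpen (k ⁻¹ᵁ (U : X.Opens)) := IsAffineOpen.preimage U.2 k
  have := isAffineHom_awayFrom hI
  refine ⟨⟨_, hV⟩, hU, k.app U f, ?_, ?_⟩
  · rw [mem_nonZeroDivisors_iff_right]
    intro a ha
    obtain ⟨b, rfl⟩ := J.subschemeι_app_surjective U a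
    have hJ : J.ideal U = RingHom.ker ((HTop.awayFrom I).ι.app U.1).hom :=
      (HTop.awayFrom I).ι.ker_apply U
    have hmem : b * f ∈ J.ideal U := by
      rw [← J.ker_subschemeι_app U, RingHom.mem_ker, map_mul]
      exact ha
    rw [hJ, RingHom.mem_ker, map_mul] at hmem
    have hu : IsUnit (((HTop.awayFrom I).ι.app U.1).hom f) := by
      have himg : (HTop.awayFrom I).ι ''ᵁ ((HTop.awayFrom I).ι ⁻¹ᵁ U.1) ≤ X.basicOpen f := by
        rw [Scheme.Hom.image_preimage_eq_opensRange_inf, Scheme.Opens.opensRange_ι,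
          awayFrom_inf_eq_basicOpen hf]
      have h1 := (X.toRingedSpace.isUnit_res_basicOpen f).map (X.presheaf.map (homOfLE himg).op).hom
      erw [← CommRingCat.comp_apply, ← Functor.map_comp] at h1
      rw [Scheme.Opens.ι_app]
      exact h1
    have hb : b ∈ J.ideal U := by
      rw [hJ, RingHom.mem_ker]
      exact hu.mul_left_eq_zero.mp hmem
    exact RingHom.mem_ker.mp ((J.ker_subschemeι_app U).symm ▸ hb)
  · rw [Groth.BlowUpBasics.ideal_comap k I U ⟨_, hV⟩ le_rfl, hf, Ideal.map_span, Set.image_singleton,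
      Scheme.Hom.appLE_eq_app]

theorem supportedOn_le_ker {P : Scheme.{u}} (I : X.IdealSheafData) (m : P ⟶ X)
    (h : BlowUp.IsEffCartierIdeal (I.comap m)) : HTop.supportedOn I ≤ m.ker := by
  let O : P.Opens := (I.comap m).support.compl
  have hd : IsSchemeTheoreticallyDominant O.ι :=
    Groth.BlowUpBasics.isSchemeTheoreticallyDominant_compl h
  have hO : O ≤ m ⁻¹ᵁ HTop.awayFrom I := fun y hy hy' =>
    hy (show y ∈ ((I.comap m).support : Set P) by rw [Scheme.IdealSheafData.support_comap]; exact hy')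
  have : (O.ι ≫ m).ker = m.ker := by
    rw [Scheme.Hom.ker_comp, hd.ker_eq_bot, Scheme.IdealSheafData.map_bot]
  rw [← this, ← Scheme.Hom.resLE_comp_ι m hO]
  exact Scheme.Hom.le_ker_comp _ _

theorem ker_baseChange {Z Z₁ Y : Scheme.{u}} {i : Z ⟶ X} {g : Y ⟶ X} {i₁ : Z₁ ⟶ Y} {gZ : Z₁ ⟶ Z}
    [IsClosedImmersion i] (hZ : IsPullback gZ i₁ i g) : i₁.ker = i.ker.comap g := by
  rw [← Scheme.IdealSheafData.ker_fst_of_isClosedImmersion i g, ← hZ.flip.isoPullback_hom_fst,
    Scheme.Hom.ker_comp_of_isIso]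

theorem isAlmostBlowUpSquare_baseChange {E Z X' Y E₁ Z₁ X₁ : Scheme.{u}}
    {e : E ⟶ X'} {π : E ⟶ Z} {b : X' ⟶ X} {i : Z ⟶ X} (h : HTop.IsAlmostBlowUpSquare e π b i)
    (g : Y ⟶ X) {b₁ : X₁ ⟶ Y} {gX : X₁ ⟶ X'} (hX : IsPullback gX b₁ b g) {i₁ : Z₁ ⟶ Y}
    {gZ : Z₁ ⟶ Z} (hZ : IsPullback gZ i₁ i g) {e₁ : E₁ ⟶ X₁} {gE : E₁ ⟶ E}
    (hE : IsPullback gE e₁ e gX) {π₁ : E₁ ⟶ Z₁} (hπ : π₁ ≫ i₁ = e₁ ≫ b₁) :
    HTop.IsAlmostBlowUpSquare e₁ π₁ b₁ i₁ := by
  have := h.isClosedImmersion
  have hker := ker_baseChange hZ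
  have hcomap : i₁.ker.comap b₁ = (i.ker.comap b).comap gX := by
    rw [hker, ← Scheme.IdealSheafData.comap_comp, ← hX.w, Scheme.IdealSheafData.comap_comp]
  have hlp : HTop.IsLocPrincipal (i₁.ker.comap b₁) :=
    hcomap ▸ isLocPrincipal_comap gX h.locPrincipal
  have hci : IsClosedImmersion i₁ := MorphismProperty.of_isPullback hZ h.isClosedImmersion
  refine ⟨hci, MorphismProperty.of_isPullback hZ h.finitePresentation_base,
    ?_, hlp, MorphismProperty.of_isPullback hX h.isProper,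
    MorphismProperty.of_isPullback hX h.finitePresentation, ?_, ?_⟩
  · have h1 : IsPullback e₁ (gE ≫ π) (gX ≫ b) i := hE.flip.paste_vert h.isPullback
    have hgz : π₁ ≫ gZ = gE ≫ π := by
      rw [← cancel_mono i, Category.assoc, hZ.w, reassoc_of% hπ, Category.assoc,
        ← h.isPullback.w, reassoc_of% hE.w, hX.w]
    rw [hX.w, ← hgz] at h1
    exact IsPullback.of_bot h1 hπ.symm hZ.flip
  · rw [Scheme.IdealSheafData.comap_comp]
    exact isEffCartierIdeal_comap_supportedOn hlp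
  · intro P p hp
    let 𝓘 := i.ker.comap b
    let k := (HTop.supportedOn 𝓘).subschemeι
    let k₁ := (HTop.supportedOn (i₁.ker.comap b₁)).subschemeι
    have hp' : BlowUp.IsEffCartierIdeal (i.ker.comap (p ≫ g)) := by
      rw [Scheme.IdealSheafData.comap_comp, ← hker]; exact hp
    obtain ⟨l, hl, hlu⟩ := h.isBlowUp.2 P (p ≫ g) hp'
    let m : P ⟶ X₁ := hX.lift (l ≫ k) p (by rw [Category.assoc]; exact hl)
    have hm : k₁.ker ≤ m.ker := by
      rw [Scheme.IdealSheafData.ker_subschemeι]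
      refine supportedOn_le_ker _ m ?_
      rw [← Scheme.IdealSheafData.comap_comp, hX.lift_snd]
      exact hp
    refine ⟨IsClosedImmersion.lift k₁ m hm, ?_, fun q hq => ?_⟩
    · change IsClosedImmersion.lift k₁ m hm ≫ k₁ ≫ b₁ = p
      rw [IsClosedImmersion.lift_fac_assoc, hX.lift_snd]
    · change q ≫ k₁ ≫ b₁ = p at hq
      rw [← cancel_mono k₁, IsClosedImmersion.lift_fac]
      refine hX.hom_ext ?_ (by rw [Category.assoc, hq, hX.lift_snd])
      rw [hX.lift_fst]
      have hb : (q ≫ k₁ ≫ gX) ≫ b = p ≫ g := by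
        simp only [Category.assoc, hX.w]
        rw [← Category.assoc k₁, ← Category.assoc q, hq]
      have hk : k.ker ≤ (q ≫ k₁ ≫ gX).ker := by
        rw [Scheme.IdealSheafData.ker_subschemeι]
        refine supportedOn_le_ker _ _ ?_
        rw [← Scheme.IdealSheafData.comap_comp, hb]
        exact hp'
      rw [Category.assoc, ← IsClosedImmersion.lift_fac k _ hk]
      refine congrArg (· ≫ k) (hlu _ ?_)
      change IsClosedImmersion.lift k _ hk ≫ k ≫ b = p ≫ g
      rw [IsClosedImmersion.lift_fac_assoc]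
      simpa using hb

theorem isBlowUp_iso {B B' : Scheme.{u}} {c : B ⟶ X} {c' : B' ⟶ X} {K : X.IdealSheafData}
    (h : BlowUp.IsBlowUp c K) (a : B' ≅ B) (hc : a.hom ≫ c = c') : BlowUp.IsBlowUp c' K :=
  hc ▸ Groth.BlowUpBasics.isBlowUp_iso_source h a

theorem le_supportedOn_iff {E Z X' W EW : Scheme.{u}} {e : E ⟶ X'} {π : E ⟶ Z} {b : X' ⟶ X}
    {i : Z ⟶ X} (h : HTop.IsAlmostBlowUpSquare e π b i) (w : W ⟶ X') [IsClosedImmersion w]
    [LocallyOfFinitePresentation w] {eW : EW ⟶ W} {gE : EW ⟶ E} (hEW : IsPullback gE eW e w) :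
    w.ker ≤ HTop.supportedOn (i.ker.comap b) ↔
      HTop.IsAlmostBlowUpSquare eW (gE ≫ π) (w ≫ b) i := by
  have := h.isClosedImmersion
  have := h.isProper
  have := h.finitePresentation
  let 𝓘 := i.ker.comap b
  have hcomap : i.ker.comap (w ≫ b) = 𝓘.comap w := Scheme.IdealSheafData.comap_comp _ _ _
  constructor
  · intro hle
    let k := (HTop.supportedOn 𝓘).subschemeι
    let k' := (HTop.supportedOn (i.ker.comap (w ≫ b))).subschemeι
    refine ⟨h.isClosedImmersion, h.finitePresentation_base, hEW.flip.paste_vert h.isPullback,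
      hcomap ▸ isLocPrincipal_comap w h.locPrincipal, inferInstance, inferInstance, ?_⟩
    have hker : (k' ≫ w).ker = k.ker := by
      rw [Scheme.Hom.ker_comp, Scheme.IdealSheafData.ker_subschemeι,
        Scheme.IdealSheafData.ker_subschemeι, hcomap, HTop.supportedOn, HTop.supportedOn,
        ← Scheme.Hom.ker_comp]
      refine le_antisymm ?_ ?_
      · have hl : w.ker ≤ (HTop.awayFrom 𝓘).ι.ker := hle
        let l := IsClosedImmersion.lift w _ hl
        have hrange : Set.range l ⊆ Set.range (HTop.awayFrom (𝓘.comap w)).ι := by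
          rintro _ ⟨z, rfl⟩
          rw [Scheme.Opens.range_ι]
          change l z ∈ ((𝓘.comap w).support : Set W)ᶜ
          rw [Scheme.IdealSheafData.support_comap]
          change w (l z) ∈ ((𝓘.support : Set X')ᶜ)
          rw [← Scheme.Hom.comp_apply, IsClosedImmersion.lift_fac]
          exact z.2
        have hcomp : IsOpenImmersion.lift _ l hrange ≫ (HTop.awayFrom (𝓘.comap w)).ι ≫ w =
            (HTop.awayFrom 𝓘).ι := by
          rw [IsOpenImmersion.lift_fac_assoc, IsClosedImmersion.lift_fac]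
        rw [← hcomp]
        exact Scheme.Hom.le_ker_comp _ _
      · have hle' : HTop.awayFrom (𝓘.comap w) ≤ w ⁻¹ᵁ HTop.awayFrom 𝓘 := fun y hy hy' =>
          hy (show y ∈ ((𝓘.comap w).support : Set W) by
            rw [Scheme.IdealSheafData.support_comap]; exact hy')
        rw [← Scheme.Hom.resLE_comp_ι w hle']
        exact Scheme.Hom.le_ker_comp _ _
    have hiso := IsClosedImmersion.isIso_lift (k' ≫ w) k hker
    refine isBlowUp_iso h.isBlowUp (asIso (IsClosedImmersion.lift (k' ≫ w) k hker.le)).symm ?_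
    rw [← Category.assoc k', Iso.symm_hom, asIso_inv, IsIso.inv_comp_eq,
      IsClosedImmersion.lift_fac_assoc]
  · intro h'
    have h1 : IsIso ((w ≫ b) ∣_ offCentre i) := isIso_offCentre_of_almostBlowUp h'
    have h2 : IsIso (b ∣_ offCentre i) := isIso_offCentre_of_almostBlowUp h
    rw [morphismRestrict_comp] at h1
    have h3 : IsIso (w ∣_ (b ⁻¹ᵁ offCentre i)) :=
      @IsIso.of_isIso_comp_right _ _ _ _ _ (w ∣_ (b ⁻¹ᵁ offCentre i)) (b ∣_ offCentre i) h2 h1
    have hO : HTop.awayFrom 𝓘 ≤ b ⁻¹ᵁ offCentre i := fun y hy hy' =>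
      hy (show y ∈ (𝓘.support : Set X') by
        rw [Scheme.IdealSheafData.support_comap]
        show b y ∈ (i.ker.support : Set X)
        rw [Scheme.Hom.support_ker, i.isClosedEmbedding.isClosed_range.closure_eq]
        exact hy')
    have hfac : X'.homOfLE hO ≫ inv (w ∣_ (b ⁻¹ᵁ offCentre i)) ≫
        (w ⁻¹ᵁ (b ⁻¹ᵁ offCentre i)).ι ≫ w = (HTop.awayFrom 𝓘).ι := by
      rw [← morphismRestrict_ι, IsIso.inv_hom_id_assoc, Scheme.homOfLE_ι]
    rw [HTop.supportedOn, ← hfac, ← Category.assoc, ← Category.assoc]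
    exact Scheme.Hom.le_ker_comp _ _

end Groth.HTopHyper
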