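import Groth.Agent.HTopHyper.AlmostBlowUp2
import Groth.Agent.HTopHyper.BlowUpProper
import Groth.Agent.BlowUpBasics.Global
import Groth.Agent.Limits.Approximation
import Groth.Agent.Limits.RelApproxCor
import Groth.Agent.Limits.DescentStage
import Groth.Agent.SpectralTopology.DescendFP

/-! Existence and domination of almost blow up squares. -/

set_option autoImplicit false
set_option backward.isDefEq.respectTransparency false

universe u

open CategoryTheory CategoryTheory.Limits AlgebraicGeometry Opposite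

namespace Groth.HTopHyper

theorem isAlmostBlowUpSquare_of_isBlowUp {Z X X' : Scheme.{u}} (i : Z ⟶ X) [IsClosedImmersion i]
    [LocallyOfFinitePresentation i] [IsLocallyNoetherian X] (b : X' ⟶ X)
    (hb : BlowUp.IsBlowUp b i.ker) :
    HTop.IsAlmostBlowUpSquare (pullback.fst b i) (pullback.snd b i) b i := by
  have hp : IsProper b := isProper_of_isBlowUp hb (fg_ker_of_closedImmersion i)
  refine ⟨inferInstance, inferInstance, IsPullback.of_hasPullback b i, ?_, hp,
    LocallyOfFinitePresentation.iff_locallyOfFiniteType.mpr inferInstance, ?_⟩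
  · intro x
    obtain ⟨U, hxU, f, -, hf⟩ := hb.1 x
    exact ⟨U, hxU, f, hf⟩
  · have h0 : HTop.supportedOn (i.ker.comap b) = ⊥ :=
      (Groth.BlowUpBasics.isSchemeTheoreticallyDominant_compl hb.1).ker_eq_bot
    rw [h0]
    exact isBlowUp_iso hb (asIso (Scheme.IdealSheafData.subschemeι ⊥ : _ ⟶ X')) rfl

/-- Almost blow up squares exist over quasi-compact quasi-separated schemes. -/
theorem exists_isAlmostBlowUpSquare {Z X : Scheme.{u}} [CompactSpace X] [QuasiSeparatedSpace X]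
    (i : Z ⟶ X) [IsClosedImmersion i] [LocallyOfFinitePresentation i] :
    ∃ (E X' : Scheme.{u}) (e : E ⟶ X') (π : E ⟶ Z) (b : X' ⟶ X),
      HTop.IsAlmostBlowUpSquare e π b i := by
  obtain ⟨A⟩ := Groth.Limits.exists_zsystem X
  have := A.affine
  have := A.compact
  have : IsNoetherianRing (ULift.{u} ℤ) := inferInstance
  have hN : ∀ k, IsLocallyNoetherian (A.D.obj k) := fun k =>
    have := A.locallyOfFiniteType k
    LocallyOfFiniteType.isLocallyNoetherian (Limits.IsTerminal.from specULiftZIsTerminal (A.D.obj k))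
  have : ∀ k, QuasiSeparatedSpace (A.D.obj k) := fun k => have := hN k; inferInstance
  obtain ⟨k₀, ⟨M⟩⟩ := Groth.SpectralTopology.exists_stageModel A.isLimit i
  obtain ⟨j, hj⟩ := Groth.Limits.exists_isClosedImmersion_stage (f₀ := M.hom)
    (g₀ := 𝟙 (A.D.obj k₀)) (g := 𝟙 A.cone.pt) (qY := A.π.app k₀) (qX := M.map) (f := i) A.isLimit
    (IsPullback.of_vert_isIso ⟨by simp⟩) M.sq
  have hcl : IsClosedImmersion (pullback.snd M.hom (A.D.map j.hom)) :=
    Groth.Limits.prop_snd_comp @IsClosedImmersion M.hom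
      (pullback.lift (𝟙 _) (A.D.map j.hom) (by simp))
      (pullback.snd (A.D.map j.hom) (𝟙 (A.D.obj k₀))) _ (pullback.lift_snd _ _ _) hj
  let M' := M.pull j.hom
  have : IsClosedImmersion M'.hom := by
    show IsClosedImmersion (pullback.fst (A.D.map j.hom) M.hom)
    rw [← pullbackSymmetry_hom_comp_snd]; infer_instance
  have := hN j.left
  obtain ⟨B, b₀, hb⟩ := Groth.BlowUpBasics.exists_isBlowUp _ M'.hom.ker
  have h0 := isAlmostBlowUpSquare_of_isBlowUp M'.hom b₀ hb
  let π₀ : X ⟶ A.D.obj j.left := A.π.app j.left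
  refine ⟨pullback (pullback.fst b₀ M'.hom) (pullback.fst b₀ π₀), pullback b₀ π₀,
    pullback.snd _ _,
    M'.sq.lift (pullback.fst _ _ ≫ pullback.snd b₀ M'.hom)
      (pullback.snd _ _ ≫ pullback.snd b₀ π₀) ?_, pullback.snd b₀ π₀,
    isAlmostBlowUpSquare_baseChange h0 π₀ (IsPullback.of_hasPullback b₀ π₀) M'.sq
      (IsPullback.of_hasPullback (pullback.fst b₀ M'.hom) (pullback.fst b₀ π₀))
      (M'.sq.lift_snd _ _ _)⟩
  rw [Category.assoc, ← pullback.condition, ← Category.assoc, pullback.condition, Category.assoc,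
    pullback.condition, Category.assoc]

/-- Almost blow up squares with the same centre are dominated by a third one. -/
theorem exists_isAlmostBlowUpSquare_dominating {Z X E₁ X₁ E₂ X₂ : Scheme.{u}} [CompactSpace X]
    [QuasiSeparatedSpace X] (i : Z ⟶ X) [IsClosedImmersion i]
    {e₁ : E₁ ⟶ X₁} {π₁ : E₁ ⟶ Z} {b₁ : X₁ ⟶ X} (h₁ : HTop.IsAlmostBlowUpSquare e₁ π₁ b₁ i)
    {e₂ : E₂ ⟶ X₂} {π₂ : E₂ ⟶ Z} {b₂ : X₂ ⟶ X} (h₂ : HTop.IsAlmostBlowUpSquare e₂ π₂ b₂ i) :
    ∃ (E X' : Scheme.{u}) (e : E ⟶ X') (π : E ⟶ Z) (b : X' ⟶ X) (j₁ : X' ⟶ X₁) (j₂ : X' ⟶ X₂),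
      HTop.IsAlmostBlowUpSquare e π b i ∧ IsClosedImmersion j₁ ∧ IsClosedImmersion j₂ ∧
        j₁ ≫ b₁ = b ∧ j₂ ≫ b₂ = b := by
  have := h₁.isProper; have := h₂.isProper
  have := h₁.finitePresentation; have := h₂.finitePresentation
  let k₁ := (HTop.supportedOn (i.ker.comap b₁)).subschemeι
  let k₂ := (HTop.supportedOn (i.ker.comap b₂)).subschemeι
  obtain ⟨a, ha⟩ := Groth.BlowUpBasics.exists_iso_of_isBlowUp h₁.isBlowUp h₂.isBlowUp
  let ι : (HTop.supportedOn (i.ker.comap b₁)).subscheme ⟶ pullback b₁ b₂ :=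
    pullback.lift k₁ (a.hom ≫ k₂) (by rw [Category.assoc]; exact ha.symm)
  have hι₁ : ι ≫ pullback.fst b₁ b₂ = k₁ := pullback.lift_fst _ _ _
  have : IsClosedImmersion ι := by
    have : IsClosedImmersion (ι ≫ pullback.fst b₁ b₂) := by rw [hι₁]; infer_instance
    exact IsClosedImmersion.of_comp ι (pullback.fst b₁ b₂)
  let q := pullback.fst b₁ b₂ ≫ b₁
  have : CompactSpace ↥(pullback b₁ b₂) := QuasiCompact.compactSpace_of_compactSpace q
  have : QuasiSeparatedSpace ↥(pullback b₁ b₂) := quasiSeparatedSpace_of_quasiSeparated q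
  have : CompactSpace ↥(HTop.supportedOn (i.ker.comap b₁)).subscheme :=
    QuasiCompact.compactSpace_of_compactSpace ι
  have : IsClosedImmersion ι := ‹_›
  obtain ⟨R, hR, -, -⟩ := Groth.Limits.exists_finiteRelSystem ι
  have hclι : ∀ x y (m : x ⟶ y), IsClosedImmersion (R.D.map m).left := hR
  have : ∀ x y (m : x ⟶ y), IsAffineHom (R.left.map m) := R.affine
  let t₁ : R.left ⟶ (Functor.const R.Iᵒᵖ).obj X₁ :=
    { app := fun k => (R.D.obj k).hom ≫ pullback.fst b₁ b₂
      naturality := fun k l m => by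
        simp [Groth.Limits.RelSystem.left] }
  let t₂ : R.left ⟶ (Functor.const R.Iᵒᵖ).obj X₂ :=
    { app := fun k => (R.D.obj k).hom ≫ pullback.snd b₁ b₂
      naturality := fun k l m => by
        simp [Groth.Limits.RelSystem.left] }
  have : CompactSpace X₁ := QuasiCompact.compactSpace_of_compactSpace b₁
  have : CompactSpace X₂ := QuasiCompact.compactSpace_of_compactSpace b₂
  have := R.quasiCompact; have := R.quasiSeparated
  have := R.locallyOfFinitePresentation
  have : ∀ k, QuasiCompact (t₁.app k) := fun k =>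
    inferInstanceAs (QuasiCompact ((R.D.obj k).hom ≫ pullback.fst b₁ b₂))
  have : ∀ k, QuasiSeparated (t₁.app k) := fun k =>
    inferInstanceAs (QuasiSeparated ((R.D.obj k).hom ≫ pullback.fst b₁ b₂))
  have : ∀ k, LocallyOfFiniteType (t₁.app k) := fun k =>
    inferInstanceAs (LocallyOfFiniteType ((R.D.obj k).hom ≫ pullback.fst b₁ b₂))
  have : ∀ k, QuasiCompact (t₂.app k) := fun k =>
    inferInstanceAs (QuasiCompact ((R.D.obj k).hom ≫ pullback.snd b₁ b₂))
  have : ∀ k, QuasiSeparated (t₂.app k) := fun k =>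
    inferInstanceAs (QuasiSeparated ((R.D.obj k).hom ≫ pullback.snd b₁ b₂))
  have : ∀ k, LocallyOfFiniteType (t₂.app k) := fun k =>
    inferInstanceAs (LocallyOfFiniteType ((R.D.obj k).hom ≫ pullback.snd b₁ b₂))
  obtain ⟨k₀⟩ := IsCofiltered.nonempty (C := R.Iᵒᵖ)
  have hw : ∀ k, (R.π.app k).left ≫ (R.D.obj k).hom = ι := fun k => Over.w (R.π.app k)
  have : IsClosedImmersion (R.leftCone.π.app k₀ ≫ t₁.app k₀) := by
    show IsClosedImmersion ((R.π.app k₀).left ≫ (R.D.obj k₀).hom ≫ pullback.fst b₁ b₂)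
    rw [reassoc_of% (hw k₀), hι₁]; infer_instance
  have : IsClosedImmersion (R.leftCone.π.app k₀ ≫ t₂.app k₀) := by
    show IsClosedImmersion ((R.π.app k₀).left ≫ (R.D.obj k₀).hom ≫ pullback.snd b₁ b₂)
    rw [reassoc_of% (hw k₀), pullback.lift_snd]; infer_instance
  obtain ⟨m₁, hm₁⟩ :=
    Groth.Limits.exists_isClosedImmersion_app t₁ R.isLimitLeftCone k₀ hclι
  obtain ⟨m₂, hm₂⟩ :=
    Groth.Limits.exists_isClosedImmersion_app t₂ R.isLimitLeftCone k₀ hclι
  let m := IsCofiltered.min m₁ m₂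
  have hw₁ : IsClosedImmersion ((R.D.obj m).hom ≫ pullback.fst b₁ b₂) :=
    hm₁ m (IsCofiltered.minToLeft _ _)
  have hw₂ : IsClosedImmersion ((R.D.obj m).hom ≫ pullback.snd b₁ b₂) :=
    hm₂ m (IsCofiltered.minToRight _ _)
  let w := (R.D.obj m).hom ≫ pullback.fst b₁ b₂
  have : LocallyOfFinitePresentation w :=
    inferInstanceAs (LocallyOfFinitePresentation ((R.D.obj m).hom ≫ pullback.fst b₁ b₂))
  have hle : w.ker ≤ HTop.supportedOn (i.ker.comap b₁) := by
    have he : (R.π.app m).left ≫ w = k₁ :=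
      (Category.assoc _ _ _).symm.trans ((congrArg (· ≫ pullback.fst b₁ b₂) (hw m)).trans hι₁)
    have h' : w.ker ≤ k₁.ker := (Scheme.Hom.le_ker_comp (R.π.app m).left w).trans
      (congrArg (fun φ => Scheme.Hom.ker φ) he).le
    exact h'.trans (Scheme.IdealSheafData.ker_subschemeι _).le
  refine ⟨pullback e₁ w, _, pullback.snd e₁ w, pullback.fst e₁ w ≫ π₁, w ≫ b₁, w,
    (R.D.obj m).hom ≫ pullback.snd b₁ b₂,
    (le_supportedOn_iff h₁ w (IsPullback.of_hasPullback e₁ w)).mp hle, hw₁, hw₂, rfl, ?_⟩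
  simp only [w, Category.assoc, pullback.condition]

end Groth.HTopHyper
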