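import Groth.Agent.HTopHyper.AlmostBlowUp3
import Groth.Agent.RaynaudGruson.Flattening.Core
import Groth.Agent.RaynaudGruson.Flattening.Subscheme
import Groth.Agent.Limits.FlatDescent
import Groth.Agent.GitQuot.GrpdFinW
import Groth.Agent.S19332

/-!
Flattening by almost blow-ups: the strict transform is flat over the blow-up, which is the limit of
the almost blow-ups, and the flat closed subscheme descends to one of them.
-/

set_option autoImplicit false
set_option backward.isDefEq.respectTransparency false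
set_option linter.style.haveILetI false

universe u

open CategoryTheory CategoryTheory.Limits AlgebraicGeometry Opposite

namespace Groth.HTopHyper.AlmostFlattening

/-- A limit over the base change system comes from a flat closed subscheme at some stage. -/
theorem exists_flat_closed_stage {I : Type u} [SmallCategory I] [IsCofiltered I]
    {D : I ⥤ Scheme.{u}} [∀ (i j : I) (m : i ⟶ j), IsAffineHom (D.map m)]
    [∀ i, CompactSpace (D.obj i)] [∀ i, QuasiSeparatedSpace (D.obj i)]
    {c : Cone D} (hc : IsLimit c) {X Y : Scheme.{u}} (f : X ⟶ Y) [QuasiCompact f] [QuasiSeparated f]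
    [LocallyOfFinitePresentation f] (t : D ⟶ (Functor.const I).obj Y) (τ : c.pt ⟶ Y)
    (hτ : ∀ i, c.π.app i ≫ t.app i = τ) {W : Scheme.{u}} (w : W ⟶ pullback f τ) [IsClosedImmersion w]
    [Flat (w ≫ pullback.snd f τ)] [LocallyOfFinitePresentation (w ≫ pullback.snd f τ)] (m : I) :
    ∃ (k : I) (_ : k ⟶ m) (V : Scheme.{u}) (ω : V ⟶ pullback f (t.app k)) (e : W ⟶ V),
      IsClosedImmersion ω ∧ LocallyOfFinitePresentation ω ∧ Flat (ω ≫ pullback.snd f (t.app k)) ∧
      e ≫ ω ≫ pullback.fst f (t.app k) = w ≫ pullback.fst f τ ∧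
      e ≫ ω ≫ pullback.snd f (t.app k) = w ≫ pullback.snd f τ ≫ c.π.app k := by
  open Groth.Limits in
  let B := bcDiagram t f
  let C := bcCone t f c τ hτ
  let hC : IsLimit C := isLimitBcCone t f c τ hτ hc
  haveI : ∀ i, QuasiSeparatedSpace (B.obj i) := fun i =>
    quasiSeparatedSpace_of_quasiSeparated (pullback.snd f (t.app i))
  haveI : ∀ i, CompactSpace (B.obj i) := fun i =>
    QuasiCompact.compactSpace_of_compactSpace (pullback.snd f (t.app i))
  haveI : ∀ (i j : I) (a : i ⟶ j), IsAffineHom (B.map a) := fun i j a =>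
    MorphismProperty.of_isPullback (isPullback_bcTrans t f a).flip inferInstance
  haveI : LocallyOfFinitePresentation w := Groth.SpectralTopology.lfp_of_comp w (pullback.snd f τ)
  let w' : W ⟶ C.pt := w
  haveI : IsClosedImmersion w' := ‹IsClosedImmersion w›
  haveI : LocallyOfFinitePresentation w' := ‹LocallyOfFinitePresentation w›
  obtain ⟨k₀, ⟨M₀⟩⟩ := Groth.SpectralTopology.exists_stageModel hC w'
  obtain ⟨j, hj⟩ := Groth.Limits.exists_isClosedImmersion_stage (f₀ := M₀.hom)
    (g₀ := 𝟙 (B.obj k₀)) (g := 𝟙 C.pt) (qY := C.π.app k₀) (qX := M₀.map) (f := w') hC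
    (IsPullback.of_vert_isIso ⟨(Category.comp_id _).trans (Category.id_comp _).symm⟩) M₀.sq
  have hcl : IsClosedImmersion (pullback.snd M₀.hom (B.map j.hom)) :=
    Groth.Limits.prop_snd_comp @IsClosedImmersion M₀.hom
      (pullback.lift (𝟙 _) (B.map j.hom) (by simp))
      (pullback.snd (B.map j.hom) (𝟙 (B.obj k₀))) _ (pullback.lift_snd _ _ _) hj
  let M₁ := M₀.pull j.hom
  haveI : IsClosedImmersion M₁.hom := by
    show IsClosedImmersion (pullback.fst (B.map j.hom) M₀.hom)
    rw [← pullbackSymmetry_hom_comp_snd]; infer_instance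
  let M := M₁.pull (IsCofiltered.minToLeft j.left m)
  haveI : IsClosedImmersion M.hom :=
    inferInstanceAs (IsClosedImmersion (pullback.fst (B.map (IsCofiltered.minToLeft j.left m)) M₁.hom))
  let k₁ := IsCofiltered.min j.left m
  let hom : M.obj ⟶ pullback f (t.app k₁) := M.hom
  haveI : IsClosedImmersion hom := ‹IsClosedImmersion M.hom›
  haveI : LocallyOfFinitePresentation hom := M.lfp
  let f₁ : M.obj ⟶ D.obj k₁ := hom ≫ pullback.snd f (t.app k₁)
  haveI : LocallyOfFinitePresentation f₁ := inferInstanceAs (LocallyOfFinitePresentation (_ ≫ _))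
  haveI : CompactSpace M.obj := QuasiCompact.compactSpace_of_compactSpace M.hom
  have hCk : IsPullback (C.π.app k₁) (pullback.snd f τ) (pullback.snd f (t.app k₁)) (c.π.app k₁) := by
    refine IsPullback.of_right ?_ (pullback.lift_snd _ _ _)
      (IsPullback.of_hasPullback f (t.app k₁))
    rw [show C.π.app k₁ ≫ pullback.fst f (t.app k₁) = pullback.fst f τ from pullback.lift_fst _ _ _, hτ]
    exact IsPullback.of_hasPullback f τ
  have hsq : IsPullback M.map (w ≫ pullback.snd f τ) f₁ (c.π.app k₁) := M.sq.paste_vert hCk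
  have hflat : Flat (pullback.snd f₁ (c.π.app k₁)) := by
    rw [← hsq.isoPullback_inv_snd]; infer_instance
  obtain ⟨o, ho⟩ := Groth.Limits.exists_stage_of_ringDescends (P := @Flat) (Q := RingHom.Flat)
    Groth.Limits.ringDescends_flat (fun _ _ g hg => inferInstance) D c hc k₁ f₁ hflat
  let V := pullback f₁ (D.map o.hom)
  let ω : V ⟶ pullback f (t.app o.left) :=
    pullback.lift (pullback.fst f₁ _ ≫ hom ≫ pullback.fst f (t.app k₁)) (pullback.snd f₁ _) (by
      rw [Category.assoc, Category.assoc, pullback.condition, ← Groth.Limits.map_comp_app t o.hom,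
        ← Category.assoc hom, ← Category.assoc, ← Category.assoc]
      exact congrArg (· ≫ t.app k₁) pullback.condition)
  have hω : IsPullback (pullback.fst f₁ (D.map o.hom)) ω hom ((bcDiagram t f).map o.hom) := by
    refine IsPullback.of_bot ?_ ?_ (isPullback_bcTrans t f o.hom)
    · rw [bcTrans_app, bcTrans_app, show ω ≫ pullback.snd f (t.app o.left) = pullback.snd f₁ _ from
        pullback.lift_snd _ _ _]
      exact IsPullback.of_hasPullback f₁ (D.map o.hom)
    · apply pullback.hom_ext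
      · simp [bcDiagram, ω]
      · simp only [bcDiagram, ω, Category.assoc, pullback.lift_snd, pullback.lift_snd_assoc]
        exact pullback.condition
  let e : W ⟶ V := pullback.lift M.map (w ≫ pullback.snd f τ ≫ c.π.app o.left)
    (by rw [hsq.w, Category.assoc, Category.assoc, Category.assoc, c.w])
  refine ⟨o.left, o.hom ≫ IsCofiltered.minToRight _ _, V, ω, e,
    MorphismProperty.of_isPullback hω inferInstance, MorphismProperty.of_isPullback hω inferInstance,
    ?_, ?_, ?_⟩
  · rw [pullback.lift_snd]; exact ho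
  · rw [pullback.lift_fst, pullback.lift_fst_assoc, reassoc_of% M.sq.w]
    exact congrArg (w ≫ ·) (pullback.lift_fst _ _ _)
  · rw [pullback.lift_snd, pullback.lift_snd]

/-- Two maps to an almost blow up which make the centre effective Cartier and agree on the base are
equal. -/
theorem hom_ext_of_isCartier {E Z X' X P : Scheme.{u}} {e : E ⟶ X'} {π : E ⟶ Z} {b : X' ⟶ X}
    {i : Z ⟶ X} (h : HTop.IsAlmostBlowUpSquare e π b i) (r r' : P ⟶ X') (hr : r ≫ b = r' ≫ b)
    (hc : BlowUp.IsEffCartierIdeal (i.ker.comap (r ≫ b))) : r = r' := by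
  let k := (HTop.supportedOn (i.ker.comap b)).subschemeι
  have hle : ∀ q : P ⟶ X', q ≫ b = r ≫ b → k.ker ≤ q.ker := fun q hq => by
    rw [Scheme.IdealSheafData.ker_subschemeι]
    refine supportedOn_le_ker _ q ?_
    rw [← Scheme.IdealSheafData.comap_comp, hq]; exact hc
  obtain ⟨l, -, hlu⟩ := h.isBlowUp.2 P (r ≫ b) hc
  have key : ∀ (q : P ⟶ X') (hq : q ≫ b = r ≫ b), q = l ≫ k := fun q hq => by
    rw [← IsClosedImmersion.lift_fac k q (hle q hq)]
    refine congrArg (· ≫ k) (hlu _ ?_)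
    show IsClosedImmersion.lift k q (hle q hq) ≫ k ≫ b = r ≫ b
    rw [IsClosedImmersion.lift_fac_assoc]; exact hq
  rw [key r rfl, key r' hr.symm]

/-- An almost blow up square on the source: a proper modification `W` of `X` over the almost blow up
of `Y` receiving every morphism that makes the centre effective Cartier. -/
theorem isAlmostBlowUpSquare_source {X Y Y' Z E W : Scheme.{u}} {eE : E ⟶ Y'} {πE : E ⟶ Z}
    {bY : Y' ⟶ Y} {i : Z ⟶ Y} (h : HTop.IsAlmostBlowUpSquare eE πE bY i) (f : X ⟶ Y) (f' : W ⟶ Y')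
    (bX : W ⟶ X) [IsProper bX] [LocallyOfFinitePresentation bX] (hf' : f' ≫ bY = bX ≫ f)
    (hmono : ∀ {P : Scheme.{u}} (q q' : P ⟶ W), q ≫ bX = q' ≫ bX → q ≫ f' = q' ≫ f' → q = q')
    (hlift : ∀ {P : Scheme.{u}} (p : P ⟶ X), BlowUp.IsEffCartierIdeal (i.ker.comap (p ≫ f)) →
      ∃ q : P ⟶ W, q ≫ bX = p) :
    ∃ πD : pullback eE f' ⟶ pullback f i,
      HTop.IsAlmostBlowUpSquare (pullback.snd eE f') πD bX (pullback.fst f i) ∧
        πD ≫ pullback.snd f i = pullback.fst eE f' ≫ πE := by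
  haveI := h.isClosedImmersion
  haveI := h.finitePresentation_base
  let eD := pullback.snd eE f'
  let fE := pullback.fst eE f'
  let iT := pullback.fst f i
  let πD : pullback eE f' ⟶ pullback f i := pullback.lift (eD ≫ bX) (fE ≫ πE) (by
    rw [Category.assoc, ← hf', ← reassoc_of% (pullback.condition (f := eE) (g := f')), Category.assoc,
      h.isPullback.w])
  have hπD₁ : πD ≫ iT = eD ≫ bX := pullback.lift_fst _ _ _
  have hπD₂ : πD ≫ pullback.snd f i = fE ≫ πE := pullback.lift_snd _ _ _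
  have hkT : iT.ker = i.ker.comap f := ker_baseChange (IsPullback.of_hasPullback f i).flip
  have hlpX : HTop.IsLocPrincipal (iT.ker.comap bX) := by
    rw [hkT, ← Scheme.IdealSheafData.comap_comp, ← hf', Scheme.IdealSheafData.comap_comp]
    exact isLocPrincipal_comap f' h.locPrincipal
  have hDpb : IsPullback eD πD bX iT := by
    refine IsPullback.of_bot ?_ hπD₁.symm (IsPullback.of_hasPullback f i)
    rw [hπD₂, ← hf']
    exact (IsPullback.of_hasPullback eE f').flip.paste_vert h.isPullback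
  refine ⟨πD, ⟨inferInstance, inferInstance, hDpb, hlpX, inferInstance, inferInstance, ?_, ?_⟩, hπD₂⟩
  · rw [Scheme.IdealSheafData.comap_comp]
    exact isEffCartierIdeal_comap_supportedOn hlpX
  · intro P p hp
    let kW := (HTop.supportedOn (iT.ker.comap bX)).subschemeι
    have hp' : BlowUp.IsEffCartierIdeal (i.ker.comap (p ≫ f)) := by
      rwa [Scheme.IdealSheafData.comap_comp, ← hkT]
    obtain ⟨q₀, hq₀⟩ := hlift p hp'
    have hkq : kW.ker ≤ q₀.ker := by
      rw [Scheme.IdealSheafData.ker_subschemeι]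
      refine supportedOn_le_ker _ q₀ ?_
      rwa [← Scheme.IdealSheafData.comap_comp, hq₀]
    refine ⟨IsClosedImmersion.lift kW q₀ hkq, ?_, fun q hq => ?_⟩
    · show IsClosedImmersion.lift kW q₀ hkq ≫ kW ≫ bX = p
      rw [IsClosedImmersion.lift_fac_assoc, hq₀]
    · change q ≫ kW ≫ bX = p at hq
      rw [← cancel_mono kW, IsClosedImmersion.lift_fac]
      have hq' : (q ≫ kW) ≫ bX = p := by rw [Category.assoc, hq]
      refine hmono _ _ (hq'.trans hq₀.symm) (hom_ext_of_isCartier h _ _ ?_ ?_)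
      · rw [Category.assoc, Category.assoc _ f', hf', ← Category.assoc, hq', ← Category.assoc, hq₀]
      · rw [Category.assoc, hf', ← Category.assoc, hq']
        exact hp'

/-- **Flattening by almost blow-ups.** -/
theorem exists_almostBlowUp_flattening {X Y : Scheme.{u}} [CompactSpace Y] [QuasiSeparatedSpace Y]
    (f : X ⟶ Y) [LocallyOfFinitePresentation f] [QuasiCompact f] [QuasiSeparated f] (V : Y.Opens)
    (hV : IsCompact (V : Set Y)) [Flat (f ∣_ V)] :
    ∃ (Z Y' E T X' D : Scheme.{u}) (iZ : Z ⟶ Y) (bY : Y' ⟶ Y) (eE : E ⟶ Y') (πE : E ⟶ Z)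
      (iT : T ⟶ X) (bX : X' ⟶ X) (eD : D ⟶ X') (πD : D ⟶ T) (fZ : T ⟶ Z) (f' : X' ⟶ Y')
      (fE : D ⟶ E), HTop.IsAlmostBlowUpSquare eE πE bY iZ ∧ HTop.IsAlmostBlowUpSquare eD πD bX iT ∧
      IsPullback fZ iT iZ f ∧ IsPullback fE eD eE f' ∧ f' ≫ bY = bX ≫ f ∧ πD ≫ fZ = fE ≫ πE ∧
      iZ ⁻¹ᵁ V = ⊥ ∧ Flat f' ∧ LocallyOfFinitePresentation f' := by
  haveI : LocallyOfFinitePresentation (f ∣_ V) := IsZariskiLocalAtTarget.restrict ‹_› V
  obtain ⟨𝓘, S', b, hb, hadm, hsupp, hmain⟩ :=
    Groth.RaynaudGruson.Flattening.exists_blowUp_subscheme f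
      Groth.RaynaudGruson.Flattening.principalFlattening V hV
  let i := 𝓘.subschemeι
  haveI : LocallyOfFinitePresentation i := Groth.GrpdFinStrata.lfp_subschemeι 𝓘 fun x => by
    obtain ⟨U, hU, -⟩ := Groth.Divisors.exists_affine_le x ⊤ trivial
    exact ⟨U, hU, hadm.1 U⟩
  have hker : i.ker = 𝓘 := Scheme.IdealSheafData.ker_subschemeι _
  obtain ⟨E₀, Y₀, e₀, π₀, b₀, h₀⟩ := exists_isAlmostBlowUpSquare i
  haveI := h₀.isProper
  haveI := h₀.finitePresentation
  let S₁ := (HTop.supportedOn (i.ker.comap b₀)).subscheme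
  let k : S₁ ⟶ Y₀ := (HTop.supportedOn (i.ker.comap b₀)).subschemeι
  have hb₁ : BlowUp.IsBlowUp (k ≫ b₀) 𝓘 := hker ▸ h₀.isBlowUp
  obtain ⟨a, ha⟩ := Groth.BlowUpBasics.exists_iso_of_isBlowUp hb₁ hb
  let τ : S₁ ⟶ Y := k ≫ b₀
  let X₁ := pullback f τ
  let p₁ := pullback.fst f τ
  let p₂ := pullback.snd f τ
  have H : IsPullback p₁ (p₂ ≫ a.hom) f b :=
    (IsPullback.of_hasPullback f τ).of_iso (Iso.refl _) (Iso.refl _) a (Iso.refl _) (by simp [p₁])
      (by simp [p₂]) (by simp) (by simpa [τ] using ha.symm)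
  let 𝓔 := (𝓘.comap f).comap p₁
  have h𝓔ft : BlowUp.IsFiniteTypeIdeal 𝓔 :=
    Groth.RefRank.isFiniteTypeIdeal_comap p₁ (Groth.RefRank.isFiniteTypeIdeal_comap f hadm.1)
  have h𝓔lp : HTop.IsLocPrincipal 𝓔 := by
    have : 𝓔 = (𝓘.comap τ).comap p₂ := by
      simp only [𝓔, ← Scheme.IdealSheafData.comap_comp]
      exact congrArg _ pullback.condition
    rw [this]
    refine isLocPrincipal_comap p₂ fun s => ?_
    obtain ⟨U, hU, g, -, hg⟩ := hb₁.1 s
    exact ⟨U, hU, g, hg⟩
  haveI := isAffineHom_awayFrom h𝓔lp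
  let 𝒥 := HTop.supportedOn 𝓔
  obtain ⟨hflat, hlfp⟩ := hmain X₁ p₁ (p₂ ≫ a.hom) H 𝒥
    (fun U s => Groth.Agent.S19332.mem_ker_ι_iff_killed 𝓔 h𝓔ft (HTop.awayFrom 𝓔) rfl U s)
  haveI : Flat (𝒥.subschemeι ≫ p₂) := by
    rw [show 𝒥.subschemeι ≫ p₂ = (𝒥.subschemeι ≫ p₂ ≫ a.hom) ≫ a.inv by simp]; infer_instance
  haveI : LocallyOfFinitePresentation (𝒥.subschemeι ≫ p₂) := by
    rw [show 𝒥.subschemeι ≫ p₂ = (𝒥.subschemeι ≫ p₂ ≫ a.hom) ≫ a.inv by simp]; infer_instance
  haveI : CompactSpace Y₀ := QuasiCompact.compactSpace_of_compactSpace b₀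
  haveI : QuasiSeparatedSpace Y₀ := quasiSeparatedSpace_of_quasiSeparated b₀
  obtain ⟨R, hR, -, -⟩ := Groth.Limits.exists_finiteRelSystem k
  haveI : ∀ x y (m : x ⟶ y), IsAffineHom (R.left.map m) := R.affine
  haveI := R.quasiCompact; haveI := R.quasiSeparated; haveI := R.locallyOfFinitePresentation
  haveI : ∀ x, CompactSpace (R.left.obj x) := R.compact
  haveI : ∀ x, QuasiSeparatedSpace (R.left.obj x) := fun x =>
    quasiSeparatedSpace_of_quasiSeparated (R.D.obj x).hom
  haveI : ∀ x, QuasiCompact (R.structureMap.app x) := R.quasiCompact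
  haveI : ∀ x, QuasiSeparated (R.structureMap.app x) := R.quasiSeparated
  haveI : ∀ x, LocallyOfFiniteType (R.structureMap.app x) := fun x =>
    inferInstanceAs (LocallyOfFiniteType (R.D.obj x).hom)
  obtain ⟨x₀⟩ := IsCofiltered.nonempty (C := R.Iᵒᵖ)
  haveI : IsClosedImmersion (R.leftCone.π.app x₀ ≫ R.structureMap.app x₀) := by
    rw [R.π_structureMap]; infer_instance
  obtain ⟨m, hm⟩ := Groth.Limits.exists_isClosedImmersion_app R.structureMap R.isLimitLeftCone x₀
    (fun x y m => hR x y m)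
  let t : R.left ⟶ (Functor.const R.Iᵒᵖ).obj Y :=
    R.structureMap ≫ (Functor.const R.Iᵒᵖ).map b₀
  obtain ⟨n, φ, W, ω, e, hω, hωfp, hωflat, he₁, he₂⟩ :=
    exists_flat_closed_stage R.isLimitLeftCone f t τ
      (fun x => (Category.assoc _ _ _).symm.trans (congrArg (· ≫ b₀) (R.π_structureMap x)))
      𝒥.subschemeι m
  let Y' := R.left.obj n
  let w : Y' ⟶ Y₀ := (R.D.obj n).hom
  haveI : IsClosedImmersion w := hm n φ
  have hkw : R.leftCone.π.app n ≫ w = k := R.π_structureMap n
  have hle : w.ker ≤ HTop.supportedOn (i.ker.comap b₀) := by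
    refine ((Scheme.Hom.le_ker_comp (R.leftCone.π.app n) w).trans ?_)
    rw [hkw, Scheme.IdealSheafData.ker_subschemeι]
  let bY : Y' ⟶ Y := w ≫ b₀
  have hsqY := (le_supportedOn_iff h₀ w (IsPullback.of_hasPullback e₀ w)).mp hle
  let eE := pullback.snd e₀ w
  let πE := pullback.fst e₀ w ≫ π₀
  let f' : W ⟶ Y' := ω ≫ pullback.snd f (t.app n)
  let bX : W ⟶ X := ω ≫ pullback.fst f (t.app n)
  have hf' : f' ≫ bY = bX ≫ f := by
    simp only [f', bX, bY, Category.assoc]
    exact congrArg (ω ≫ ·) pullback.condition.symm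
  haveI : IsProper bY := hsqY.isProper
  haveI : LocallyOfFinitePresentation bY := hsqY.finitePresentation
  haveI : IsProper (t.app n) := ‹IsProper bY›
  haveI : LocallyOfFinitePresentation (t.app n) := ‹LocallyOfFinitePresentation bY›
  haveI : IsProper bX := inferInstanceAs (IsProper (_ ≫ _))
  haveI : LocallyOfFinitePresentation bX := inferInstanceAs (LocallyOfFinitePresentation (_ ≫ _))
  obtain ⟨πD, hsqX, hπD⟩ := isAlmostBlowUpSquare_source hsqY f f' bX hf'
    (fun q q' h1 h2 => by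
      rw [← cancel_mono ω]
      exact pullback.hom_ext (by simpa only [bX, Category.assoc] using h1)
        (by simpa only [f', Category.assoc] using h2))
    (fun {P} p hp' => by
      obtain ⟨l, hl, -⟩ := h₀.isBlowUp.2 P (p ≫ f) hp'
      let r : P ⟶ X₁ := pullback.lift p l hl.symm
      have hr : 𝒥.subschemeι.ker ≤ r.ker := by
        rw [Scheme.IdealSheafData.ker_subschemeι]
        refine supportedOn_le_ker _ r ?_
        simp only [𝓔, ← Scheme.IdealSheafData.comap_comp]
        rw [show r ≫ p₁ ≫ f = p ≫ f by rw [← Category.assoc, pullback.lift_fst], ← hker]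
        exact hp'
      refine ⟨IsClosedImmersion.lift 𝒥.subschemeι r hr ≫ e, ?_⟩
      simp only [bX, Category.assoc]
      rw [he₁, IsClosedImmersion.lift_fac_assoc]
      exact pullback.lift_fst _ _ _)
  have hZ : i ⁻¹ᵁ V = ⊥ := by
    rw [← le_bot_iff]
    intro z hz
    have h1 : i z ∈ (V : Set Y) := hz
    have h2 : i z ∈ (𝓘.support : Set Y) := by
      rw [← Scheme.IdealSheafData.range_subschemeι]; exact ⟨z, rfl⟩
    rw [hsupp] at h2
    exact h2 h1
  have hf'fp : LocallyOfFinitePresentation f' := inferInstanceAs (LocallyOfFinitePresentation (_ ≫ _))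
  exact ⟨_, Y', _, pullback f i, W, pullback eE f', i, bY, eE, πE, pullback.fst f i, bX,
    pullback.snd eE f', πD, pullback.snd f i, f', pullback.fst eE f', hsqY, hsqX,
    (IsPullback.of_hasPullback f i).flip, IsPullback.of_hasPullback eE f', hf', hπD, hZ, hωflat,
    hf'fp⟩

end Groth.HTopHyper.AlmostFlattening
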