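import Groth.Agent.HTopHyper.VCover
import Groth.Agent.EGA43Valuative.DominatingDVR
import Mathlib.RingTheory.PowerSeries.Inverse

/-! Lifting discrete valuation rings suffices for lifting all valuation rings over a Noetherian
base. -/

set_option autoImplicit false
set_option backward.isDefEq.respectTransparency false

universe w u

open CategoryTheory CategoryTheory.Limits AlgebraicGeometry IsLocalRing MvPolynomial

namespace Groth.HTopHyper

/-- A Noetherian local domain maps injectively and locally to a discrete valuation ring. -/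
theorem exists_dvr_of_local (A : Type u) [CommRing A] [IsDomain A] [IsNoetherianRing A]
    [IsLocalRing A] :
    ∃ (D : Type u) (_ : CommRing D) (_ : IsDomain D) (_ : IsDiscreteValuationRing D) (θ : A →+* D),
      Function.Injective θ ∧ IsLocalHom θ := by
  classical
  by_cases h : IsField A
  · let := h.toField
    refine ⟨PowerSeries A, inferInstance, inferInstance, inferInstance, PowerSeries.C,
      PowerSeries.C_injective, ⟨fun a ha => ?_⟩⟩
    rwa [PowerSeries.isUnit_iff_constantCoeff, PowerSeries.constantCoeff_C] at ha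
  · exact Groth.EGA43Val.exists_dvr_dominating A h

/-- Primes of a polynomial ring over a valuation ring give extensions of valuation rings. -/
theorem exists_valExt_of_primes {V : CommRingCat.{u}} [IsDomain V] [ValuationRing V] {B : Type u}
    [CommRing B] (f : V →+* B) (q₀ q : Ideal B) [q₀.IsPrime] [q.IsPrime] (hle : q₀ ≤ q)
    (h₀ : q₀.comap f = ⊥) (h : q.comap f = maximalIdeal V) :
    ∃ (W : CommRingCat.{u}) (_ : IsDomain W) (_ : ValuationRing W) (ψ : V ⟶ W) (χ : B →+* W),
      HTop.IsExtVal V W ψ ∧ χ.comp f = ψ.hom ∧ q₀ ≤ RingHom.ker χ := by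
  let qbar : Ideal (B ⧸ q₀) := q.map (Ideal.Quotient.mk q₀)
  have : qbar.IsPrime := Ideal.map_isPrime_of_surjective Ideal.Quotient.mk_surjective
    (by rwa [Ideal.mk_ker])
  have hqbar : ∀ b, Ideal.Quotient.mk q₀ b ∈ qbar ↔ b ∈ q := fun b => by
    rw [← Ideal.mem_comap, Ideal.comap_map_of_surjective _ Ideal.Quotient.mk_surjective,
      ← RingHom.ker_eq_comap_bot, Ideal.mk_ker, sup_eq_left.mpr hle]
  let K := FractionRing (B ⧸ q₀)
  let ι : Localization.AtPrime qbar →+* K :=
    IsLocalization.lift (M := qbar.primeCompl) (g := algebraMap (B ⧸ q₀) K) fun y =>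
      (map_ne_zero_iff _ (IsFractionRing.injective (B ⧸ q₀) K)).mpr
        (fun h0 : (y : B ⧸ q₀) = 0 => y.2 (by rw [h0]; exact qbar.zero_mem)) |>.isUnit
  obtain ⟨A, hA, hAloc⟩ := IsLocalRing.exists_factor_valuationRing ι
  let c : B →+* A := (ι.codRestrict A.toSubring hA).comp
    ((algebraMap (B ⧸ q₀) (Localization.AtPrime qbar)).comp (Ideal.Quotient.mk q₀))
  have hc : ∀ b, (c b : K) = algebraMap (B ⧸ q₀) K (Ideal.Quotient.mk q₀ b) := fun b =>
    IsLocalization.lift_eq _ _
  refine ⟨CommRingCat.of A, inferInstanceAs (IsDomain A), inferInstanceAs (ValuationRing A),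
    CommRingCat.ofHom (c.comp f), c, ⟨?_, ?_⟩, rfl, fun b hb => ?_⟩
  · refine (injective_iff_map_eq_zero (c.comp f)).2 fun v hv => ?_
    have h1 : algebraMap (B ⧸ q₀) K (Ideal.Quotient.mk q₀ (f v)) = 0 :=
      (hc _).symm.trans (congrArg Subtype.val hv)
    rw [map_eq_zero_iff _ (IsFractionRing.injective (B ⧸ q₀) K), Ideal.Quotient.eq_zero_iff_mem] at h1
    exact Ideal.mem_bot.mp (h₀ ▸ Ideal.mem_comap.mpr h1)
  · refine ⟨fun v hv => ?_⟩
    by_contra hv'
    have h1 : f v ∈ q := h.ge hv'
    rw [← hqbar, ← IsLocalization.AtPrime.to_map_mem_maximal_iff (Localization.AtPrime qbar) qbar] at h1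
    exact h1 (hAloc.map_nonunit _ hv)
  · exact Subtype.ext ((hc b).trans (by rw [Ideal.Quotient.eq_zero_iff_mem.mpr hb, map_zero]; rfl))

/-- The torsion saturation of an ideal of a polynomial ring over a domain. -/
def saturation {V : Type u} [CommRing V] [IsDomain V] {n : ℕ} (I : Ideal (MvPolynomial (Fin n) V)) :
    Ideal (MvPolynomial (Fin n) V) where
  carrier := {y | ∃ c : V, c ≠ 0 ∧ C c * y ∈ I}
  add_mem' := by
    rintro y z ⟨c, hc, hy⟩ ⟨d, hd, hz⟩
    refine ⟨c * d, mul_ne_zero hc hd, ?_⟩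
    rw [map_mul, mul_add]
    refine I.add_mem ?_ ?_
    · rw [mul_right_comm]; exact I.mul_mem_right _ hy
    · rw [mul_assoc]; exact I.mul_mem_left _ hz
  zero_mem' := ⟨1, one_ne_zero, by simp⟩
  smul_mem' := by
    rintro r y ⟨c, hc, hy⟩
    exact ⟨c, hc, by rw [smul_eq_mul, mul_left_comm]; exact I.mul_mem_left _ hy⟩

/-- Either the saturation and the maximal ideal generate everything, or there is an extension. -/
theorem exists_valExt_of_saturation {V : CommRingCat.{u}} [IsDomain V] [ValuationRing V] {n : ℕ}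
    (I : Ideal (MvPolynomial (Fin n) V))
    (h : saturation I ⊔ (maximalIdeal V).map (C : V →+* MvPolynomial (Fin n) V) ≠ ⊤) :
    ∃ (W : CommRingCat.{u}) (_ : IsDomain W) (_ : ValuationRing W) (ψ : V ⟶ W)
      (χ : MvPolynomial (Fin n) V →+* W),
      HTop.IsExtVal V W ψ ∧ χ.comp C = ψ.hom ∧ I ≤ RingHom.ker χ := by
  obtain ⟨q, hq, hle⟩ := Ideal.exists_le_maximal _ h
  have := hq.isPrime
  have hIJ : I ≤ saturation I := fun y hy => ⟨1, one_ne_zero, by simpa using hy⟩
  obtain ⟨q₀, hq₀, hq₀q⟩ := Ideal.exists_minimalPrimes_le (le_sup_left.trans hle)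
  have : q₀.IsPrime := hq₀.1.1
  have hmax : q.comap (C : V →+* MvPolynomial (Fin n) V) = maximalIdeal V :=
    ((maximalIdeal.isMaximal V).eq_of_le (Ideal.IsPrime.ne_top inferInstance)
      (Ideal.map_le_iff_le_comap.mp (le_sup_right.trans hle))).symm
  have hbot : q₀.comap (C : V →+* MvPolynomial (Fin n) V) = ⊥ := by
    refine eq_bot_iff.mpr fun v hv => ?_
    by_contra hv0
    obtain ⟨z, hz, hvz⟩ := Ideal.exists_mul_mem_of_mem_minimalPrimes hq₀ hv
    obtain ⟨c, hc, hcz⟩ := hvz
    exact hz ⟨c * v, mul_ne_zero hc hv0, by rw [map_mul, mul_assoc]; exact hcz⟩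
  obtain ⟨W, hW, hW', ψ, χ, hψ, hχ, hker⟩ := exists_valExt_of_primes C q₀ q hq₀q hbot hmax
  exact ⟨W, hW, hW', ψ, χ, hψ, hχ, (hIJ.trans hq₀.1.2).trans hker⟩

/-- The key descent to discrete valuation rings. -/
theorem exists_ext_of_dvr {ι : Type w} [Finite ι] {R : CommRingCat.{u}} [IsNoetherianRing R]
    {B : ι → CommRingCat.{u}} (φ : ∀ i, R ⟶ B i) (hft : ∀ i, (φ i).hom.FiniteType)
    (hdvr : ∀ (D : CommRingCat.{u}) [IsDomain D] [IsDiscreteValuationRing D] (d : R ⟶ D),
      ∃ (W : CommRingCat.{u}) (_ : IsDomain W) (_ : IsLocalRing W) (ψ : D ⟶ W),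
        Function.Injective ψ.hom ∧ IsLocalHom ψ.hom ∧
          ∃ (j : ι) (χ : B j ⟶ W), φ j ≫ χ = d ≫ ψ)
    (V : CommRingCat.{u}) [IsDomain V] [ValuationRing V] (a : R ⟶ V) :
    ∃ (W : CommRingCat.{u}) (_ : IsDomain W) (_ : ValuationRing W) (ψ : V ⟶ W),
      HTop.IsExtVal V W ψ ∧ ∃ (j : ι) (χ : B j ⟶ W), φ j ≫ χ = a ≫ ψ := by
  classical
  by_contra hno
  have hpres : ∀ i, ∃ (n : ℕ) (π : MvPolynomial (Fin n) R →+* B i) (G : Finset (MvPolynomial (Fin n) R)),
      Function.Surjective π ∧ π.comp C = (φ i).hom ∧ Ideal.span (G : Set _) = RingHom.ker π := fun i => by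
    letI := (φ i).hom.toAlgebra
    have : Algebra.FiniteType R (B i) := hft i
    obtain ⟨n, π, hπ⟩ := Algebra.FiniteType.iff_quotient_mvPolynomial''.mp this
    obtain ⟨G, hG⟩ := (isNoetherianRing_iff_ideal_fg _).mp inferInstance (RingHom.ker π.toRingHom)
    exact ⟨n, π.toRingHom, G, hπ, π.comp_algebraMap, hG⟩
  choose n π G hπ hπC hG using hpres
  let aT : ∀ i, MvPolynomial (Fin (n i)) R →+* MvPolynomial (Fin (n i)) V := fun i => MvPolynomial.map a.hom
  let I : ∀ i, Ideal (MvPolynomial (Fin (n i)) V) := fun i => Ideal.span ((G i).image (aT i) : Set _)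
  have hone : ∀ i, ∃ (y z : MvPolynomial (Fin (n i)) V) (c : V)
      (p : MvPolynomial (Fin (n i)) R → MvPolynomial (Fin (n i)) V),
      c ≠ 0 ∧ C c * y = ∑ g ∈ G i, p g * aT i g ∧
      z ∈ (maximalIdeal V).map (C : V →+* MvPolynomial (Fin (n i)) V) ∧ y + z = 1 := by
    intro i
    by_cases h : saturation (I i) ⊔ (maximalIdeal V).map (C : V →+* MvPolynomial (Fin (n i)) V) = ⊤
    · obtain ⟨y, ⟨c, hc, hy⟩, z, hz, hyz⟩ := Submodule.mem_sup.mp ((Ideal.eq_top_iff_one _).mp h)
      have hy' : C c * y ∈ Ideal.span (aT i '' (G i : Set _)) := by simpa [I] using hy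
      obtain ⟨p, hp⟩ := (Submodule.mem_span_image_finset_iff_exists_fun _).mp hy'
      refine ⟨y, z, c, fun g => if hg : g ∈ G i then p ⟨g, hg⟩ else 0, hc, ?_, hz, hyz⟩
      rw [← hp, ← Finset.sum_attach (G i)]
      exact Finset.sum_congr rfl fun g _ => by simp [g.2]
    · exfalso
      obtain ⟨W, hW, hW', ψ, χ, hψ, hχ, hker⟩ := exists_valExt_of_saturation (I i) h
      have hvan : RingHom.ker (π i) ≤ RingHom.ker (χ.comp (aT i)) := by
        rw [← hG, Ideal.span_le]
        exact fun g hg => hker (Ideal.subset_span (Finset.mem_image_of_mem _ hg))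
      refine hno ⟨W, hW, hW', ψ, hψ, i,
        CommRingCat.ofHom ((π i).liftOfSurjective (hπ i) ⟨χ.comp (aT i), hvan⟩), ?_⟩
      ext r
      show (π i).liftOfSurjective (hπ i) ⟨χ.comp (aT i), hvan⟩ ((φ i).hom r) = ψ.hom (a.hom r)
      rw [← hπC i, RingHom.comp_apply, RingHom.liftOfSurjective_comp_apply, RingHom.comp_apply,
        ← hχ]
      simp [aT]
  choose y z c p hc hp hz hyz using hone
  cases nonempty_fintype ι
  let coef : Finset V := Finset.univ.biUnion fun i => {c i} ∪
    ((y i).support.image (y i).coeff ∪ (z i).support.image (z i).coeff ∪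
      (G i).biUnion fun g => (p i g).support.image (p i g).coeff)
  letI := a.hom.toAlgebra
  let A := Algebra.adjoin R (coef : Set V)
  have : Algebra.FiniteType R A := (Subalgebra.fg_iff_finiteType A).1 ⟨coef, rfl⟩
  have : IsNoetherianRing A := Algebra.FiniteType.isNoetherianRing R A
  let P : Ideal A := (maximalIdeal V).comap A.val.toRingHom
  have : IsDomain (Localization.AtPrime P) :=
    IsLocalization.isDomain_localization (Ideal.primeCompl_le_nonZeroDivisors P)
  have : IsNoetherianRing (Localization.AtPrime P) :=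
    IsLocalization.isNoetherianRing P.primeCompl _ inferInstance
  obtain ⟨D, _, _, _, θ, hθ, hθloc⟩ := exists_dvr_of_local (Localization.AtPrime P)
  let d : A →+* D := θ.comp (algebraMap A _)
  have hdinj : Function.Injective d := hθ.comp
    (IsLocalization.injective (Localization.AtPrime P) (Ideal.primeCompl_le_nonZeroDivisors P))
  obtain ⟨W, _, _, ψ, hψ, hψloc, j, χ, hχ⟩ :=
    hdvr (CommRingCat.of D) (CommRingCat.ofHom (d.comp (algebraMap R A)))
  let e : A →+* W := ψ.hom.comp d
  have he0 : Function.Injective e := hψ.comp hdinj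
  have hem : ∀ v : A, v ∈ P → e v ∈ maximalIdeal W := fun v hv hu => by
    have h1 := hθloc.map_nonunit _ (hψloc.map_nonunit _ hu)
    exact (IsLocalization.AtPrime.to_map_mem_maximal_iff (Localization.AtPrime P) P v).mpr hv h1
  let ev : MvPolynomial (Fin (n j)) A →+* W := eval₂Hom e fun k => χ.hom (π j (X k))
  have hev : ∀ g, ev (MvPolynomial.map (algebraMap R A) g) = χ.hom (π j g) := by
    intro g
    refine RingHom.congr_fun (f := ev.comp (MvPolynomial.map (algebraMap R A)))
      (g := χ.hom.comp (π j)) ?_ g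
    apply MvPolynomial.ringHom_ext
    · intro r
      simp only [RingHom.comp_apply, map_C, ev, eval₂Hom_C]
      rw [show π j (C r) = (φ j).hom r from RingHom.congr_fun (hπC j) r]
      exact (congrArg (fun q : R ⟶ W => q.hom r) hχ).symm
    · intro k
      simp [ev]
  have hlift : ∀ (q : MvPolynomial (Fin (n j)) V), ((q.support.image q.coeff : Finset V) ⊆ coef) →
      ∃ q' : MvPolynomial (Fin (n j)) A, MvPolynomial.map A.val.toRingHom q' = q := fun q hq => by
    refine MvPolynomial.mem_range_map_iff_coeffs_subset.mpr fun v hv => ?_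
    obtain ⟨m, hm, rfl⟩ := MvPolynomial.mem_coeffs_iff.mp hv
    exact ⟨⟨_, Algebra.subset_adjoin (hq (Finset.mem_image_of_mem _ hm))⟩, rfl⟩
  have hsub : ({c j} ∪ ((y j).support.image (y j).coeff ∪ (z j).support.image (z j).coeff ∪
      (G j).biUnion fun g => (p j g).support.image (p j g).coeff)) ⊆ coef :=
    Finset.subset_biUnion_of_mem (u := fun i => {c i} ∪
      ((y i).support.image (y i).coeff ∪ (z i).support.image (z i).coeff ∪
        (G i).biUnion fun g => (p i g).support.image (p i g).coeff)) (Finset.mem_univ j)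
  obtain ⟨y', hy'⟩ := hlift (y j) fun v hv =>
    hsub (Finset.mem_union_right _ (Finset.mem_union_left _ (Finset.mem_union_left _ hv)))
  obtain ⟨z', hz'⟩ := hlift (z j) fun v hv =>
    hsub (Finset.mem_union_right _ (Finset.mem_union_left _ (Finset.mem_union_right _ hv)))
  have hp' : ∀ g : G j, ∃ q', MvPolynomial.map A.val.toRingHom q' = p j g := fun g =>
    hlift _ fun v hv => hsub (Finset.mem_union_right _ (Finset.mem_union_right _
      (Finset.mem_biUnion.mpr ⟨g, g.2, hv⟩)))
  choose p' hp' using hp'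
  let c' : A := ⟨c j, Algebra.subset_adjoin (hsub (Finset.mem_union_left _ (Finset.mem_singleton_self _)))⟩
  have hmapinj : Function.Injective (MvPolynomial.map (σ := Fin (n j)) A.val.toRingHom) :=
    MvPolynomial.map_injective _ Subtype.val_injective
  have h1 : C c' * y' = ∑ g : G j, p' g * MvPolynomial.map (algebraMap R A) g := by
    apply hmapinj
    rw [map_mul, map_C, hy', map_sum]
    refine (hp j).trans ((Finset.sum_coe_sort (G j) _).symm.trans (Finset.sum_congr rfl fun g _ => ?_))
    rw [map_mul, hp', MvPolynomial.map_map]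
    rfl
  have h2 : y' + z' = 1 := hmapinj (by rw [map_add, hy', hz', hyz, map_one])
  have h3 : ev y' = 0 := by
    have h4 := congrArg ev h1
    rw [map_mul, map_sum, show ev (C c') = e c' from eval₂Hom_C _ _ _] at h4
    rw [Finset.sum_eq_zero fun g _ => by
      rw [map_mul, hev, show π j g.1 = 0 from (hG j).le (Ideal.subset_span g.2), map_zero, mul_zero]] at h4
    exact (mul_eq_zero.mp h4).resolve_left
      ((map_ne_zero_iff e he0).mpr fun h => hc j (congrArg Subtype.val h))
  have h5 : ev z' ∈ maximalIdeal W := by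
    rw [show ev z' = eval₂ e (fun k => χ.hom (π j (X k))) z' from rfl, eval₂_eq]
    refine Ideal.sum_mem _ fun m _ => Ideal.mul_mem_right _ _ (hem _ ?_)
    show ((coeff m z' : A) : V) ∈ maximalIdeal V
    have : (MvPolynomial.map A.val.toRingHom z').coeff m ∈ maximalIdeal V := by
      rw [hz']; exact (MvPolynomial.mem_map_C_iff.mp (hz j)) m
    rwa [coeff_map] at this
  have h6 := congrArg ev h2
  rw [map_add, h3, zero_add, map_one] at h6
  rw [h6] at h5
  exact h5 isUnit_one

end Groth.HTopHyper
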