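import Mathlib.AlgebraicGeometry.Morphisms.Proper
import Mathlib.AlgebraicGeometry.Morphisms.Flat
import Mathlib.AlgebraicGeometry.Morphisms.Affine
import Mathlib.AlgebraicGeometry.IdealSheaf.Subscheme
import Mathlib.RingTheory.Adjoin.Basic
import Mathlib.AlgebraicGeometry.Morphisms.FinitePresentation
import Mathlib.AlgebraicGeometry.Noetherian

/-! # The closure of a point in a base change, chart by chart -/

set_option autoImplicit false
set_option backward.isDefEq.respectTransparency false

universe u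

open CategoryTheory CategoryTheory.Limits AlgebraicGeometry Opposite

namespace Groth.HTopHyper.GenFlat

/-- In a pushout of commutative rings the images of the two factors generate. -/
theorem closure_eq_top_of_isPushout {A B C D : CommRingCat.{u}} {f : A ⟶ B} {g : A ⟶ C}
    {inl : B ⟶ D} {inr : C ⟶ D} (h : IsPushout f g inl inr) :
    Subring.closure (Set.range inl.hom ∪ Set.range inr.hom) = ⊤ := by
  set S := Subring.closure (Set.range inl.hom ∪ Set.range inr.hom)
  let l : B ⟶ CommRingCat.of S :=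
    CommRingCat.ofHom (inl.hom.codRestrict S fun b => Subring.subset_closure (Or.inl ⟨b, rfl⟩))
  let r : C ⟶ CommRingCat.of S :=
    CommRingCat.ofHom (inr.hom.codRestrict S fun c => Subring.subset_closure (Or.inr ⟨c, rfl⟩))
  let ι : CommRingCat.of S ⟶ D := CommRingCat.ofHom S.subtype
  have hl : l ≫ ι = inl := rfl
  have hr : r ≫ ι = inr := rfl
  have : Mono ι := ConcreteCategory.mono_of_injective _ Subtype.val_injective
  have w : f ≫ l = g ≫ r := by
    rw [← cancel_mono ι, Category.assoc, Category.assoc, hl, hr]; exact h.w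
  have hid : h.desc l r w ≫ ι = 𝟙 D :=
    h.hom_ext (by rw [h.inl_desc_assoc, hl, Category.comp_id])
      (by rw [h.inr_desc_assoc, hr, Category.comp_id])
  refine eq_top_iff.mpr fun x _ => ?_
  have := DFunLike.congr_fun (congrArg CommRingCat.Hom.hom hid) x
  have e : ((h.desc l r w).hom x).1 = x := this
  exact e ▸ ((h.desc l r w).hom x).2

/-- The global sections of a point over an affine open, evaluated. -/
theorem appLE_fromSpecResidueField {X : Scheme.{u}} (x : X) (V : X.Opens) (hx : x ∈ V)
    (e : (⊤ : (Spec (X.residueField x)).Opens) ≤ X.fromSpecResidueField x ⁻¹ᵁ V) :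
    (X.fromSpecResidueField x).appLE V ⊤ e ≫ (Scheme.ΓSpecIso _).hom = X.evaluation V x hx := by
  change (Spec.map (X.residue x) ≫ X.fromSpecStalk x).appLE V ⊤ e ≫ _ = _
  rw [Scheme.Hom.comp_appLE, Scheme.fromSpecStalk_app hx]
  simp only [Category.assoc, Scheme.Hom.map_appLE_assoc]
  have h2 : (Spec.map (X.residue x)).appLE ⊤ ⊤ le_top = (Spec.map (X.residue x)).appTop := by
    simp [Scheme.Hom.appLE]
  rw [h2, Scheme.ΓSpecIso_naturality, Iso.inv_hom_id_assoc]
  rfl

theorem topIso_morphismRestrict {T X : Scheme.{u}} (f : T ⟶ X) (V : X.Opens) :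
    V.topIso.inv ≫ (f ∣_ V).appTop ≫ (f ⁻¹ᵁ V).topIso.hom = f.app V := by
  rw [morphismRestrict_appTop, Scheme.Opens.topIso_inv, Scheme.Opens.topIso_hom, Category.assoc,
    Scheme.Hom.naturality_assoc, ← Functor.map_comp, ← Functor.map_comp]
  convert Category.comp_id (f.app V)
  exact T.presheaf.map_id _

theorem appTop_ι_comp {T X : Scheme.{u}} (f : T ⟶ X) (U : T.Opens) :
    (U.ι ≫ f).appTop ≫ U.topIso.hom = f.appLE ⊤ U le_top := by
  rw [Scheme.Hom.comp_appTop, Scheme.Opens.ι_appTop, Scheme.Opens.topIso_hom, Category.assoc,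
    Scheme.Hom.appLE]
  erw [← Functor.map_comp]
  rfl

/-- If a ring `R` embeds into `L` with image the `C`-algebra generated by `s`, it is flat over `C`
when that algebra is. -/
theorem flat_of_injective {C R L : Type u} [CommRing C] [CommRing R] [CommRing L] [Algebra C L]
    (φ : C →+* R) (ψ : R →+* L) (hψ : Function.Injective ψ) (hc : ψ.comp φ = algebraMap C L)
    (S : Set R) (hS : Subring.closure (Set.range φ ∪ S) = ⊤)
    (hflat : Module.Flat C (Algebra.adjoin C (ψ '' S))) : φ.Flat := by
  letI := φ.toAlgebra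
  let ψ' : R →ₐ[C] L := { ψ with commutes' := fun c => DFunLike.congr_fun hc c }
  have htop : Algebra.adjoin C S = ⊤ := by
    refine eq_top_iff.mpr fun x _ => ?_
    have hx : x ∈ Subring.closure (Set.range φ ∪ S) := hS ▸ trivial
    refine (Subring.closure_le (t := (Algebra.adjoin C S).toSubring)).mpr ?_ hx
    rintro y (⟨c, rfl⟩ | hy)
    · exact Subalgebra.algebraMap_mem _ c
    · exact Algebra.subset_adjoin hy
  have hrange : ψ'.range = Algebra.adjoin C (ψ '' S) := by
    rw [← Algebra.map_top, ← htop, AlgHom.map_adjoin]; rfl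
  exact Module.Flat.of_linearEquiv
    ((AlgEquiv.ofInjective ψ' hψ).trans (Subalgebra.equivOfEq _ _ hrange)).toLinearEquiv

/-- The closure of a field valued point in a proper scheme base changed along `A → C` is flat,
proper and surjective over `C` as soon as the algebras it generates in the field are flat. -/
theorem exists_flat_image {A C L : CommRingCat.{u}} [IsNoetherianRing C] [IsDomain C]
    (hL : IsField L) (c : A ⟶ C) (χ : C ⟶ L) (hχ : Function.Injective χ.hom)
    {P : Scheme.{u}} (g : P ⟶ Spec A) [IsProper g] (ζ : Spec L ⟶ P)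
    (hζ : ζ ≫ g = Spec.map (c ≫ χ)) {I : Type u} (V : I → P.Opens) (hV : ∀ i, IsAffineOpen (V i))
    (hcov : iSup V = ⊤) (gen : ∀ i, Set Γ(P, V i))
    (hgen : ∀ i, Subring.closure (Set.range (g.appLE ⊤ (V i) le_top).hom ∪ gen i) = ⊤)
    (hflat : ∀ i (e : ⊤ ≤ ζ ⁻¹ᵁ V i), letI := χ.hom.toAlgebra
      Module.Flat C (Algebra.adjoin C
        ((ζ.appLE (V i) ⊤ e ≫ (Scheme.ΓSpecIso L).hom).hom '' gen i))) :
    ∃ (W : Scheme.{u}) (w : W ⟶ Spec C) (l : W ⟶ P), IsProper w ∧ Flat w ∧ Surjective w ∧
      LocallyOfFinitePresentation w ∧ l ≫ g = w ≫ Spec.map c := by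
  letI := hL.toField
  haveI : Subsingleton ↥(Spec L) := inferInstanceAs (Subsingleton (PrimeSpectrum L))
  let q := Spec.map c
  let pt : Spec L ⟶ pullback g q :=
    pullback.lift ζ (Spec.map χ) (by rw [hζ, Spec.map_comp])
  haveI : QuasiCompact pt := by
    haveI : QuasiCompact (pt ≫ pullback.snd g q) := by rw [pullback.lift_snd]; infer_instance
    exact QuasiCompact.of_comp pt (pullback.snd g q)
  let w : pt.image ⟶ Spec C := pt.imageι ≫ pullback.snd g q
  haveI : IsProper w := inferInstanceAs (IsProper (pt.imageι ≫ pullback.snd g q))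
  refine ⟨pt.image, w, pt.imageι ≫ pullback.fst g q, inferInstance, ?_, ?_,
    LocallyOfFinitePresentation.iff_locallyOfFiniteType.mpr inferInstance, ?_⟩
  rotate_left
  · -- surjective: closed and containing the generic point
    refine ⟨fun y => ?_⟩
    have hclosed : IsClosed (Set.range w) := w.isClosedMap.isClosed_range
    have hgp : (⟨⊥, Ideal.bot_prime⟩ : PrimeSpectrum C) ∈ Set.range w := by
      refine ⟨pt.toImage (IsLocalRing.closedPoint L), ?_⟩
      rw [← Scheme.Hom.comp_apply]
      have : pt.toImage ≫ w = Spec.map χ := by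
        rw [show pt.toImage ≫ w = (pt.toImage ≫ pt.imageι) ≫ pullback.snd g q from
          (Category.assoc _ _ _).symm, pt.toImage_imageι, pullback.lift_snd]
      rw [this]
      refine PrimeSpectrum.ext ?_
      change (IsLocalRing.maximalIdeal L).comap χ.hom = ⊥
      rw [IsLocalRing.maximalIdeal_eq_bot, ← RingHom.ker_eq_comap_bot,
        (RingHom.injective_iff_ker_eq_bot _).mp hχ]
    have hspec : (⟨⊥, Ideal.bot_prime⟩ : PrimeSpectrum C) ⤳ (y : PrimeSpectrum C) :=
      (PrimeSpectrum.le_iff_specializes _ _).mp bot_le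
    exact hspec.mem_closed hclosed hgp
  · rw [Category.assoc, pullback.condition]; exact (Category.assoc _ _ _).symm
  -- flatness, chart by chart
  haveI : IsAffineHom q := isAffineHom_of_isAffine _
  haveI : IsAffineHom (pullback.fst g q) := MorphismProperty.pullback_fst _ _ ‹_›
  have hT : ∀ i, IsAffineOpen (pullback.fst g q ⁻¹ᵁ V i) := fun i => (hV i).preimage _
  let U : I → pt.image.affineOpens := fun i =>
    ⟨pt.imageι ⁻¹ᵁ (pullback.fst g q ⁻¹ᵁ V i), (hT i).preimage _⟩
  have hU : ⨆ i, (U i : pt.image.Opens) = ⊤ := by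
    simp only [U, ← Scheme.Hom.preimage_iSup, hcov, Scheme.Hom.preimage_top]
  rw [HasRingHomProperty.iff_of_iSup_eq_top (P := @Flat) U hU]
  intro i
  let Ti := pullback.fst g q ⁻¹ᵁ V i
  by_cases he : ⊤ ≤ ζ ⁻¹ᵁ V i
  swap
  · -- the point misses the chart
    have h0 : pt ⁻¹ᵁ Ti = ⊥ := by
      refine le_bot_iff.mp fun z hz => he fun z' _ => ?_
      have : ζ z ∈ V i := by
        rw [← pullback.lift_fst ζ (Spec.map χ) (by rw [hζ, Spec.map_comp] : ζ ≫ g = Spec.map χ ≫ q)]
        exact hz
      rwa [Subsingleton.elim z' z]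
    have hsub : Subsingleton Γ(pt.image, (U i : pt.image.Opens)) := by
      have hz : pt.toImage ⁻¹ᵁ (U i : pt.image.Opens) = ⊥ := by
        rw [show pt.toImage ⁻¹ᵁ (U i : pt.image.Opens) = (pt.toImage ≫ pt.imageι) ⁻¹ᵁ Ti from rfl,
          pt.toImage_imageι, h0]
      haveI : Subsingleton Γ(Spec L, pt.toImage ⁻¹ᵁ (U i : pt.image.Opens)) := by
        rw [hz]; infer_instance
      exact (pt.toImage_app_injective ⟨Ti, hT i⟩).subsingleton
    letI := (w.appLE ⊤ (U i : pt.image.Opens) le_top).hom.toAlgebra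
    change Module.Flat Γ(Spec C, ⊤) Γ(pt.image, (U i : pt.image.Opens))
    infer_instance
  have hmem : pt.toImage ⁻¹ᵁ (U i : pt.image.Opens) = ⊤ := by
    refine top_le_iff.mp fun z hz => ?_
    show pullback.fst g q (pt.imageι (pt.toImage z)) ∈ V i
    rw [← Scheme.Hom.comp_apply, ← Scheme.Hom.comp_apply, ← Category.assoc, pt.toImage_imageι,
      pullback.lift_fst]
    exact he hz
  letI := χ.hom.toAlgebra
  let R := Γ(pt.image, (U i : pt.image.Opens))
  let φ : C ⟶ R := (Scheme.ΓSpecIso C).inv ≫ w.appLE ⊤ (U i : pt.image.Opens) le_top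
  let ψ : R ⟶ L := pt.toImage.appLE (U i : pt.image.Opens) ⊤ hmem.ge ≫ (Scheme.ΓSpecIso L).hom
  let res : Γ(P, V i) ⟶ R :=
    (pt.imageι ≫ pullback.fst g q).appLE (V i) (U i : pt.image.Opens) le_rfl
  have htw : pt.toImage ≫ w = Spec.map χ := by
    rw [show pt.toImage ≫ w = (pt.toImage ≫ pt.imageι) ≫ pullback.snd g q from
      (Category.assoc _ _ _).symm, pt.toImage_imageι, pullback.lift_snd]
  have hφψ : φ ≫ ψ = χ := by
    simp only [φ, ψ, Category.assoc, Scheme.Hom.appLE_comp_appLE_assoc, htw]
    simp [Scheme.Hom.appLE, Scheme.ΓSpecIso_inv_naturality]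
  have hψinj : Function.Injective ψ.hom := by
    have h1 := pt.toImage_app_injective ⟨Ti, hT i⟩
    have : IsIso ((Spec L).presheaf.map (homOfLE hmem.ge).op) := by
      have hh : (homOfLE hmem.ge) = eqToHom hmem.symm := Subsingleton.elim _ _
      rw [hh]; infer_instance
    have e : ψ = pt.toImage.app (U i : pt.image.Opens) ≫
        ((Spec L).presheaf.map (homOfLE hmem.ge).op ≫ (Scheme.ΓSpecIso L).hom) := by
      simp only [ψ, Scheme.Hom.appLE, Category.assoc]
    rw [e]
    change Function.Injective (((Spec L).presheaf.map (homOfLE hmem.ge).op ≫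
      (Scheme.ΓSpecIso L).hom).hom ∘ (pt.toImage.app (U i : pt.image.Opens)).hom)
    exact (ConcreteCategory.bijective_of_isIso _).injective.comp h1
  have hres : res ≫ ψ = ζ.appLE (V i) ⊤ he ≫ (Scheme.ΓSpecIso L).hom := by
    have : pt.toImage ≫ pt.imageι ≫ pullback.fst g q = ζ := by
      rw [← Category.assoc, pt.toImage_imageι, pullback.lift_fst]
    simp only [res, ψ, Scheme.Hom.appLE_comp_appLE_assoc, this]
  have hclosure : Subring.closure (Set.range φ.hom ∪ res.hom '' gen i) = ⊤ := by
    -- the chart of the fibre product is generated by the two factors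
    haveI : IsAffine (V i : Scheme.{u}) := hV i
    have hpush := closure_eq_top_of_isPushout (AlgebraicGeometry.isPushout_appTop_of_isPullback
      (IsPullback.paste_horiz (isPullback_morphismRestrict (pullback.fst g q) (V i)).flip
        (IsPullback.of_hasPullback g q).flip).flip)
    set S' := Subring.closure (Set.range φ.hom ∪ res.hom '' gen i) with hS'
    let t : Γ(Ti.toScheme, ⊤) ⟶ R := Ti.topIso.hom ≫ pt.imageι.app Ti
    have ht : Function.Surjective t.hom := by
      have h1 := pt.ker.subschemeι_app_surjective ⟨Ti, hT i⟩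
      exact h1.comp (ConcreteCategory.bijective_of_isIso Ti.topIso.hom).surjective
    have key : ∀ a, φ.hom (c.hom a) =
        res.hom ((g.appLE ⊤ (V i) le_top).hom ((Scheme.ΓSpecIso A).inv a)) := by
      intro a
      have e1 : c ≫ φ = (Scheme.ΓSpecIso A).inv ≫ (w ≫ q).appLE ⊤ (U i : pt.image.Opens) le_top := by
        simp only [φ, Scheme.ΓSpecIso_inv_naturality_assoc, q]
        simp only [Scheme.Hom.comp_appLE]
        rfl
      have e2 : g.appLE ⊤ (V i) le_top ≫ res =
          (w ≫ q).appLE ⊤ (U i : pt.image.Opens) le_top := by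
        simp only [res, Scheme.Hom.appLE_comp_appLE, w, Category.assoc, pullback.condition]
      rw [← CommRingCat.comp_apply, e1, ← e2]; rfl
    have hresS : ∀ x, res.hom x ∈ S' := by
      intro x
      have hx : x ∈ Subring.closure (Set.range (g.appLE ⊤ (V i) le_top).hom ∪ gen i) := by
        rw [hgen i]; trivial
      refine (Subring.closure_le (t := S'.comap res.hom)).mpr ?_ hx
      rintro y (⟨a, rfl⟩ | hy)
      · obtain ⟨a, rfl⟩ := (ConcreteCategory.bijective_of_isIso (Scheme.ΓSpecIso A).inv).surjective a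
        exact Subring.subset_closure (Or.inl ⟨c.hom a, key a⟩)
      · exact Subring.subset_closure (Or.inr ⟨y, hy, rfl⟩)
    refine eq_top_iff.mpr fun x _ => ?_
    obtain ⟨y, rfl⟩ := ht x
    have hy : y ∈ (⊤ : Subring Γ(Ti.toScheme, ⊤)) := trivial
    rw [← hpush] at hy
    refine (Subring.closure_le (t := S'.comap t.hom)).mpr ?_ hy
    rintro z (⟨a, rfl⟩ | ⟨a, rfl⟩)
    · obtain ⟨x', rfl⟩ :=
        (ConcreteCategory.bijective_of_isIso (V i).topIso.inv).surjective a
      have e3 : (V i).topIso.inv ≫ (pullback.fst g q ∣_ V i).appTop ≫ t = res := by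
        simp only [t, res, ← Category.assoc]
        rw [Category.assoc (V i).topIso.inv, topIso_morphismRestrict]
        rw [Scheme.Hom.app_eq_appLE, Scheme.Hom.app_eq_appLE, Scheme.Hom.appLE_comp_appLE]
      have h := hresS x'
      rw [← e3] at h
      exact h
    · obtain ⟨x', rfl⟩ := (ConcreteCategory.bijective_of_isIso (Scheme.ΓSpecIso C).inv).surjective a
      have e4 : (Scheme.ΓSpecIso C).inv ≫ (Ti.ι ≫ pullback.snd g q).appTop ≫ t = φ := by
        simp only [t, φ, w]
        rw [← Category.assoc (Ti.ι ≫ pullback.snd g q).appTop, appTop_ι_comp,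
          Scheme.Hom.app_eq_appLE, Scheme.Hom.appLE_comp_appLE]
      exact Subring.subset_closure (Or.inl ⟨x', DFunLike.congr_fun
        (congrArg CommRingCat.Hom.hom e4.symm) x'⟩)
  have hf : φ.hom.Flat := by
    refine flat_of_injective φ.hom ψ.hom hψinj ?_ (res.hom '' gen i) hclosure ?_
    · rw [← CommRingCat.hom_comp, hφψ]; rfl
    · rw [← Set.image_comp, ← RingHom.coe_comp, ← CommRingCat.hom_comp, hres]
      exact hflat i he
  have : (w.appLE ⊤ (U i : pt.image.Opens) le_top) = (Scheme.ΓSpecIso C).hom ≫ φ := by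
    rw [Iso.hom_inv_id_assoc]
  rw [this, CommRingCat.hom_comp]
  exact RingHom.Flat.comp (RingHom.Flat.of_bijective
    (ConcreteCategory.bijective_of_isIso (Scheme.ΓSpecIso C).hom)) hf

end Groth.HTopHyper.GenFlat
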