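import Groth.Agent.HTopHyper.GenFinFlat
import Groth.Agent.HTopHyper.FlatImage
import Groth.Agent.BlowUpBasics.Charts
import Mathlib.AlgebraicGeometry.AlgClosed.Basic
import Mathlib.RingTheory.Algebraic.Basic
import Mathlib.RingTheory.Adjoin.FG

/-! # Proper surjections become flat proper surjections after an affine blow-up -/

set_option autoImplicit false
set_option backward.isDefEq.respectTransparency false

universe u

open CategoryTheory CategoryTheory.Limits AlgebraicGeometry Opposite Groth.BlowUpBasics

namespace Groth.HTopHyper.GenFlat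

theorem exists_fractionRing_lift {A K L : Type u} [CommRing A] [IsDomain A] [Field K] [Algebra A K]
    [IsFractionRing A K] [CommRing L] (hL : IsField L) (α : A →+* L) (hα : Function.Injective α) :
    ∃ κ : K →+* L, κ.comp (algebraMap A K) = α := by
  letI := hL.toField
  exact ⟨IsFractionRing.lift hα, RingHom.ext fun a => IsFractionRing.lift_algebraMap hα a⟩

theorem injective_of_isField {L R : Type u} [CommRing L] [CommRing R] [Nontrivial R]
    (hL : IsField L) (φ : L →+* R) : Function.Injective φ := by
  letI := hL.toField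
  exact φ.injective

/-- An affine blow-up chart of a domain embeds into the fraction field. -/
theorem exists_chart_embedding {A K : Type u} [CommRing A] [IsDomain A] [Field K] [Algebra A K]
    [IsFractionRing A K] (J : Ideal A) (a : A) (ha : a ≠ 0) :
    ∃ ι : BlowUp.affineAlgebra A J a →+* K, Function.Injective ι ∧
      ι.comp (algebraMap A (BlowUp.affineAlgebra A J a)) = algebraMap A K := by
  have hu : IsUnit (algebraMap A K a) :=
    Ne.isUnit ((map_ne_zero_iff _ (IsFractionRing.injective A K)).mpr ha)
  let j : Localization.Away a →+* K := IsLocalization.Away.lift a hu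
  have hj : Function.Injective j := (IsLocalization.lift_injective_iff _).mpr fun x y => by
    rw [(IsFractionRing.injective A K).eq_iff,
      (IsLocalization.injective (Localization.Away a)
        (powers_le_nonZeroDivisors_of_noZeroDivisors ha)).eq_iff]
  refine ⟨j.comp (BlowUp.affineAlgebra A J a).val.toRingHom, fun x y h => Subtype.ext (hj h), ?_⟩
  exact RingHom.ext fun r => IsLocalization.Away.lift_eq a hu r

/-- Affine blow-up charts of Noetherian rings are Noetherian. -/
theorem isNoetherianRing_chart {A : Type u} [CommRing A] [IsNoetherianRing A] (J : Ideal A) (a : A) :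
    IsNoetherianRing (BlowUp.affineAlgebra A J a) := by
  classical
  obtain ⟨t, ht⟩ := IsNoetherian.noetherian J
  refine isNoetherianRing_of_fg ⟨t.image (fun x => if h : x ∈ J then
    (frac J a x h : Localization.Away a) else 0), ?_⟩
  refine le_antisymm ?_ ?_
  · rw [Algebra.adjoin_le_iff, Finset.coe_image]
    rintro _ ⟨x, hx, rfl⟩
    have hxJ : x ∈ J := ht ▸ Submodule.subset_span hx
    simp only [dif_pos hxJ]
    exact (frac J a x hxJ).2
  · refine Algebra.adjoin_le ?_
    rintro _ ⟨x, hx, rfl⟩
    rw [SetLike.mem_coe, Finset.coe_image]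
    rw [← ht] at hx
    refine Submodule.span_induction (fun y hy => ?_) ?_ (fun y z _ _ hy hz => ?_)
      (fun r y _ hy => ?_) hx
    · have hyJ : y ∈ J := ht ▸ Submodule.subset_span hy
      refine Algebra.subset_adjoin ⟨y, hy, ?_⟩
      simp only [dif_pos hyJ]
      rfl
    · rw [IsLocalization.mk'_zero]; exact Subalgebra.zero_mem _
    · convert Subalgebra.add_mem _ hy hz using 1
      refine IsLocalization.mk'_eq_iff_eq_mul.mpr ?_
      rw [map_add, add_mul, IsLocalization.mk'_spec, IsLocalization.mk'_spec]
    · rw [smul_eq_mul, ← IsLocalization.mul_mk'_eq_mk'_of_mul]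
      exact Subalgebra.mul_mem _ (Subalgebra.algebraMap_mem _ r) hy

/-- A proper surjection onto the spectrum of a domain has a point with finite residue field over
the fraction field, lying over the generic point. -/
theorem exists_finite_point {A : Type u} [CommRing A] [IsDomain A] {P : Scheme.{u}}
    (g : P ⟶ Spec (CommRingCat.of A)) [IsProper g] [Surjective g] :
    ∃ (p : P) (α : CommRingCat.of A ⟶ P.residueField p)
      (κ : FractionRing A →+* P.residueField p),
      P.fromSpecResidueField p ≫ g = Spec.map α ∧ Function.Injective α.hom ∧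
        κ.comp (algebraMap A (FractionRing A)) = α.hom ∧ κ.Finite := by
  let K := FractionRing A
  let jK : Spec (CommRingCat.of K) ⟶ Spec (CommRingCat.of A) :=
    Spec.map (CommRingCat.ofHom (algebraMap A K))
  let PK := pullback g jK
  let fK : PK ⟶ Spec (CommRingCat.of K) := pullback.snd g jK
  haveI : IsProper fK := MorphismProperty.pullback_snd g jK ‹_›
  haveI : Surjective fK := MorphismProperty.pullback_snd g jK ‹_›
  haveI : CompactSpace PK := (quasiCompact_iff_compactSpace fK).mp inferInstance
  haveI : Nonempty PK :=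
    ⟨(fK.surjective (⟨⊥, Ideal.bot_prime⟩ : PrimeSpectrum K)).choose⟩
  obtain ⟨z, -, hz⟩ := IsClosed.exists_closed_singleton (X := PK) isClosed_univ Set.univ_nonempty
  haveI hfin : IsFinite (PK.fromSpecResidueField z ≫ fK) := by
    rw [isClosed_singleton_iff_isClosedImmersion] at hz
    rw [isFinite_iff_locallyOfFiniteType_of_jacobsonSpace]
    infer_instance
  let δ : CommRingCat.of K ⟶ PK.residueField z := Spec.preimage (PK.fromSpecResidueField z ≫ fK)
  have hδ : δ.hom.Finite := by
    rw [← IsFinite.SpecMap_iff, Spec.map_preimage]; exact hfin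
  let p : P := pullback.fst g jK z
  let ε : P.residueField p ⟶ PK.residueField z := (pullback.fst g jK).residueFieldMap z
  let α : CommRingCat.of A ⟶ P.residueField p := Spec.preimage (P.fromSpecResidueField p ≫ g)
  have hαε : α ≫ ε = CommRingCat.ofHom (algebraMap A K) ≫ δ := by
    apply Spec.map_injective
    rw [Spec.map_comp, Spec.map_comp, Spec.map_preimage, Spec.map_preimage,
      Scheme.Hom.SpecMap_residueFieldMap_fromSpecResidueField_assoc, pullback.condition,
      Category.assoc]
  have hαinj : Function.Injective α.hom := by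
    have h : Function.Injective (α ≫ ε).hom := by
      rw [hαε]
      exact δ.hom.injective.comp (IsFractionRing.injective A K)
    exact fun a b hab => h (by simp [hab])
  obtain ⟨κ, hκ⟩ := exists_fractionRing_lift (K := K) (Field.toIsField (P.residueField p)) α.hom hαinj
  refine ⟨p, α, κ, (Spec.map_preimage _).symm, hαinj, hκ, ?_⟩
  have hεκ : ε.hom.comp κ = δ.hom := by
    apply IsLocalization.ringHom_ext (nonZeroDivisors A)
    rw [RingHom.comp_assoc, hκ, ← CommRingCat.hom_comp, hαε]
    rfl
  letI := κ.toAlgebra
  letI := δ.hom.toAlgebra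
  haveI : Module.Finite K (PK.residueField z) := hδ
  let εA : P.residueField p →ₐ[K] PK.residueField z :=
    { ε.hom with commutes' := fun k => DFunLike.congr_fun hεκ k }
  exact FiniteDimensional.of_injective εA.toLinearMap
    (injective_of_isField (Field.toIsField (P.residueField p)) ε.hom)

theorem exists_flat_image' {A C : Type u} [CommRing A] [CommRing C] [IsNoetherianRing C] [IsDomain C]
    {L : CommRingCat.{u}} (hL : IsField L) (c : A →+* C) [Algebra C L]
    (hinj : Function.Injective (algebraMap C L)) {P : Scheme.{u}}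
    (g : P ⟶ Spec (CommRingCat.of A)) [IsProper g] (ζ : Spec L ⟶ P) (α : CommRingCat.of A ⟶ L)
    (hζ : ζ ≫ g = Spec.map α) (hα : (algebraMap C L).comp c = α.hom) {I : Type u} (V : I → P.Opens)
    (hV : ∀ i, IsAffineOpen (V i)) (hcov : iSup V = ⊤) (gen : ∀ i, Set Γ(P, V i))
    (hgen : ∀ i, Subring.closure (Set.range (g.appLE ⊤ (V i) le_top).hom ∪ gen i) = ⊤)
    (hflat : ∀ i (e : ⊤ ≤ ζ ⁻¹ᵁ V i), Module.Flat C (Algebra.adjoin C
      ((ζ.appLE (V i) ⊤ e ≫ (Scheme.ΓSpecIso L).hom).hom '' gen i))) :
    ∃ (W : Scheme.{u}) (w : W ⟶ Spec (CommRingCat.of C)) (l : W ⟶ P), IsProper w ∧ Flat w ∧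
      Surjective w ∧ LocallyOfFinitePresentation w ∧
        l ≫ g = w ≫ Spec.map (CommRingCat.ofHom c) := by
  refine exists_flat_image hL (CommRingCat.ofHom c) (CommRingCat.ofHom (algebraMap C L)) hinj g ζ
    ?_ V hV hcov gen hgen ?_
  · rw [hζ]
    congr 1
    exact CommRingCat.hom_ext hα.symm
  · intro i e
    have he : (CommRingCat.ofHom (algebraMap C L)).hom.toAlgebra = ‹Algebra C L› :=
      Algebra.algebra_ext _ _ fun r => rfl
    rw [he]
    exact hflat i e

/-- After the affine blow-up in a suitable nonzero ideal, a proper surjection onto the spectrum of a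
Noetherian domain is refined by a flat proper surjection of finite presentation. -/
theorem exists_flat_refinement {A : Type u} [CommRing A] [IsDomain A] [IsNoetherianRing A]
    {P : Scheme.{u}} (g : P ⟶ Spec (CommRingCat.of A)) [IsProper g] [Surjective g] :
    ∃ J : Ideal A, J ≠ ⊥ ∧ ∀ a : J, ∃ (W : Scheme.{u})
      (w : W ⟶ Spec (CommRingCat.of (BlowUp.affineAlgebra A J (a : A)))) (l : W ⟶ P),
      IsProper w ∧ Flat w ∧ Surjective w ∧ LocallyOfFinitePresentation w ∧
        l ≫ g = w ≫ chartBase J (a : A) := by
  classical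
  obtain ⟨p, α, κ, hζ, hαinj, hκ, hκfin⟩ := exists_finite_point g
  let K := FractionRing A
  let L := P.residueField p
  have hL : IsField L := Field.toIsField _
  letI : Field L := hL.toField
  letI : Algebra K L := κ.toAlgebra
  haveI : FiniteDimensional K L := hκfin
  -- a finite affine cover with finitely many generators on each chart
  haveI : CompactSpace P := (quasiCompact_iff_compactSpace g).mp inferInstance
  obtain ⟨T, hT⟩ := isCompact_univ.elim_finite_subcover
    (fun U : P.affineOpens => ((U : P.Opens) : Set P)) (fun U => U.1.2) (fun x _ => by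
      obtain ⟨U, hU, hxU, -⟩ := exists_isAffineOpen_mem_and_subset (x := x) (U := (⊤ : P.Opens)) trivial
      exact Set.mem_iUnion.mpr ⟨⟨U, hU⟩, hxU⟩)
  have hgens : ∀ U : P.affineOpens, ∃ s : Finset Γ(P, (U : P.Opens)),
      Subring.closure (Set.range (g.appLE ⊤ (U : P.Opens) le_top).hom ∪ (s : Set _)) = ⊤ := by
    intro U
    have hft := g.finiteType_appLE (isAffineOpen_top _) U.2 (e := le_top)
    letI := (g.appLE ⊤ (U : P.Opens) le_top).hom.toAlgebra
    obtain ⟨s, hs⟩ := hft.out
    refine ⟨s, ?_⟩
    have := congrArg Subalgebra.toSubring hs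
    rwa [Algebra.adjoin_eq_ring_closure, Algebra.top_toSubring] at this
  choose gens hgens using hgens
  let I := {U : P.affineOpens // U ∈ T ∧ p ∈ (U : P.Opens)}
  haveI : Finite I := Finite.of_injective (fun U : I => (⟨U.1, U.2.1⟩ : T)) fun a b h =>
    Subtype.ext (congrArg (fun t : T => t.1) h)
  let s : I → Finset L := fun U => (gens U.1).image (P.evaluation _ p U.2.2).hom
  have hs : ∀ U : I, Algebra.adjoin K (s U : Set L) = ⊤ := by
    intro U
    set S := Algebra.adjoin K (s U : Set L)
    have htop : (⊤ : (Spec L).Opens) ≤ P.fromSpecResidueField p ⁻¹ᵁ (U.1 : P.Opens) := fun z _ => by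
      show P.fromSpecResidueField p z ∈ (U.1 : P.Opens)
      rw [Scheme.fromSpecResidueField_apply]; exact U.2.2
    have hφ : ∀ x, (P.evaluation _ p U.2.2).hom x ∈ S := by
      intro x
      have hx : x ∈ (⊤ : Subring Γ(P, (U.1 : P.Opens))) := trivial
      rw [← hgens U.1] at hx
      refine (Subring.closure_le (t := S.toSubring.comap (P.evaluation _ p U.2.2).hom)).mpr ?_ hx
      rintro y (⟨a, rfl⟩ | hy)
      · have e : g.appLE ⊤ (U.1 : P.Opens) le_top ≫ P.evaluation _ p U.2.2 =
            (Scheme.ΓSpecIso (CommRingCat.of A)).hom ≫ α := by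
          rw [← appLE_fromSpecResidueField p _ U.2.2 htop,
            Scheme.Hom.appLE_comp_appLE_assoc]
          simp only [hζ]
          simp [Scheme.Hom.appLE]
        show (P.evaluation _ p U.2.2).hom _ ∈ S
        rw [← CommRingCat.comp_apply, e, CommRingCat.comp_apply]
        show α.hom _ ∈ S
        rw [← hκ]
        exact S.algebraMap_mem _
      · exact Algebra.subset_adjoin (Finset.mem_image_of_mem _ hy)
    refine eq_top_iff.mpr fun x _ => ?_
    obtain ⟨t, rfl⟩ := P.residue_surjective p x
    letI := TopCat.Presheaf.algebra_section_stalk P.presheaf (⟨p, U.2.2⟩ : (U.1 : P.Opens))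
    haveI := U.1.2.isLocalization_stalk ⟨p, U.2.2⟩
    obtain ⟨b, d, hbd⟩ := IsLocalization.exists_mk'_eq
      ((U.1.2).primeIdealOf ⟨p, U.2.2⟩).asIdeal.primeCompl t
    have hmul : (P.evaluation _ p U.2.2).hom (d : Γ(P, (U.1 : P.Opens))) * P.residue p t =
        (P.evaluation _ p U.2.2).hom b := by
      show P.residue p _ * P.residue p t = P.residue p _
      rw [← map_mul, ← hbd, mul_comm]
      exact congrArg (P.residue p) (IsLocalization.mk'_spec _ b d)
    have hd : (P.evaluation _ p U.2.2).hom (d : Γ(P, (U.1 : P.Opens))) ≠ 0 := by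
      refine IsUnit.ne_zero ?_
      exact IsUnit.map (P.residue p).hom
        (IsLocalization.map_units (P.presheaf.stalk p) d)
    rw [← inv_mul_cancel_left₀ hd (P.residue p t), hmul]
    haveI : Algebra.IsAlgebraic K L := Algebra.IsAlgebraic.of_finite K L
    exact S.mul_mem (S.inv_mem_of_algebraic
      (x := ⟨_, hφ d⟩) (Algebra.IsAlgebraic.isAlgebraic _)) (hφ b)
  obtain ⟨J, -, hJ0, hJ⟩ := exists_flattening_ideal (A := A) s hs
  refine ⟨J, hJ0, fun a => ?_⟩
  let C := BlowUp.affineAlgebra A J (a : A)
  by_cases ha : (a : A) = 0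
  · haveI : Subsingleton (Localization.Away (a : A)) := by
      rw [← not_nontrivial_iff_subsingleton]
      intro _
      have h0 := IsLocalization.Away.algebraMap_isUnit (S := Localization.Away (a : A)) (a : A)
      rw [(congrArg (algebraMap A (Localization.Away (a : A))) ha).trans (map_zero _)] at h0
      exact not_isUnit_zero h0
    haveI : Subsingleton C := inferInstanceAs (Subsingleton (Subtype _))
    haveI : IsEmpty ↥(Spec (CommRingCat.of C)) := inferInstanceAs (IsEmpty (PrimeSpectrum C))
    exact ⟨_, 𝟙 _, (isInitialOfIsEmpty (X := Spec (CommRingCat.of C))).to P, inferInstance,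
      inferInstance, inferInstance, inferInstance,
      (isInitialOfIsEmpty (X := Spec (CommRingCat.of C))).hom_ext _ _⟩
  -- the chart sits inside the fraction field
  obtain ⟨ι, hιinj, hιA⟩ := exists_chart_embedding (K := K) J (a : A) ha
  letI : Algebra C K := ι.toAlgebra
  haveI : FaithfulSMul C K := (faithfulSMul_iff_algebraMap_injective _ _).mpr hιinj
  haveI : IsScalarTower A C K := IsScalarTower.of_algebraMap_eq' hιA.symm
  haveI : IsDomain C := hιinj.isDomain _
  haveI : IsNoetherianRing C := isNoetherianRing_chart J (a : A)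
  letI : Algebra C L := (κ.comp ι).toAlgebra
  haveI : IsScalarTower C K L := IsScalarTower.of_algebraMap_eq fun r => rfl
  have hflat := hJ C ⟨algebraMap A C (a : A),
    fun h => ha (IsFractionRing.injective A K (by
      rw [IsScalarTower.algebraMap_apply A C K, h, map_zero, map_zero])),
    map_eq_span a.2⟩
  refine exists_flat_image' (A := A) (C := C) (L := L) hL (algebraMap A C)
    (κ.injective.comp hιinj) g (P.fromSpecResidueField p) α hζ ?_ (fun U : T => (U.1 : P.Opens))
    (fun U => U.1.2) ?_ (fun U => (gens U.1 : Set Γ(P, (U.1 : P.Opens)))) ?_ ?_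
  · rw [← hκ]
    exact RingHom.ext fun r => (congrArg κ (IsScalarTower.algebraMap_apply A C K r)).symm
  · refine top_le_iff.mp fun x _ => ?_
    obtain ⟨U, hU, hxU⟩ := Set.mem_iUnion₂.mp (hT (Set.mem_univ x))
    exact TopologicalSpace.Opens.mem_iSup.mpr ⟨⟨U, hU⟩, hxU⟩
  · intro U
    beta_reduce
    exact hgens U.1
  · intro U e
    have hpU : p ∈ (U.1 : P.Opens) := by
      have := e (Set.mem_univ (IsLocalRing.closedPoint L) : IsLocalRing.closedPoint L ∈ (⊤ : (Spec L).Opens))
      rwa [Scheme.Hom.mem_preimage, Scheme.fromSpecResidueField_apply] at this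
    rw [appLE_fromSpecResidueField p _ hpU e]
    have := hflat ⟨U.1, U.2, hpU⟩
    simp only [s] at this
    rw [show ((Finset.image (⇑(P.evaluation (U.1 : P.Opens) p hpU).hom) (gens U.1) : Finset L) : Set L) =
      ⇑(P.evaluation (U.1 : P.Opens) p hpU).hom '' (gens U.1 : Set _) from Finset.coe_image] at this
    exact this

end Groth.HTopHyper.GenFlat
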