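import Groth.Prelude.Def_W4stkflatp2Frob
import Groth.Prelude.Def_QuotSh
import Groth.Agent.PropsBasic.UnivHomeoTower
import Mathlib.AlgebraicGeometry.Morphisms.Proper
import Mathlib.AlgebraicGeometry.Sites.BigZariski
import Mathlib.CategoryTheory.Sites.LocallySurjective

/-! # The Frobenius colimit presheaf: equality of classes, gluing, purely inseparable descent -/

set_option autoImplicit false
set_option backward.isDefEq.respectTransparency false

universe u

open CategoryTheory CategoryTheory.Limits AlgebraicGeometry Opposite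

namespace Groth.HTopHyper.FrobColim

variable {p : ℕ}

/-! ## Equality of classes -/

theorem mk_eq_mk_add {X : Scheme.{u}} (n k : ℕ) (a : Γ(X, ⊤)) :
    HTop.FrobColimSections.mk p n a = HTop.FrobColimSections.mk p (n + k) (a ^ p ^ k) := by
  induction k with
  | zero => simp
  | succ k ih => rw [ih, HTop.FrobColimSections.sound, ← pow_mul, ← pow_succ]; rfl

theorem mk_eq_mk_iff {X : Scheme.{u}} (n m : ℕ) (a b : Γ(X, ⊤)) :
    HTop.FrobColimSections.mk p n a = HTop.FrobColimSections.mk p m b ↔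
      ∃ N, n ≤ N ∧ m ≤ N ∧ a ^ p ^ (N - n) = b ^ p ^ (N - m) := by
  constructor
  · intro h
    have hg : Relation.EqvGen (HTop.FrobColimRel p X) (n, a) (m, b) := Quot.eqvGen_exact h
    suffices ∀ x y, Relation.EqvGen (HTop.FrobColimRel p X) x y →
        ∃ N, x.1 ≤ N ∧ y.1 ≤ N ∧ x.2 ^ p ^ (N - x.1) = y.2 ^ p ^ (N - y.1) from this _ _ hg
    intro x y hxy
    induction hxy with
    | rel x y hr =>
      obtain rfl : y = _ := hr
      exact ⟨x.1 + 1, by simp, le_rfl, by simp⟩
    | refl x => exact ⟨x.1, le_rfl, le_rfl, rfl⟩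
    | symm x y _ ih => obtain ⟨N, h1, h2, h3⟩ := ih; exact ⟨N, h2, h1, h3.symm⟩
    | trans x y z _ _ ih ih' =>
      obtain ⟨N, h1, h2, h3⟩ := ih
      obtain ⟨M, g1, g2, g3⟩ := ih'
      refine ⟨max N M, h1.trans (le_max_left _ _), g2.trans (le_max_right _ _), ?_⟩
      have e : ∀ (w : ℕ × Γ(X, ⊤)) (L : ℕ), w.1 ≤ L → L ≤ max N M →
          w.2 ^ p ^ (max N M - w.1) = (w.2 ^ p ^ (L - w.1)) ^ p ^ (max N M - L) := by
        intro w L hw hL
        rw [← pow_mul, ← pow_add]
        congr 2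
        omega
      rw [e x N h1 (le_max_left _ _), h3, ← e y N h2 (le_max_left _ _),
        e y M g1 (le_max_right _ _), g3, ← e z M g2 (le_max_right _ _)]
  · rintro ⟨N, h1, h2, h3⟩
    rw [mk_eq_mk_add n (N - n), mk_eq_mk_add m (N - m), h3, Nat.add_sub_cancel' h1,
      Nat.add_sub_cancel' h2]

theorem mk_eq_mk_same_iff {X : Scheme.{u}} (n : ℕ) (a b : Γ(X, ⊤)) :
    HTop.FrobColimSections.mk p n a = HTop.FrobColimSections.mk p n b ↔
      ∃ k, a ^ p ^ k = b ^ p ^ k := by
  rw [mk_eq_mk_iff]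
  constructor
  · rintro ⟨N, -, -, h⟩; exact ⟨_, h⟩
  · rintro ⟨k, h⟩; exact ⟨n + k, by simp, by simp, by simpa using h⟩

theorem pow_pow_eq_of_le {R : Type*} [Monoid R] {a b : R} {k l : ℕ} (hkl : k ≤ l)
    (h : a ^ p ^ k = b ^ p ^ k) : a ^ p ^ l = b ^ p ^ l := by
  rw [← Nat.add_sub_cancel' hkl, pow_add, pow_mul, pow_mul, h]

theorem exists_common_degree {X : Scheme.{u}} {ι : Type*} [Finite ι] {Y : ι → Scheme.{u}}
    (a : ∀ i, HTop.FrobColimSections p (Y i)) :
    ∃ (n : ℕ) (b : ∀ i, Γ(Y i, ⊤)), ∀ i, a i = HTop.FrobColimSections.mk p n (b i) := by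
  have h : ∀ i, ∃ (n : ℕ) (b : Γ(Y i, ⊤)), a i = HTop.FrobColimSections.mk p n b := fun i =>
    Quot.inductionOn (a i) fun x => ⟨x.1, x.2, rfl⟩
  choose n b hb using h
  obtain ⟨N, hN⟩ := Finite.exists_le n
  exact ⟨N, fun i => b i ^ p ^ (N - n i), fun i => by
    rw [hb i, mk_eq_mk_add (n i) (N - n i), Nat.add_sub_cancel' (hN i)]⟩

theorem exists_rep {X : Scheme.{u}} (a : HTop.FrobColimSections p X) :
    ∃ (n : ℕ) (b : Γ(X, ⊤)), a = HTop.FrobColimSections.mk p n b :=
  Quot.inductionOn a fun x => ⟨x.1, x.2, rfl⟩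

/-! ## Rings in which `p = 0` -/

theorem sub_pow_p [Fact p.Prime] {R : Type*} [CommRing R] (hR : (p : R) = 0) (a b : R) (k : ℕ) :
    (a - b) ^ p ^ k = a ^ p ^ k - b ^ p ^ k := by
  cases subsingleton_or_nontrivial R with
  | inl h => exact Subsingleton.elim _ _
  | inr h =>
    haveI : CharP R p := (CharP.charP_iff_prime_eq_zero (Fact.out : p.Prime)).mpr hR
    exact sub_pow_char_pow ..

theorem add_pow_p [Fact p.Prime] {R : Type*} [CommRing R] (hR : (p : R) = 0) (a b : R) (k : ℕ) :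
    (a + b) ^ p ^ k = a ^ p ^ k + b ^ p ^ k := by
  cases subsingleton_or_nontrivial R with
  | inl h => exact Subsingleton.elim _ _
  | inr h =>
    haveI : CharP R p := (CharP.charP_iff_prime_eq_zero (Fact.out : p.Prime)).mpr hR
    exact add_pow_char_pow ..

/-- A purely inseparable integral extension of rings of characteristic `p`. -/
theorem exists_pow_mem_range [Fact p.Prime] {A B : Type u} [CommRing A] [CommRing B] [Algebra A B]
    (hp : (p : B) = 0) (hint : (algebraMap A B).IsIntegral)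
    (hui : Groth.PropsBasic.UH.UI (algebraMap A B)) (b : B) :
    ∃ N a, algebraMap A B a = b ^ p ^ N := by
  have hp' : p.Prime := Fact.out
  let M : Subalgebra A B :=
    { carrier := {b | ∃ N a, algebraMap A B a = b ^ p ^ N}
      algebraMap_mem' := fun a => ⟨0, a, by simp⟩
      add_mem' := by
        rintro x y ⟨N, a, ha⟩ ⟨N', a', ha'⟩
        refine ⟨N + N', a ^ p ^ N' + a' ^ p ^ N, ?_⟩
        rw [map_add, map_pow, map_pow, ha, ha', add_pow_p hp, ← pow_mul, ← pow_mul, ← pow_add,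
          ← pow_add, add_comm N' N]
      mul_mem' := by
        rintro x y ⟨N, a, ha⟩ ⟨N', a', ha'⟩
        refine ⟨N + N', a ^ p ^ N' * a' ^ p ^ N, ?_⟩
        rw [map_mul, map_pow, map_pow, ha, ha', mul_pow, ← pow_mul, ← pow_mul, ← pow_add,
          ← pow_add, add_comm N' N] }
  obtain ⟨l, hl, hb⟩ := Groth.PropsBasic.UH.reach_SQP_eq_top hint hui b
  refine (Groth.PropsBasic.UH.Valid.le_of_forall hl (S := M) ?_ hb)
  intro C hC x hx
  rcases hx with ⟨h2, h3⟩ | ⟨q, hq, hqx, hxq⟩
  · obtain ⟨N, a, ha⟩ := hC h2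
    obtain ⟨N', a', ha'⟩ := hC h3
    obtain ⟨i, j, hij⟩ : ∃ i j, p = 2 * i + 3 * j := by
      rcases Nat.even_or_odd p with ⟨r, hr⟩ | ⟨r, hr⟩
      · exact ⟨r, 0, by omega⟩
      · have := hp'.two_le
        exact ⟨r - 1, 1, by omega⟩
    refine ⟨N + N' + 1, (a ^ p ^ N') ^ i * (a' ^ p ^ N) ^ j, ?_⟩
    simp only [map_mul, map_pow, ha, ha', ← pow_mul, ← pow_add]
    congr 1
    rw [pow_succ, pow_add]
    generalize p ^ N = P
    generalize p ^ N' = Q
    rw [hij]
    ring
  · by_cases hqp : q = p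
    · subst hqp
      obtain ⟨N, a, ha⟩ := hC hxq
      exact ⟨N + 1, a, by rw [ha, ← pow_mul, ← pow_succ']⟩
    · have hco : IsCoprime (q : ℤ) (p : ℤ) := by
        rw [Int.isCoprime_iff_gcd_eq_one, Int.gcd_natCast_natCast]
        exact (Nat.coprime_primes hq hp').mpr hqp
      obtain ⟨c, d, hcd⟩ := hco
      have hx : x = (c : B) * ((q : B) * x) := by
        have : ((c * q + d * p : ℤ) : B) = 1 := by rw [hcd]; simp
        push_cast at this
        rw [hp, mul_zero, add_zero] at this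
        rw [← mul_assoc, this, one_mul]
      rw [hx]
      exact M.mul_mem (intCast_mem _ c) (hC hqx)

/-! ## Descent along a universally closed surjection onto an affine scheme -/

theorem eqOn_adjoin {A B C : Type u} [CommRing A] [CommRing B] [CommRing C] [Algebra A B]
    (g₁ g₂ : B →+* C) (s : B) (hA : g₁.comp (algebraMap A B) = g₂.comp (algebraMap A B))
    (hs : g₁ s = g₂ s) (y : B) (hy : y ∈ Algebra.adjoin A {s}) : g₁ y = g₂ y := by
  induction hy using Algebra.adjoin_induction with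
  | mem z hz => obtain rfl : z = s := hz; exact hs
  | algebraMap r => exact DFunLike.congr_fun hA r
  | add z w _ _ h h' => rw [map_add, map_add, h, h']
  | mul z w _ _ h h' => rw [map_mul, map_mul, h, h']

/-- The ring map attached to a morphism to an affine spectrum. -/
noncomputable def rho {T : Scheme.{u}} {R : CommRingCat.{u}} (g : T ⟶ Spec R) : R ⟶ Γ(T, ⊤) :=
  (Scheme.ΓSpecIso R).inv ≫ g.appTop

theorem rho_comp {T T' : Scheme.{u}} {R : CommRingCat.{u}} (x : T' ⟶ T) (g : T ⟶ Spec R) :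
    rho (x ≫ g) = rho g ≫ x.appTop := by
  simp [rho, Scheme.Hom.comp_appTop]

theorem rho_specMap {T : Scheme.{u}} {R R' : CommRingCat.{u}} (φ : R ⟶ R') (g : T ⟶ Spec R') :
    rho (g ≫ Spec.map φ) = φ ≫ rho g := by
  simp only [rho, Scheme.Hom.comp_appTop, Scheme.ΓSpecIso_inv_naturality_assoc]

theorem rho_toSpecΓ (V : Scheme.{u}) : rho V.toSpecΓ = 𝟙 _ := by
  simp [rho]

/-- A global section killed by pullback along a surjection is nilpotent. -/
theorem isNilpotent_of_appTop_eq_zero {U V : Scheme.{u}} [CompactSpace U] (f : V ⟶ U) [Surjective f]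
    (c : Γ(U, ⊤)) (hc : f.appTop c = 0) : IsNilpotent c := by
  rw [Scheme.isNilpotent_iff_basicOpen_eq_bot]
  refine le_bot_iff.mp fun x hx => ?_
  obtain ⟨y, rfl⟩ := f.surjective x
  have h : y ∈ f ⁻¹ᵁ U.basicOpen c := hx
  rw [Scheme.preimage_basicOpen_top, hc, Scheme.basicOpen_zero] at h
  exact h

/-- A universally closed map from a quasi-compact scheme to the spectrum of a ring injecting into
its global sections is surjective. -/
theorem surjective_of_injective {V : Scheme.{u}} [CompactSpace V] {R : CommRingCat.{u}}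
    (g : V ⟶ Spec R) [UniversallyClosed g] (hg : Function.Injective (rho g)) : Surjective g := by
  refine ⟨fun x => ?_⟩
  by_contra hx
  have hopen : IsOpen (Set.range g)ᶜ := (g.isClosedMap.isClosed_range).isOpen_compl
  obtain ⟨_, ⟨r, rfl⟩, hxr, hr⟩ :=
    PrimeSpectrum.isTopologicalBasis_basic_opens.exists_subset_of_mem_open
      (show x ∈ (Set.range g)ᶜ from hx) hopen
  have h0 : V.basicOpen (rho g r) = ⊥ := by
    refine le_bot_iff.mp fun y hy => ?_
    rw [show rho g r = g.appTop ((Scheme.ΓSpecIso R).inv r) from rfl,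
      ← Scheme.preimage_basicOpen_top, basicOpen_eq_of_affine] at hy
    exact hr hy ⟨y, rfl⟩
  obtain ⟨k, hk⟩ := (Scheme.isNilpotent_iff_basicOpen_eq_bot _).mpr h0
  have : r ^ k = 0 := hg (by rw [map_pow, hk, map_zero])
  exact hxr (x.isPrime.mem_of_pow_mem k (this ▸ x.asIdeal.zero_mem))

/-- Key descent lemma: a global section equalised by all pairs of maps over the base descends after
taking a power of `p`. -/
theorem exists_appTop_eq_pow [Fact p.Prime] {U V : Scheme.{u}} [IsAffine U] (f : V ⟶ U)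
    [UniversallyClosed f] [Surjective f] (hp : (p : Γ(U, ⊤)) = 0) (s : Γ(V, ⊤))
    (hs : ∀ (T : Scheme.{u}) (a b : T ⟶ V), a ≫ f = b ≫ f → a.appTop s = b.appTop s) :
    ∃ N a, f.appTop a = s ^ p ^ N := by
  haveI : CompactSpace V := (quasiCompact_iff_compactSpace f).mp inferInstance
  letI := f.appTop.hom.toAlgebra
  let B : Subalgebra Γ(U, ⊤) Γ(V, ⊤) := Algebra.adjoin Γ(U, ⊤) {s}
  let ι : Γ(U, ⊤) ⟶ CommRingCat.of B := CommRingCat.ofHom (algebraMap Γ(U, ⊤) B)
  let incl : CommRingCat.of B ⟶ Γ(V, ⊤) := CommRingCat.ofHom B.val.toRingHom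
  let π : V ⟶ Spec (CommRingCat.of B) := V.toSpecΓ ≫ Spec.map incl
  have hπf : π ≫ Spec.map ι ≫ U.isoSpec.inv = f := by
    have hcomp : Spec.map incl ≫ Spec.map ι = Spec.map f.appTop := by
      rw [← Spec.map_comp]; rfl
    rw [show π ≫ Spec.map ι ≫ U.isoSpec.inv = V.toSpecΓ ≫ Spec.map f.appTop ≫ U.isoSpec.inv by
      rw [← hcomp]; simp [π],
      ← Scheme.toSpecΓ_naturality_assoc, ← Scheme.isoSpec_hom, Iso.hom_inv_id, Category.comp_id]
  haveI : UniversallyClosed (π ≫ Spec.map ι ≫ U.isoSpec.inv) := by rw [hπf]; infer_instance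
  haveI : UniversallyClosed π := .of_comp_of_isSeparated π (Spec.map ι ≫ U.isoSpec.inv)
  have hrho : rho π = incl := by
    rw [show π = V.toSpecΓ ≫ Spec.map incl from rfl, rho_specMap, rho_toSpecΓ, Category.comp_id]
  haveI : Surjective π := surjective_of_injective π (by rw [hrho]; exact Subtype.val_injective)
  have hint : (algebraMap Γ(U, ⊤) B).IsIntegral := by
    have hf := isIntegral_appTop_of_universallyClosed f
    intro x
    obtain ⟨P, hP, hP'⟩ := hf x.1
    refine ⟨P, hP, Subtype.val_injective ?_⟩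
    rw [show (Polynomial.eval₂ (algebraMap Γ(U, ⊤) B) x P).1 =
      B.val (Polynomial.eval₂ (algebraMap Γ(U, ⊤) B) x P) from rfl, ← Polynomial.aeval_def,
      ← Polynomial.aeval_algHom_apply, Polynomial.aeval_def]
    exact hP'
  have hui : Groth.PropsBasic.UH.UI (algebraMap Γ(U, ⊤) B) := by
    intro K iK d₁ d₂ hd
    let δ₁ : CommRingCat.of B ⟶ CommRingCat.of K := CommRingCat.ofHom d₁
    let δ₂ : CommRingCat.of B ⟶ CommRingCat.of K := CommRingCat.ofHom d₂
    let q₁ := pullback.fst (Spec.map δ₁) π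
    let q₂ := pullback.fst (Spec.map δ₂) π
    let a := pullback.fst q₁ q₂ ≫ pullback.snd (Spec.map δ₁) π
    let b := pullback.snd q₁ q₂ ≫ pullback.snd (Spec.map δ₂) π
    let q := pullback.fst q₁ q₂ ≫ q₁
    have ha : a ≫ π = q ≫ Spec.map δ₁ := by
      simp only [a, q, q₁, Category.assoc]
      rw [← pullback.condition]
    have hb : b ≫ π = q ≫ Spec.map δ₂ := by
      simp only [b, q, Category.assoc]
      rw [← pullback.condition, pullback.condition_assoc]
    haveI : Surjective q := by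
      simp only [q, q₁, q₂]
      infer_instance
    haveI : Nonempty (Spec (CommRingCat.of K) : Scheme.{u}) :=
      inferInstanceAs (Nonempty (PrimeSpectrum K))
    haveI : Nonempty ↥(pullback q₁ q₂) := ⟨(q.surjective (Classical.arbitrary _)).choose⟩
    have hι : ι ≫ δ₁ = ι ≫ δ₂ := CommRingCat.hom_ext hd
    have hab : a ≫ f = b ≫ f := by
      rw [← hπf, reassoc_of% ha, reassoc_of% hb, ← Spec.map_comp_assoc, ← Spec.map_comp_assoc, hι]
    have h₁ : incl ≫ a.appTop = δ₁ ≫ rho q := by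
      rw [← hrho, ← rho_comp, ha, rho_specMap]
    have h₂ : incl ≫ b.appTop = δ₂ ≫ rho q := by
      rw [← hrho, ← rho_comp, hb, rho_specMap]
    haveI : Nonempty (⊤ : (pullback q₁ q₂).Opens) := ⟨⟨Classical.arbitrary _, trivial⟩⟩
    haveI : Nontrivial Γ(pullback q₁ q₂, ⊤) := Scheme.component_nontrivial _ _
    have hinj : Function.Injective (rho q).hom := RingHom.injective _
    refine RingHom.ext fun x => hinj ?_
    have hab' : f.appTop ≫ a.appTop = f.appTop ≫ b.appTop := by
      rw [← Scheme.Hom.comp_appTop, ← Scheme.Hom.comp_appTop, hab]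
    have hA : a.appTop.hom.comp (algebraMap Γ(U, ⊤) Γ(V, ⊤)) =
        b.appTop.hom.comp (algebraMap Γ(U, ⊤) Γ(V, ⊤)) := congrArg CommRingCat.Hom.hom hab'
    have hy0 : ∀ y : Γ(V, ⊤), y ∈ B → a.appTop.hom y = b.appTop.hom y :=
      eqOn_adjoin (A := Γ(U, ⊤)) a.appTop.hom b.appTop.hom s hA (hs (pullback q₁ q₂) a b hab)
    have e : incl ≫ a.appTop = incl ≫ b.appTop :=
      CommRingCat.hom_ext (RingHom.ext fun y => hy0 y.1 y.2)
    have e' := h₁.symm.trans (e.trans h₂)
    exact DFunLike.congr_fun (congrArg CommRingCat.Hom.hom e') x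
  have hpB : (p : B) = 0 := by
    rw [← map_natCast (algebraMap Γ(U, ⊤) B) p, hp, map_zero]
  obtain ⟨N, a, ha⟩ := exists_pow_mem_range hpB hint hui ⟨s, Algebra.subset_adjoin rfl⟩
  exact ⟨N, a, congrArg Subtype.val ha⟩

end Groth.HTopHyper.FrobColim
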