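import Groth.Agent.HTopHyper.HSheafCriterion
import Groth.Agent.HTopHyper.FlatBlowUp
import Groth.Agent.HTopHyper.AlmostBlowUp3
import Groth.Agent.HTopHyper.StdHDescent
import Groth.Agent.BlowUpBasics.SheafOf
import Groth.Agent.BlowUpBasics.AtlasOf
import Groth.Agent.SpectralTopology.NoethSystem
import Groth.Agent.S4599

/-! h sheaves are the Zariski sheaves with flat proper descent and excision for almost blow-ups. -/

set_option autoImplicit false
set_option backward.isDefEq.respectTransparency false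

universe v u

open CategoryTheory CategoryTheory.Limits AlgebraicGeometry Opposite Groth.BlowUpBasics

namespace Groth.HTopHyper.HSheafABU

variable {S : Scheme.{u}} {F : (Over S)ᵒᵖ ⥤ Type v}

variable (F) in
/-- The sheaf condition for flat proper surjections of finite presentation onto affines. -/
def FlatProperCond : Prop :=
  ∀ (X Y : Over S) (f : X ⟶ Y), IsAffine Y.left → Surjective f.left → Flat f.left →
    IsProper f.left → LocallyOfFinitePresentation f.left →
      Presieve.IsSheafFor F (Presieve.singleton f)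

variable (F) in
/-- Excision for almost blow-up squares whose centre is cut out by two functions. -/
def SquareCond : Prop :=
  ∀ (E Z X' X : Over S) (e : E ⟶ X') (π : E ⟶ Z) (b : X' ⟶ X) (i : Z ⟶ X), IsAffine X.left →
    HTop.IsAlmostBlowUpSquare e.left π.left b.left i.left →
    (∃ f₁ f₂ : Γ(X.left, ⊤),
      i.left.ker = Scheme.IdealSheafData.ofIdealTop (Ideal.span {f₁, f₂})) →
    ∀ (t : F.obj (op Z)) (s' : F.obj (op X')), F.map π.op t = F.map e.op s' →
      ∃! s : F.obj (op X), F.map i.op s = t ∧ F.map b.op s = s'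

theorem flat_singleton_mem (hF : Presieve.IsSheaf (Scheme.zariskiTopology.over S) F)
    (h : FlatProperCond F) {P U : Scheme.{u}} (g : P ⟶ U) [IsProper g] [Surjective g] [Flat g]
    [LocallyOfFinitePresentation g] :
    Sieve.generate (Presieve.singleton g) ∈ sheafTopology F U := by
  intro Y q W f
  refine isSheafFor_of_affine_pullbacks hF _ fun A a hA => ?_
  rw [← Sieve.pullback_comp]
  let c : A.left ⟶ U := (a ≫ f).left ≫ q
  let B : Over S := Over.mk (pullback.fst c g ≫ A.hom)
  let π : B ⟶ A := Over.homMk (pullback.fst c g) rfl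
  have hπ := h B A π hA (inferInstanceAs (Surjective (pullback.fst c g)))
    (inferInstanceAs (Flat (pullback.fst c g))) (inferInstanceAs (IsProper (pullback.fst c g)))
    (inferInstanceAs (LocallyOfFinitePresentation (pullback.fst c g)))
  rw [Presieve.isSheafFor_iff_generate] at hπ
  convert hπ using 2
  apply (Sieve.overEquiv A).injective
  rw [Sieve.overEquiv_pullback, OrderIso.apply_symm_apply, ← Sieve.pullback_comp]
  ext Z z
  rw [Sieve.overEquiv_iff]
  constructor
  · rintro ⟨_, b, _, ⟨⟩, hb⟩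
    refine ⟨B, Over.homMk (pullback.lift z b hb.symm) ?_, π, ⟨⟩, ?_⟩
    · simp [B]
    · ext; simp [π]
  · rintro ⟨_, e, _, ⟨⟩, he⟩
    refine ⟨P, e.left ≫ pullback.snd c g, g, ⟨⟩, ?_⟩
    have he' : e.left ≫ pullback.fst c g = z := congrArg CommaMorphism.left he
    rw [Category.assoc, ← pullback.condition, reassoc_of% he']

section Phi

variable {A B : Type u} [CommRing A] [CommRing B]

theorem phi_comp_Spec {Y : Scheme.{u}} (h : Y ⟶ Spec (CommRingCat.of B)) (φ : A →+* B) :
    phi (h ≫ Spec.map (CommRingCat.ofHom φ)) ⊤ = (phi h ⊤).comp φ := by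
  rw [phi, phi, ← CommRingCat.hom_ofHom φ, ← CommRingCat.hom_comp]
  congr 1
  simp [Scheme.Hom.appLE, Scheme.ΓSpecIso_inv_naturality_assoc]

theorem exists_factor {Y : Scheme.{u}} (h : Y ⟶ Spec (CommRingCat.of A)) {K : Ideal A}
    (hK : K ≤ RingHom.ker (phi h ⊤)) :
    ∃ l : Y ⟶ Spec (CommRingCat.of (A ⧸ K)),
      l ≫ Spec.map (CommRingCat.ofHom (Ideal.Quotient.mk K)) = h := by
  refine ⟨Y.toSpecΓ ≫ Spec.map (CommRingCat.ofHom
    (Ideal.Quotient.lift K (phi h ⊤) fun a ha => hK ha)), ?_⟩
  have e : CommRingCat.ofHom (phi h ⊤) =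
      (Scheme.ΓSpecIso (CommRingCat.of A)).inv ≫ h.appTop := by
    rw [phi, CommRingCat.ofHom_hom]
    simp [Scheme.Hom.appLE]
  rw [Category.assoc, ← Spec.map_comp, ← CommRingCat.ofHom_comp]
  erw [show (Ideal.Quotient.lift K (phi h ⊤) fun a ha => hK ha).comp (Ideal.Quotient.mk K) =
    phi h ⊤ from RingHom.ext fun a => rfl]
  rw [e, Spec.map_comp, ← Category.assoc, ← Scheme.toSpecΓ_naturality, Category.assoc,
    ← SpecMap_ΓSpecIso_hom, ← Spec.map_comp, Iso.inv_hom_id, Spec.map_id, Category.comp_id]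

theorem ker_SpecMap_mk (K : Ideal A) :
    (Spec.map (CommRingCat.ofHom (Ideal.Quotient.mk K))).ker = sheafOf K := by
  rw [Scheme.ker_of_isAffine, sheafOf]
  congr 1
  let φ := Ideal.Quotient.mk K
  have hb := (ConcreteCategory.bijective_of_isIso (Scheme.ΓSpecIso (CommRingCat.of A)).inv)
  have hb' := (ConcreteCategory.bijective_of_isIso (Scheme.ΓSpecIso (CommRingCat.of (A ⧸ K))).inv)
  rw [← Ideal.map_comap_of_surjective _ hb.2 (RingHom.ker (Spec.map (CommRingCat.ofHom φ)).appTop.hom),
    RingHom.comap_ker, ← CommRingCat.hom_comp, ← Scheme.ΓSpecIso_inv_naturality, CommRingCat.hom_comp,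
    RingHom.ker_comp_of_injective _ hb'.1]
  exact congrArg (Ideal.map _) (Ideal.mk_ker (I := K))

/-- If the pullback of `(x)` is effective Cartier then the annihilator of `x` dies. -/
theorem phi_eq_zero_of_mul {Y : Scheme.{u}} (h : Y ⟶ Spec (CommRingCat.of A)) {x y : A}
    (hxy : x * y = 0) (hC : BlowUp.IsEffCartierIdeal ((sheafOf (Ideal.span {x})).comap h)) :
    phi h ⊤ y = 0 := by
  have key : ∀ p : Y, ∃ U : Y.affineOpens, p ∈ U.1 ∧ phi h U.1 y = 0 := by
    intro p
    obtain ⟨U, hpU, -, a, ha, hnzd, -⟩ := exists_local_generator h hC p (O := ⊤) trivial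
    refine ⟨U, hpU, ?_⟩
    obtain ⟨d, rfl⟩ := Ideal.mem_span_singleton'.mp ha
    rw [mem_nonZeroDivisors_iff_right] at hnzd
    refine hnzd _ ?_
    rw [← map_mul, mul_comm y, mul_assoc, hxy, mul_zero, map_zero]
  choose U hpU hU using key
  refine Y.sheaf.eq_of_locally_eq' (fun p => (U p).1) ⊤ (fun p => homOfLE le_top)
    (fun p _ => TopologicalSpace.Opens.mem_iSup.mpr ⟨p, hpU p⟩) _ _ fun p => ?_
  rw [map_zero]
  exact (DFunLike.congr_fun (phi_restrict h (show (U p).1 ≤ ⊤ from le_top)) y).symm.trans (hU p)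

end Phi

/-- `R` contains every morphism on which `J` vanishes or becomes an effective Cartier divisor. -/
def Dichotomy {A : Type u} [CommRing A] (J : Ideal A) (R : Sieve (Spec (CommRingCat.of A))) : Prop :=
  ∀ ⦃Y : Scheme.{u}⦄ (h : Y ⟶ Spec (CommRingCat.of A)),
    (J ≤ RingHom.ker (phi h ⊤) ∨ BlowUp.IsEffCartierIdeal ((sheafOf J).comap h)) → R h

theorem Dichotomy.pullback {A B : Type u} [CommRing A] [CommRing B] {J : Ideal A}
    {R : Sieve (Spec (CommRingCat.of A))} (hR : Dichotomy J R) (φ : A →+* B) :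
    Dichotomy (J.map φ) (R.pullback (Spec.map (CommRingCat.ofHom φ))) := by
  intro Y h hh
  refine hR _ (hh.imp (fun hk x hx => ?_) fun hC => ?_)
  · rw [RingHom.mem_ker, phi_comp_Spec]
    exact hk (Ideal.mem_map_of_mem φ hx)
  · rwa [Scheme.IdealSheafData.comap_comp, comap_sheafOf_Spec]

variable (F) in
/-- Blow-ups of Noetherian affine schemes in two equations, with the centre, cover. -/
def TwoCover : Prop :=
  ∀ {A : Type u} [CommRing A] [IsNoetherianRing A] (f₁ f₂ : A) {X' : Scheme.{u}}
    (b : X' ⟶ Spec (CommRingCat.of A)),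
    BlowUp.IsBlowUp b (sheafOf (Ideal.span {f₁, f₂})) →
      Sieve.generate (Presieve.ofArrows
        (twoX (Spec (CommRingCat.of (A ⧸ Ideal.span {f₁, f₂}))) X')
        (twoF (Spec.map (CommRingCat.ofHom (Ideal.Quotient.mk (Ideal.span {f₁, f₂})))) b)) ∈
        sheafTopology F _

/-- The base change of a morphism to an object over `S`. -/
noncomputable def pbOver {Z U : Scheme.{u}} (i : Z ⟶ U) (T : Over S) (c : T.left ⟶ U) : Over S :=
  Over.mk (pullback.snd i c ≫ T.hom)

/-- Its projection. -/
noncomputable def pbHom {Z U : Scheme.{u}} (i : Z ⟶ U) (T : Over S) (c : T.left ⟶ U) :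
    pbOver i T c ⟶ T :=
  Over.homMk (pullback.snd i c) rfl

/-- A pair covers if its base changes to affine objects do. -/
theorem pair_mem (hF : Presieve.IsSheaf (Scheme.zariskiTopology.over S) F) {Z X' U : Scheme.{u}}
    (i : Z ⟶ U) (b : X' ⟶ U)
    (H : ∀ (T : Over S), IsAffine T.left → ∀ c : T.left ⟶ U, Presieve.IsSheafFor F
      (Presieve.ofArrows (twoX (pbOver i T c) (pbOver b T c)) (twoF (pbHom i T c) (pbHom b T c)))) :
    Sieve.generate (Presieve.ofArrows (twoX Z X') (twoF i b)) ∈ sheafTopology F U := by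
  intro Y q W f
  refine isSheafFor_of_affine_pullbacks hF _ fun T a hT => ?_
  rw [← Sieve.pullback_comp]
  let c : T.left ⟶ U := (a ≫ f).left ≫ q
  have hsheaf := H T hT c
  rw [Presieve.isSheafFor_iff_generate] at hsheaf
  convert hsheaf using 2
  apply (Sieve.overEquiv T).injective
  rw [Sieve.overEquiv_pullback, OrderIso.apply_symm_apply, ← Sieve.pullback_comp]
  ext Q z
  rw [Sieve.overEquiv_iff]
  constructor
  · rintro ⟨_, m, _, ⟨(_ | _)⟩, hm⟩
    · refine ⟨pbOver b T c, Over.homMk (pullback.lift m z hm) ?_, pbHom b T c, ⟨false⟩, ?_⟩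
      · simp [pbOver]
      · ext; simp [pbHom]
    · refine ⟨pbOver i T c, Over.homMk (pullback.lift m z hm) ?_, pbHom i T c, ⟨true⟩, ?_⟩
      · simp [pbOver]
      · ext; simp [pbHom]
  · rintro ⟨_, e, _, ⟨(_ | _)⟩, he⟩
    · refine ⟨X', e.left ≫ pullback.fst b c, b, ⟨false⟩, ?_⟩
      have he' : e.left ≫ pullback.snd b c = z := congrArg CommaMorphism.left he
      rw [Category.assoc, pullback.condition, reassoc_of% he']
    · refine ⟨_, e.left ≫ pullback.fst i c, i, ⟨true⟩, ?_⟩
      have he' : e.left ≫ pullback.snd i c = z := congrArg CommaMorphism.left he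
      rw [Category.assoc, pullback.condition, reassoc_of% he']

/-- An almost blow-up square whose centre has two equations covers. -/
theorem twoCover_of_squareCond (hF : Presieve.IsSheaf (Scheme.zariskiTopology.over S) F)
    (hsq : SquareCond F) : TwoCover F := by
  intro A _ _ f₁ f₂ X' b hb
  set J := Ideal.span {f₁, f₂}
  let i := Spec.map (CommRingCat.ofHom (Ideal.Quotient.mk J))
  haveI : IsClosedImmersion i := IsClosedImmersion.spec_of_surjective _ Ideal.Quotient.mk_surjective
  haveI : LocallyOfFinitePresentation i :=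
    LocallyOfFinitePresentation.iff_locallyOfFiniteType.mpr inferInstance
  have hker : i.ker = sheafOf J := ker_SpecMap_mk J
  have h0 := isAlmostBlowUpSquare_of_isBlowUp i b (hker ▸ hb)
  refine pair_mem hF i b fun T hT c => ?_
  let E₁ : Over S :=
    Over.mk (pullback.snd (pullback.fst b i) (pullback.fst b c) ≫ (pbOver b T c).hom)
  let e₁ : E₁ ⟶ pbOver b T c :=
    Over.homMk (pullback.snd (pullback.fst b i) (pullback.fst b c)) rfl
  have hw : (pullback.fst (pullback.fst b i) (pullback.fst b c) ≫ pullback.snd b i) ≫ i =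
      (pullback.snd (pullback.fst b i) (pullback.fst b c) ≫ pullback.snd b c) ≫ c := by
    rw [Category.assoc, ← pullback.condition, pullback.condition_assoc, pullback.condition,
      Category.assoc]
  let π₁ : E₁ ⟶ pbOver i T c := Over.homMk (pullback.lift _ _ hw) (by simp [E₁, pbOver])
  have hπ : pullback.lift _ _ hw ≫ pullback.snd i c =
      pullback.snd (pullback.fst b i) (pullback.fst b c) ≫ pullback.snd b c :=
    pullback.lift_snd _ _ _
  have h₁ : HTop.IsAlmostBlowUpSquare e₁.left π₁.left (pbHom b T c).left (pbHom i T c).left :=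
    isAlmostBlowUpSquare_baseChange h0 c (IsPullback.of_hasPullback b c)
      (IsPullback.of_hasPullback i c) (IsPullback.of_hasPullback _ _) hπ
  have hgen : ∃ g₁ g₂ : Γ(T.left, ⊤),
      (pbHom i T c).left.ker = Scheme.IdealSheafData.ofIdealTop (Ideal.span {g₁, g₂}) := by
    refine ⟨phi c ⊤ f₁, phi c ⊤ f₂, ?_⟩
    refine (ker_baseChange (IsPullback.of_hasPullback i c)).trans ?_
    rw [hker]
    refine Scheme.IdealSheafData.ext_of_isAffine ?_
    rw [ideal_comap_sheafOf, Ideal.map_span, Set.image_pair]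
    simp
  rw [Presieve.isSheafFor_arrows_iff]
  intro x hx
  obtain ⟨s, ⟨hs₁, hs₂⟩, hu⟩ := hsq E₁ (pbOver i T c) (pbOver b T c) T e₁ π₁ (pbHom b T c)
    (pbHom i T c) hT h₁ hgen (x true) (x false)
    (hx true false E₁ π₁ e₁ (Over.OverMorphism.ext hπ))
  exact ⟨s, Bool.rec hs₂ hs₁, fun s' hs' => hu s' ⟨hs' true, hs' false⟩⟩

theorem mem_of_atlas (hF : Presieve.IsSheaf (Scheme.zariskiTopology.over S) F)
    {A : Type u} [CommRing A] {J : Ideal A} {X' : Scheme.{u}} {b : X' ⟶ Spec (CommRingCat.of A)}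
    (T : Atlas J b) (R : Sieve X') (H : ∀ a : J, R.pullback (T.j a) ∈ sheafTopology F _) :
    R ∈ sheafTopology F X' := by
  let 𝒰 : X'.OpenCover := Scheme.Cover.mkOfCovers J _ (fun a => T.j a) T.covers
    (fun a => T.isOpenImmersion a)
  refine (sheafTopology F).transitive
    (zariski_le_sheafTopology hF _ 𝒰.mem_grothendieckTopology) _ fun Z h hh => ?_
  obtain ⟨a, m, rfl⟩ := (Sieve.mem_ofArrows_iff _ _ _).mp hh
  rw [Sieve.pullback_comp]
  exact (sheafTopology F).pullback_stable _ (H a)

theorem span_range_eq {A : Type u} [CommRing A] {n : ℕ} (s : Fin (n + 3) → A) :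
    Ideal.span (Set.range s) =
      Ideal.span {s 0, s 1} ⊔ Ideal.span (Set.range fun k : Fin (n + 1) => s k.succ.succ) := by
  rw [← Ideal.span_union]
  congr 1
  ext x
  constructor
  · rintro ⟨k, rfl⟩
    refine Fin.cases (Or.inl (Or.inl rfl)) (fun k => ?_) k
    exact Fin.cases (Or.inl (Or.inr rfl)) (fun k => Or.inr ⟨k, rfl⟩) k
  · rintro ((rfl | rfl) | ⟨k, rfl⟩) <;> exact ⟨_, rfl⟩

/-- A dichotomy sieve covers. -/
theorem dichotomy_mem (hF : Presieve.IsSheaf (Scheme.zariskiTopology.over S) F) (hsq : TwoCover F)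
    (n : ℕ) : ∀ (A : Type u) [CommRing A] [IsNoetherianRing A] (s : Fin n → A)
      (R : Sieve (Spec (CommRingCat.of A))), Dichotomy (Ideal.span (Set.range s)) R →
        R ∈ sheafTopology F _ := by
  have base : ∀ (A : Type u) [CommRing A] [IsNoetherianRing A] (f₁ f₂ : A)
      (R : Sieve (Spec (CommRingCat.of A))), Dichotomy (Ideal.span {f₁, f₂}) R →
        R ∈ sheafTopology F _ := by
    intro A _ _ f₁ f₂ R hR
    obtain ⟨X', b, hb⟩ :=
      exists_isBlowUp (Spec (CommRingCat.of A)) (sheafOf (Ideal.span {f₁, f₂}))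
    refine (sheafTopology F).superset_covering ?_ (hsq f₁ f₂ b hb)
    rw [Sieve.generate_le_iff]
    rintro _ _ ⟨(_ | _)⟩
    · exact hR b (Or.inr hb.1)
    · refine hR _ (Or.inl fun x hx => ?_)
      show phi (Spec.map (CommRingCat.ofHom (Ideal.Quotient.mk _))) ⊤ x = 0
      rw [phi_Spec, RingHom.comp_apply, Ideal.Quotient.eq_zero_iff_mem.mpr hx, map_zero]
  induction n using Nat.strong_induction_on with
  | _ n ih =>
    intro A _ _ s R hR
    match n, s, hR, ih with
    | 0, s, hR, _ => exact base A 0 0 R (by simpa [Set.range_eq_empty] using hR)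
    | 1, s, hR, _ => exact base A (s 0) (s 0) R (by simpa [Set.range_unique] using hR)
    | 2, s, hR, _ =>
      refine base A (s 0) (s 1) R ?_
      rwa [show ({s 0, s 1} : Set A) = Set.range s by ext; simp [Fin.exists_fin_two, eq_comm]]
    | m + 3, s, hR, ih =>
      rw [span_range_eq] at hR
      set J := Ideal.span {s 0, s 1}
      let t : Fin (m + 1) → A := fun k => s k.succ.succ
      obtain ⟨X', b, hb⟩ := exists_isBlowUp (Spec (CommRingCat.of A)) (sheafOf J)
      obtain ⟨T⟩ := nonempty_atlas_of_isBlowUp hb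
      refine (sheafTopology F).transitive (hsq (s 0) (s 1) b hb) R fun Z h hh => ?_
      obtain ⟨_, l, _, ⟨(_ | _)⟩, rfl⟩ := hh
      · rw [Sieve.pullback_comp]
        refine (sheafTopology F).pullback_stable _ (mem_of_atlas hF T _ fun a => ?_)
        change (R.pullback b).pullback (T.j a) ∈ _
        rw [← Sieve.pullback_comp, T.fac]
        haveI := GenFlat.isNoetherianRing_chart J (a : A)
        let φ := algebraMap A (BlowUp.affineAlgebra A J (a : A))
        refine ih (m + 2) (by omega) _ (Fin.cons (φ (a : A)) (φ ∘ t)) _ ?_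
        convert hR.pullback φ using 1
        rw [Ideal.map_sup, map_eq_span a.2, Fin.range_cons, Ideal.span_insert, Ideal.map_span,
          Set.range_comp]
      · rw [Sieve.pullback_comp]
        refine (sheafTopology F).pullback_stable _ ?_
        refine ih (m + 1) (by omega) _ (Ideal.Quotient.mk J ∘ t) _ ?_
        convert hR.pullback (Ideal.Quotient.mk J) using 1
        · rw [Ideal.map_sup, Ideal.map_quotient_self, bot_sup_eq, Ideal.map_span, Set.range_comp]
        · rfl

/-- Over a Noetherian ring every proper surjection covers. -/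
theorem noeth_mem (hF : Presieve.IsSheaf (Scheme.zariskiTopology.over S) F) (hflat : FlatProperCond F)
    (hsq : TwoCover F) {A : Type u} [CommRing A] [IsNoetherianRing A] {P : Scheme.{u}}
    (g : P ⟶ Spec (CommRingCat.of A)) [IsProper g] [Surjective g] :
    Sieve.generate (Presieve.singleton g) ∈ sheafTopology F _ := by
  set R₀ := Sieve.generate (Presieve.singleton g)
  let T := sheafTopology F
  let ι : ∀ K : Ideal A, Spec (CommRingCat.of (A ⧸ K)) ⟶ Spec (CommRingCat.of A) :=
    fun K => Spec.map (CommRingCat.ofHom (Ideal.Quotient.mk K))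
  have hfac : ∀ {Y : Scheme.{u}} (h : Y ⟶ Spec (CommRingCat.of A)) (K : Ideal A),
      R₀.pullback (ι K) ∈ T _ → K ≤ RingHom.ker (phi h ⊤) → R₀.pullback h ∈ T _ := by
    intro Y h K hK hle
    obtain ⟨l, rfl⟩ := exists_factor h hle
    rw [Sieve.pullback_comp]
    exact T.pullback_stable l hK
  suffices H : ∀ K : Ideal A, R₀.pullback (ι K) ∈ T _ by
    have := hfac (𝟙 _) ⊥ (H ⊥) bot_le
    rwa [Sieve.pullback_id] at this
  intro K
  induction K using WellFoundedGT.induction with
  | _ K ih =>
    by_cases hp : K.IsPrime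
    · haveI := hp
      haveI : IsProper (pullback.snd g (ι K)) := MorphismProperty.pullback_snd _ _ ‹IsProper g›
      haveI : Surjective (pullback.snd g (ι K)) := MorphismProperty.pullback_snd _ _ ‹Surjective g›
      obtain ⟨J, hJ0, hJ⟩ := GenFlat.exists_flat_refinement (pullback.snd g (ι K))
      obtain ⟨n, s, hs⟩ := Submodule.fg_iff_exists_fin_generating_family.mp
        (IsNoetherian.noetherian J)
      obtain ⟨X', b, hb⟩ := exists_isBlowUp (Spec (CommRingCat.of (A ⧸ K))) (sheafOf J)
      obtain ⟨at'⟩ := nonempty_atlas_of_isBlowUp hb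
      let R₁ := Sieve.generate (Presieve.ofArrows (twoX (Spec (CommRingCat.of ((A ⧸ K) ⧸ J))) X')
        (twoF (Spec.map (CommRingCat.ofHom (Ideal.Quotient.mk J))) b))
      have hR₁ : Dichotomy J R₁ := by
        rintro Y h (hk | hC)
        · obtain ⟨l, hl⟩ := exists_factor h hk
          exact ⟨_, l, _, ⟨true⟩, hl⟩
        · obtain ⟨l, hl, -⟩ := hb.2 Y h hC
          exact ⟨_, l, _, ⟨false⟩, hl⟩
      have hR₁T : R₁ ∈ T _ := dichotomy_mem hF hsq n (A ⧸ K) s R₁ (by rwa [← hs] at hR₁)
      refine T.transitive hR₁T _ fun Z h hh => ?_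
      obtain ⟨_, l, _, ⟨(_ | _)⟩, rfl⟩ := hh
      · rw [Sieve.pullback_comp]
        refine T.pullback_stable _ (mem_of_atlas hF at' _ fun a => ?_)
        change ((R₀.pullback (ι K)).pullback b).pullback (at'.j a) ∈ _
        rw [← Sieve.pullback_comp, at'.fac]
        obtain ⟨W, w, m, hw₁, hw₂, hw₃, hw₄, hm⟩ := hJ a
        refine T.superset_covering ?_ (flat_singleton_mem hF hflat w)
        rw [Sieve.generate_le_iff]
        rintro _ _ ⟨⟩
        refine ⟨P, m ≫ pullback.fst g (ι K), g, ⟨⟩, ?_⟩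
        rw [Category.assoc, pullback.condition, reassoc_of% hm, Category.assoc]
      · rw [Sieve.pullback_comp]
        refine T.pullback_stable _ ?_
        rw [← Sieve.pullback_comp]
        refine hfac _ (J.comap (Ideal.Quotient.mk K)) (ih _ ?_) ?_
        · refine lt_of_le_of_ne (fun x hx => ?_) fun hc => hJ0 ?_
          · rw [Ideal.mem_comap, Ideal.Quotient.eq_zero_iff_mem.mpr hx]
            exact J.zero_mem
          · rw [← Ideal.map_comap_of_surjective _ Ideal.Quotient.mk_surjective J, ← hc,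
              Ideal.map_quotient_self]
        · intro x hx
          show phi (Spec.map (CommRingCat.ofHom (Ideal.Quotient.mk J)) ≫ ι K) ⊤ x = 0
          rw [phi_comp_Spec, RingHom.comp_apply, phi_Spec, RingHom.comp_apply,
            Ideal.Quotient.eq_zero_iff_mem.mpr (Ideal.mem_comap.mp hx), map_zero]
    · by_cases hK : K = ⊤
      · haveI : Subsingleton (A ⧸ K) := Ideal.Quotient.subsingleton_iff.mpr hK
        haveI : IsEmpty ↥(Spec (CommRingCat.of (A ⧸ K))) :=
          inferInstanceAs (IsEmpty (PrimeSpectrum (A ⧸ K)))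
        convert T.top_mem (Spec (CommRingCat.of (A ⧸ K)))
        refine eq_top_iff.mpr fun Y h _ => ?_
        haveI : IsEmpty Y := Function.isEmpty h
        exact ⟨P, isInitialOfIsEmpty.to P, g, ⟨⟩, isInitialOfIsEmpty.hom_ext _ _⟩
      · obtain ⟨x, y, hxy, hx, hy⟩ : ∃ x y, x * y ∈ K ∧ x ∉ K ∧ y ∉ K := by
          by_contra! hc
          exact hp ⟨hK, fun {x y} hxy => or_iff_not_imp_left.mpr (hc x y hxy)⟩
        let R₁ := (Sieve.generate (Presieve.ofArrows
          (twoX (Spec (CommRingCat.of (A ⧸ (K ⊔ Ideal.span {x}))))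
            (Spec (CommRingCat.of (A ⧸ (K ⊔ Ideal.span {y})))))
          (twoF (ι (K ⊔ Ideal.span {x})) (ι (K ⊔ Ideal.span {y}))))).pullback (ι K)
        have hR₁ : Dichotomy (Ideal.span {Ideal.Quotient.mk K x}) R₁ := by
          intro Y h hh
          have hle : ∀ z, phi h ⊤ (Ideal.Quotient.mk K z) = 0 →
              K ⊔ Ideal.span {z} ≤ RingHom.ker (phi (h ≫ ι K) ⊤) := fun z hz => by
            refine sup_le (fun k hk => ?_) (Ideal.span_le.mpr (Set.singleton_subset_iff.mpr ?_))
            · rw [RingHom.mem_ker, phi_comp_Spec, RingHom.comp_apply,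
                Ideal.Quotient.eq_zero_iff_mem.mpr hk, map_zero]
            · rw [SetLike.mem_coe, RingHom.mem_ker, phi_comp_Spec, RingHom.comp_apply, hz]
          rcases hh with hk | hC
          · obtain ⟨l, hl⟩ := exists_factor _ (hle x (hk (Ideal.mem_span_singleton_self _)))
            exact ⟨_, l, _, ⟨true⟩, hl⟩
          · obtain ⟨l, hl⟩ := exists_factor _ (hle y (phi_eq_zero_of_mul h
              (by rw [← map_mul]; exact Ideal.Quotient.eq_zero_iff_mem.mpr hxy) hC))
            exact ⟨_, l, _, ⟨false⟩, hl⟩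
        have hR₁T : R₁ ∈ T _ := dichotomy_mem hF hsq 1 (A ⧸ K) (fun _ => Ideal.Quotient.mk K x) R₁
          (by simpa [Set.range_unique] using hR₁)
        refine T.transitive hR₁T _ fun Z h hh => ?_
        rw [← Sieve.pullback_comp]
        obtain ⟨_, l, _, ⟨(_ | _)⟩, hl⟩ := hh
        all_goals rw [← hl, Sieve.pullback_comp]; refine T.pullback_stable _ (ih _ ?_)
        · exact lt_of_le_of_ne le_sup_left fun hc => hy (hc ▸ Ideal.mem_sup_right
            (Ideal.mem_span_singleton_self y))
        · exact lt_of_le_of_ne le_sup_left fun hc => hx (hc ▸ Ideal.mem_sup_right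
            (Ideal.mem_span_singleton_self x))

theorem spec_mem (hF : Presieve.IsSheaf (Scheme.zariskiTopology.over S) F) (hflat : FlatProperCond F)
    (hsq : TwoCover F) {A : CommRingCat.{u}} {P : Scheme.{u}} (g : P ⟶ Spec A) [IsProper g]
    [Surjective g] [LocallyOfFinitePresentation g] :
    Sieve.generate (Presieve.singleton g) ∈ sheafTopology F _ := by
  let c := SpectralTopology.fgCone A
  haveI : ∀ i, IsAffine ((SpectralTopology.fgSchemes A).obj i) := fun i =>
    inferInstanceAs (IsAffine (Spec _))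
  haveI : IsAffine c.pt := inferInstanceAs (IsAffine (Spec A))
  let g' : P ⟶ c.pt := g
  haveI : IsProper g' := ‹IsProper g›
  haveI : Surjective g' := ‹Surjective g›
  haveI : LocallyOfFinitePresentation g' := ‹LocallyOfFinitePresentation g›
  obtain ⟨i, N, hN₁, hN₂⟩ := exists_properSurj_stageModel (SpectralTopology.isLimitFgCone A) g'
  haveI : IsNoetherianRing ((SpectralTopology.fgDiagram A).obj i.unop) := by
    have : Algebra.FiniteType ℤ i.unop.1 := i.unop.1.fg_iff_finiteType.1 i.unop.2
    exact Algebra.FiniteType.isNoetherianRing ℤ i.unop.1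
  let n : N.obj ⟶ Spec (CommRingCat.of ((SpectralTopology.fgDiagram A).obj i.unop)) := N.hom
  haveI : IsProper n := hN₁
  haveI : Surjective n := hN₂
  have h1 := (sheafTopology F).pullback_stable (c.π.app i) (noeth_mem hF hflat hsq n)
  refine (sheafTopology F).superset_covering ?_ h1
  rintro Z z ⟨_, m, _, ⟨⟩, hm⟩
  exact ⟨P, N.sq.lift m z hm, g, ⟨⟩, N.sq.lift_snd _ _ _⟩

/-- The criterion. -/
theorem sheafForProperSurjective (hF : Presieve.IsSheaf (Scheme.zariskiTopology.over S) F)
    (hflat : FlatProperCond F) (hsq : TwoCover F) : SheafForProperSurjective F := by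
  intro U V f hU hp hs hf
  have h1 : Sieve.generate (Presieve.singleton f.left) ∈ sheafTopology F U.left := by
    refine (sheafTopology F).superset_covering ?_ ((sheafTopology F).pullback_stable
      U.left.isoSpec.hom (spec_mem hF hflat hsq (f.left ≫ U.left.isoSpec.hom)))
    rintro Z z ⟨_, m, _, ⟨⟩, hm⟩
    exact ⟨V.left, m, f.left, ⟨⟩, (cancel_mono U.left.isoSpec.hom).mp
      ((Category.assoc _ _ _).trans hm)⟩
  have h2 := h1 U (𝟙 _) U (𝟙 U)
  rw [Sieve.pullback_id, Sieve.pullback_id] at h2
  rw [Presieve.isSheafFor_iff_generate]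
  convert h2 using 2
  apply (Sieve.overEquiv U).injective
  rw [OrderIso.apply_symm_apply]
  ext Z z
  rw [Sieve.overEquiv_iff]
  constructor
  · rintro ⟨_, e, _, ⟨⟩, he⟩
    exact ⟨V.left, e.left, f.left, ⟨⟩, congrArg CommaMorphism.left he⟩
  · rintro ⟨_, m, _, ⟨⟩, hm⟩
    refine ⟨V, Over.homMk m ?_, f, ⟨⟩, Over.OverMorphism.ext hm⟩
    show m ≫ V.hom = z ≫ U.hom
    rw [← Over.w f, reassoc_of% hm]

theorem sheafForPairs_of_isSheaf (hF : Presieve.IsSheaf (HTop.Jh S) F) :
    SheafForPairs @LocallyOfFinitePresentation F := by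
  intro Y A B a b ha hb ha' hb' hs
  refine isSheafFor_over (K := HTop.hPrecoverage) hF _ _ ?_
  let E : PreZeroHypercover.{0} Y.left :=
    ⟨Bool, fun c => (twoX A B c).left, fun c => (twoF a b c).left⟩
  haveI : Finite E.I₀ := inferInstanceAs (Finite Bool)
  refine (HTop.presieve₀_mem_hPrecoverage_iff E).mpr
    ⟨?_, isVCover_of_proper_family E ?_ fun y => ?_⟩
  · rintro (_ | _)
    · exact hb'
    · exact ha'
  · rintro (_ | _)
    · exact hb
    · exact ha
  · rcases hs y with h | h
    · exact ⟨true, h⟩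
    · exact ⟨false, h⟩

/-- h sheaves satisfy excision for almost blow-up squares. -/
theorem existsUnique_of_isSheaf (hF : Presieve.IsSheaf (HTop.Jh S) F) {E Z X' X : Over S}
    (e : E ⟶ X') (π : E ⟶ Z) (b : X' ⟶ X) (i : Z ⟶ X)
    (h : HTop.IsAlmostBlowUpSquare e.left π.left b.left i.left)
    (t : F.obj (op Z)) (s' : F.obj (op X')) (hts : F.map π.op t = F.map e.op s') :
    ∃! s : F.obj (op X), F.map i.op s = t ∧ F.map b.op s = s' := by
  haveI := h.isClosedImmersion
  haveI := h.isProper
  haveI := h.finitePresentation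
  exact existsUnique_of_square (sheafForPairs_of_isSheaf hF) e π b i h.finitePresentation
    h.finitePresentation_base (Groth.Agent.S4599.result b.left) h.isPullback (offCentre i.left)
    (mem_offCentre_or i.left) (isIso_offCentre_of_almostBlowUp h) t s' hts

theorem flatProperCond_of_isSheaf (hF : Presieve.IsSheaf (HTop.Jh S) F) : FlatProperCond F :=
  fun X Y f hY hs _ hp hf => (isSheaf_Jh_iff.mp hF).2 Y X f hY hp hs hf

theorem isSheaf_of_conds (hF : Presieve.IsSheaf (Scheme.zariskiTopology.over S) F)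
    (hflat : FlatProperCond F) (hsq : SquareCond F) : Presieve.IsSheaf (HTop.Jh S) F :=
  isSheaf_Jh_iff.mpr ⟨hF, sheafForProperSurjective hF hflat (twoCover_of_squareCond hF hsq)⟩

end Groth.HTopHyper.HSheafABU
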