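import Groth.Agent.HTopHyper.TwoChartGlue
import Groth.Agent.BlowUpBasics.SheafOf
import Groth.Agent.BlowUpBasics.AtlasOf
import Mathlib.RingTheory.Polynomial.Basic

/-! # Functions on base changes of blow-ups in two equations, up to bounded Frobenius twists -/

set_option autoImplicit false
set_option backward.isDefEq.respectTransparency false

universe u

open CategoryTheory CategoryTheory.Limits AlgebraicGeometry Groth.BlowUpBasics

namespace Groth.HTopHyper.TwoChart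

open Polynomial LaurentPolynomial

variable {A₀ : Type u} [CommRing A₀] {J : Ideal A₀} {x y : A₀}

/-- The presentation of a chart. -/
noncomputable def toChart (x : A₀) (hy : y ∈ J) : A₀[X] →+* BlowUp.affineAlgebra A₀ J x :=
  Polynomial.eval₂RingHom (algebraMap A₀ _) (frac J x y hy)

theorem toChart_C (hy : y ∈ J) (a : A₀) :
    toChart x hy (Polynomial.C a) = algebraMap A₀ (BlowUp.affineAlgebra A₀ J x) a :=
  Polynomial.eval₂_C _ _

theorem toChart_X (hy : y ∈ J) : toChart x hy Polynomial.X = frac J x y hy :=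
  Polynomial.eval₂_X _ _

theorem toChart_eqn (hy : y ∈ J) :
    toChart x hy (Polynomial.C x * Polynomial.X - Polynomial.C y) = 0 := by
  rw [map_sub, map_mul, toChart_C, toChart_C, toChart_X, mul_comm, frac_mul_algebraMap, sub_self]

theorem toChart_surjective (hy : y ∈ J) (hJ : J = Ideal.span {x, y}) :
    Function.Surjective (toChart x hy) := by
  rintro ⟨c, hc⟩
  have hrange : BlowUp.affineAlgebra A₀ J x ≤
      (Polynomial.aeval (IsLocalization.mk' (Localization.Away x) y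
        ⟨x, Submonoid.mem_powers x⟩) : A₀[X] →ₐ[A₀] Localization.Away x).range := by
    refine Algebra.adjoin_le ?_
    rintro _ ⟨z, hz, rfl⟩
    rw [hJ] at hz
    obtain ⟨α, β, rfl⟩ := Ideal.mem_span_pair.mp hz
    refine ⟨Polynomial.C α + Polynomial.C β * Polynomial.X, ?_⟩
    refine (IsLocalization.eq_mk'_iff_mul_eq).mpr ?_
    simp [add_mul, mul_assoc, IsLocalization.mk'_spec]
  obtain ⟨P, hP⟩ := hrange hc
  refine ⟨P, Subtype.ext ?_⟩
  rw [show (⟨c, hc⟩ : BlowUp.affineAlgebra A₀ J x).1 = c from rfl, ← hP]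
  show (BlowUp.affineAlgebra A₀ J x).val.toRingHom (toChart x hy P) = _
  rw [toChart, Polynomial.coe_eval₂RingHom, Polynomial.hom_eval₂]
  rfl

theorem exists_torsion (hy : y ∈ J) (P : A₀[X]) (hP : toChart x hy P = 0) :
    ∃ j : ℕ, Polynomial.C x ^ j * P ∈ I₁ x y := by
  have key : ∀ Q : A₀[X], ∃ (d : ℕ) (s : A₀),
      Polynomial.C x ^ d * Q - Polynomial.C s ∈ I₁ x y := by
    intro Q
    induction Q using Polynomial.induction_on' with
    | add Q Q' h h' =>
      obtain ⟨d, s, h⟩ := h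
      obtain ⟨d', s', h'⟩ := h'
      refine ⟨d + d', x ^ d' * s + x ^ d * s', ?_⟩
      have := add_mem ((I₁ x y).mul_mem_left (Polynomial.C x ^ d') h)
        ((I₁ x y).mul_mem_left (Polynomial.C x ^ d) h')
      convert this using 1
      simp only [map_add, map_mul, map_pow]
      ring
    | monomial n a =>
      refine ⟨n, a * y ^ n, ?_⟩
      have h := (I₁ x y).mul_mem_left (Polynomial.C a) (Ideal.mem_of_dvd _
        (sub_dvd_pow_sub_pow (Polynomial.C x * Polynomial.X) (Polynomial.C y) n)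
        (Ideal.mem_span_singleton_self _))
      convert h using 1
      rw [← Polynomial.C_mul_X_pow_eq_monomial, map_mul, map_pow]
      ring
  obtain ⟨d, s, hs⟩ := key P
  have h0 : toChart x hy (Polynomial.C s) = 0 := by
    obtain ⟨q, hq⟩ := Ideal.mem_span_singleton'.mp hs
    have := congrArg (toChart x hy) hq
    rw [map_mul, toChart_eqn, mul_zero, map_sub, map_mul, hP, mul_zero, zero_sub] at this
    exact neg_eq_zero.mp this.symm
  rw [toChart_C] at h0
  obtain ⟨⟨_, j, rfl⟩, hj⟩ := (IsLocalization.map_eq_zero_iff (Submonoid.powers x)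
    (Localization.Away x) s).mp (congrArg Subtype.val h0)
  simp only at hj
  refine ⟨j + d, ?_⟩
  have := add_mem ((I₁ x y).mul_mem_left (Polynomial.C x ^ j) hs) (zero_mem _)
  rw [add_zero, mul_sub, ← mul_assoc, ← pow_add, ← map_pow Polynomial.C x j, ← map_mul, hj,
    map_zero, sub_zero] at this
  exact this

theorem exists_uniform_torsion [IsNoetherianRing A₀] (hy : y ∈ J) :
    ∃ m : ℕ, Ideal.span {Polynomial.C x ^ m} * RingHom.ker (toChart x hy) ≤ I₁ x y := by
  obtain ⟨t, ht⟩ := IsNoetherian.noetherian (RingHom.ker (toChart x hy))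
  have : ∀ P : t, ∃ j : ℕ, Polynomial.C x ^ j * (P : A₀[X]) ∈ I₁ x y := fun P =>
    exists_torsion hy P.1 (RingHom.mem_ker.mp (ht.le (Submodule.subset_span P.2)))
  choose j hj using this
  obtain ⟨m, hm⟩ := Finite.exists_le j
  refine ⟨m, ?_⟩
  rw [← ht, Ideal.span_mul_span' {Polynomial.C x ^ m} (t : Set A₀[X]), Ideal.span_le]
  rintro _ ⟨_, rfl, P, hP, rfl⟩
  obtain ⟨e, he⟩ := Nat.exists_eq_add_of_le (hm ⟨P, hP⟩)
  show Polynomial.C x ^ m * P ∈ I₁ x y
  rw [he, pow_add, mul_right_comm]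
  exact Ideal.mul_mem_right _ _ (hj ⟨P, hP⟩)

section BaseChange

variable {A : Type u} [CommRing A] (θ : A₀ →+* A) (x) (hy : y ∈ J)

/-- The base-changed kernel. -/
noncomputable abbrev kerA : Ideal A[X] :=
  (RingHom.ker (toChart x hy)).map (Polynomial.mapRingHom θ)

theorem eqn_mem_kerA :
    Polynomial.C (θ x) * Polynomial.X - Polynomial.C (θ y) ∈ kerA x θ hy := by
  have := Ideal.mem_map_of_mem (Polynomial.mapRingHom θ)
    (show _ ∈ RingHom.ker (toChart x hy) from toChart_eqn (x := x) hy)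
  simpa using this

theorem torsion_kerA {m : ℕ}
    (hm : Ideal.span {Polynomial.C x ^ m} * RingHom.ker (toChart x hy) ≤ I₁ x y) :
    Ideal.span {Polynomial.C (θ x) ^ m} * kerA x θ hy ≤ I₁ (θ x) (θ y) := by
  have := Ideal.map_mono (f := Polynomial.mapRingHom θ) hm
  rw [Ideal.map_mul, Ideal.map_span, Ideal.map_span, Set.image_singleton, Set.image_singleton] at this
  simpa using this

theorem torsion_laurent {m : ℕ}
    (hm : Ideal.span {Polynomial.C x ^ m} * RingHom.ker (toChart x hy) ≤ I₁ x y)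
    (L : A[T;T⁻¹]) (hL : L ∈ (kerA x θ hy).map toLaurent) :
    LaurentPolynomial.C (θ x) ^ m * L ∈ I₁₂ (θ x) (θ y) := by
  have := Ideal.map_mono (f := (toLaurent : A[X] →+* A[T;T⁻¹])) (torsion_kerA x θ hy hm)
  rw [Ideal.map_mul, Ideal.map_span, Ideal.map_span, Set.image_singleton, Set.image_singleton,
    map_sub, map_mul, map_pow, toLaurent_C, toLaurent_C, toLaurent_X] at this
  exact this (Ideal.mul_mem_mul (Ideal.mem_span_singleton_self _) hL)

end BaseChange

section Overlap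

variable (x) (hy : y ∈ J)

/-- The overlap of the two charts. -/
abbrev Overlap : Type u := Localization.Away (frac J x y hy)

/-- Base map to the overlap. -/
noncomputable def overlapBase : A₀ →+* Overlap x hy :=
  (algebraMap (BlowUp.affineAlgebra A₀ J x) (Overlap x hy)).comp (algebraMap A₀ _)

theorem overlapBase_mem_nonZeroDivisors : overlapBase x hy x ∈ nonZeroDivisors (Overlap x hy) :=
  map_mem_nonZeroDivisors_of_flat
    ((RingHom.flat_algebraMap_iff).mpr
      (IsLocalization.flat (Overlap x hy) (Submonoid.powers (frac J x y hy))))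
    algebraMap_self_mem_nonZeroDivisors

variable {x} (hx : x ∈ J)
include hx

theorem exists_overlap_hom :
    ∃ ψ : BlowUp.affineAlgebra A₀ J y →+* Overlap x hy,
      ψ.comp (algebraMap A₀ _) = overlapBase x hy ∧
        ψ (frac J y x hx) * algebraMap _ (Overlap x hy) (frac J x y hy) = 1 := by
  have hu := IsLocalization.Away.algebraMap_isUnit (S := Overlap x hy) (frac J x y hy)
  have hty : overlapBase x hy y = algebraMap _ (Overlap x hy) (frac J x y hy) * overlapBase x hy x := by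
    rw [overlapBase, RingHom.comp_apply, RingHom.comp_apply, ← map_mul, frac_mul_algebraMap]
  have hnzd : overlapBase x hy y ∈ nonZeroDivisors (Overlap x hy) := by
    rw [hty]
    exact mul_mem hu.mem_nonZeroDivisors (overlapBase_mem_nonZeroDivisors x hy)
  obtain ⟨ψ, hψ⟩ := exists_ringHom_lift (I := J) (a := y) (overlapBase x hy) hnzd (by
    rw [hty, Ideal.span_singleton_mul_left_unit hu, overlapBase, ← Ideal.map_map, map_eq_span hx,
      Ideal.map_span, Set.image_singleton, RingHom.comp_apply])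
  refine ⟨ψ, hψ, (mul_cancel_right_mem_nonZeroDivisors
    (overlapBase_mem_nonZeroDivisors x hy)).mp ?_⟩
  rw [one_mul, mul_assoc, ← hty, ← hψ, RingHom.comp_apply, ← map_mul, frac_mul_algebraMap]
  rfl

theorem invert_mem_kerA {A : Type u} [CommRing A] (θ : A₀ →+* A) (R : A[X])
    (hR : R ∈ kerA y θ hx) : invert (toLaurent R) ∈ (kerA x θ hy).map toLaurent := by
  obtain ⟨ψ, hψ, hψt⟩ := exists_overlap_hom hy hx
  let θL : A₀[T;T⁻¹] →+* A[T;T⁻¹] := LaurentPolynomial.eval₂ (LaurentPolynomial.C.comp θ)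
    ⟨T 1, T (-1), by rw [← T_add]; exact T_zero, by rw [← T_add]; exact T_zero⟩
  have e1 : θL.comp toLaurent = (toLaurent).comp (Polynomial.mapRingHom θ) :=
    Polynomial.ringHom_ext (fun a => by simp [θL]) (by simp [θL])
  have e2 : θL.comp ((invert (R := A₀)).toRingEquiv.toRingHom.comp toLaurent) =
      ((invert (R := A)).toRingEquiv.toRingHom.comp toLaurent).comp (Polynomial.mapRingHom θ) :=
    Polynomial.ringHom_ext (fun a => by simp [θL])
      (by
        simp only [RingHom.comp_apply, Polynomial.coe_mapRingHom, Polynomial.map_X, toLaurent_X]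
        show θL (invert (T 1)) = invert (T 1)
        rw [invert_T, invert_T]
        exact (eval₂_T_neg_n _ _ 1).trans (pow_one _))
  induction hR using Submodule.span_induction with
  | mem P hP =>
    obtain ⟨R₀, hR₀, rfl⟩ := hP
    set t := algebraMap _ (Overlap x hy) (frac J x y hy) with ht
    let u : (Overlap x hy)ˣ := ⟨t, ψ (frac J y x hx), by rw [mul_comm]; exact hψt, hψt⟩
    let ev : A₀[T;T⁻¹] →+* Overlap x hy := LaurentPolynomial.eval₂ (overlapBase x hy) u
    have e3 : ev.comp toLaurent =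
        (algebraMap _ (Overlap x hy)).comp (toChart x hy) :=
      Polynomial.ringHom_ext (fun a => by simp [ev, toChart_C, overlapBase])
        (by simp [ev, toChart_X, u, ht])
    have e4 : ev.comp ((invert (R := A₀)).toRingEquiv.toRingHom.comp toLaurent) =
        ψ.comp (toChart y hx) := by
      refine Polynomial.ringHom_ext (fun a => ?_) ?_
      · simp [ev, toChart_C, ← hψ]
      · show ev (invert (toLaurent Polynomial.X)) = ψ (toChart y hx Polynomial.X)
        rw [toLaurent_X, invert_T, toChart_X]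
        exact (eval₂_T_neg_n _ _ 1).trans (pow_one _)
    have h0 : algebraMap _ (Overlap x hy) (toChart x hy R₀.reverse) = 0 := by
      have hh := RingHom.congr_fun e3 R₀.reverse
      simp only [RingHom.comp_apply, toLaurent_reverse, map_mul] at hh
      rw [← hh]
      have h4 := RingHom.congr_fun e4 R₀
      simp only [RingHom.comp_apply, RingHom.mem_ker.mp hR₀, map_zero] at h4
      erw [h4]
      rw [zero_mul]
    obtain ⟨⟨_, k, rfl⟩, hk⟩ := (IsLocalization.map_eq_zero_iff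
      (Submonoid.powers (frac J x y hy)) (Overlap x hy) _).mp h0
    simp only at hk
    have hP' : Polynomial.X ^ k * R₀.reverse ∈ RingHom.ker (toChart x hy) := by
      rw [RingHom.mem_ker, map_mul, map_pow, toChart_X, hk]
    have h1 := Ideal.mem_map_of_mem (toLaurent : A[X] →+* A[T;T⁻¹])
      (Ideal.mem_map_of_mem (Polynomial.mapRingHom θ) hP')
    rw [← RingHom.comp_apply, ← e1, RingHom.comp_apply, map_mul, toLaurent_X_pow,
      toLaurent_reverse, map_mul, map_mul] at h1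
    have h2 := RingHom.congr_fun e2 R₀
    simp only [RingHom.comp_apply] at h2
    erw [h2] at h1
    have hu : IsUnit (θL (T (k : ℤ)) : A[T;T⁻¹]) := (isUnit_T _).map θL
    have hu' : IsUnit (θL (T (R₀.natDegree : ℤ)) : A[T;T⁻¹]) := (isUnit_T _).map θL
    exact (Ideal.mul_unit_mem_iff_mem _ hu').mp ((Ideal.unit_mul_mem_iff_mem _ hu).mp h1)
  | zero => rw [map_zero, map_zero]; exact zero_mem _
  | add P Q _ _ hP hQ => rw [map_add, map_add]; exact add_mem hP hQ
  | smul a P _ hP => rw [smul_eq_mul, map_mul, map_mul]; exact Ideal.mul_mem_left _ _ hP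

end Overlap

/-! ## Geometry -/

section Geometry

theorem eq_toSpec {A : Type u} [CommRing A] {Y : Scheme.{u}} (h : Y ⟶ Spec (CommRingCat.of A)) :
    h = Y.toSpecΓ ≫ Spec.map (CommRingCat.ofHom (phi h ⊤)) := by
  have e : CommRingCat.ofHom (phi h ⊤) =
      (Scheme.ΓSpecIso (CommRingCat.of A)).inv ≫ h.appTop := by
    rw [phi, CommRingCat.ofHom_hom]
    simp [Scheme.Hom.appLE]
  rw [e, Spec.map_comp, ← Category.assoc, ← Scheme.toSpecΓ_naturality, Category.assoc,
    ← SpecMap_ΓSpecIso_hom, ← Spec.map_comp, Iso.inv_hom_id, Spec.map_id, Category.comp_id]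

theorem phi_comp {A B : Type u} [CommRing A] [CommRing B] {Y : Scheme.{u}}
    (h : Y ⟶ Spec (CommRingCat.of B)) (φ : A →+* B) :
    phi (h ≫ Spec.map (CommRingCat.ofHom φ)) ⊤ = (phi h ⊤).comp φ := by
  rw [phi, phi, ← CommRingCat.hom_ofHom φ, ← CommRingCat.hom_comp]
  congr 1
  simp [Scheme.Hom.appLE, Scheme.ΓSpecIso_inv_naturality_assoc]

theorem phi_precomp {A : Type u} [CommRing A] {Y Z : Scheme.{u}} (k : Z ⟶ Y)
    (h : Y ⟶ Spec (CommRingCat.of A)) : phi (k ≫ h) ⊤ = k.appTop.hom.comp (phi h ⊤) := by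
  rw [phi, phi, ← CommRingCat.hom_comp]
  congr 1
  simp [Scheme.Hom.appLE]

theorem hom_ext_phi {A : Type u} [CommRing A] {Y : Scheme.{u}}
    {h h' : Y ⟶ Spec (CommRingCat.of A)} (e : phi h ⊤ = phi h' ⊤) : h = h' := by
  rw [eq_toSpec h, eq_toSpec h', e]

theorem phi_toSpec {A : Type u} [CommRing A] {Y : Scheme.{u}} (η : A →+* Γ(Y, ⊤)) :
    phi (Y.toSpecΓ ≫ Spec.map (CommRingCat.ofHom η)) ⊤ = η := by
  rw [phi, ← CommRingCat.hom_ofHom η]
  congr 1
  simp [Scheme.Hom.appLE, Scheme.ΓSpecIso_inv_naturality_assoc]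

/-- Restriction of functions to an affine scheme over `Y`. -/
noncomputable def sec {B : Type u} [CommRing B] {Y : Scheme.{u}}
    (m : Spec (CommRingCat.of B) ⟶ Y) : Γ(Y, ⊤) →+* B :=
  (m.appTop ≫ (Scheme.ΓSpecIso (CommRingCat.of B)).hom).hom

theorem sec_comp {B B' : Type u} [CommRing B] [CommRing B'] {Y : Scheme.{u}}
    (m : Spec (CommRingCat.of B) ⟶ Y) (r : B →+* B') :
    sec (Spec.map (CommRingCat.ofHom r) ≫ m) = r.comp (sec m) := by
  rw [sec, sec, ← CommRingCat.hom_ofHom r, ← CommRingCat.hom_comp]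
  congr 1
  rw [Scheme.Hom.comp_appTop, Category.assoc, Category.assoc, Scheme.ΓSpecIso_naturality]
  rfl

theorem sec_phi {A B : Type u} [CommRing A] [CommRing B] {Y : Scheme.{u}}
    (m : Spec (CommRingCat.of B) ⟶ Y) (h : Y ⟶ Spec (CommRingCat.of A)) {β : A →+* B}
    (e : m ≫ h = Spec.map (CommRingCat.ofHom β)) (a : A) : sec m (phi h ⊤ a) = β a := by
  have := RingHom.congr_fun (phi_precomp m h) a
  rw [e, phi_Spec, RingHom.comp_apply, RingHom.comp_apply] at this
  rw [sec, CommRingCat.comp_apply, ← this]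
  exact Iso.inv_hom_id_apply _ _

theorem appTop_eq_zero_of_sec {B : Type u} [CommRing B] {Y : Scheme.{u}}
    (m : Spec (CommRingCat.of B) ⟶ Y) {v : Γ(Y, ⊤)} (h : sec m v = 0) : m.appTop v = 0 := by
  apply (ConcreteCategory.bijective_of_isIso (Scheme.ΓSpecIso (CommRingCat.of B)).hom).1
  rw [map_zero]
  exact h

variable {X' X₁ : Scheme.{u}} {b : X' ⟶ Spec (CommRingCat.of A₀)} {A : Type u} [CommRing A]
  {θ : A₀ →+* A} {gX : X₁ ⟶ X'} {b₁ : X₁ ⟶ Spec (CommRingCat.of A)}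

/-- A base-changed chart: the part of `X₁` over a chart factors through it. -/
theorem exists_chart (at' : Atlas J b)
    (hX : IsPullback gX b₁ b (Spec.map (CommRingCat.ofHom θ))) (hy : y ∈ J) (hx : x ∈ J)
    (hJ : J = Ideal.span {x, y}) :
    ∃ (γ : BlowUp.affineAlgebra A₀ J x →+* A[X] ⧸ kerA x θ hy)
      (m : Spec (CommRingCat.of (A[X] ⧸ kerA x θ hy)) ⟶ X₁),
      γ.comp (toChart x hy) =
        (Ideal.Quotient.mk (kerA x θ hy)).comp (Polynomial.mapRingHom θ) ∧
      m ≫ gX = Spec.map (CommRingCat.ofHom γ) ≫ at'.j ⟨x, hx⟩ ∧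
      m ≫ b₁ = Spec.map (CommRingCat.ofHom
        ((Ideal.Quotient.mk (kerA x θ hy)).comp Polynomial.C)) ∧
      ∃ h : pullback gX (at'.j ⟨x, hx⟩) ⟶ Spec (CommRingCat.of (A[X] ⧸ kerA x θ hy)),
        h ≫ m = pullback.fst gX (at'.j ⟨x, hx⟩) := by
  let K := kerA x θ hy
  have hsurj := toChart_surjective (x := x) hy hJ
  have hker : RingHom.ker (toChart x hy) ≤
      RingHom.ker ((Ideal.Quotient.mk K).comp (Polynomial.mapRingHom θ)) := fun P hP => by
    rw [RingHom.mem_ker, RingHom.comp_apply, Ideal.Quotient.eq_zero_iff_mem]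
    exact Ideal.mem_map_of_mem _ hP
  let γ : BlowUp.affineAlgebra A₀ J x →+* A[X] ⧸ K :=
    (toChart x hy).liftOfSurjective hsurj ⟨_, hker⟩
  have hγ : γ.comp (toChart x hy) = (Ideal.Quotient.mk K).comp (Polynomial.mapRingHom θ) :=
    (toChart x hy).liftOfSurjective_comp hsurj ⟨_, hker⟩
  have hγA : γ.comp (algebraMap A₀ _) = ((Ideal.Quotient.mk K).comp Polynomial.C).comp θ := by
    ext a
    have := RingHom.congr_fun hγ (Polynomial.C a)
    simpa [toChart_C] using this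
  have hw : (Spec.map (CommRingCat.ofHom γ) ≫ at'.j ⟨x, hx⟩) ≫ b =
      Spec.map (CommRingCat.ofHom ((Ideal.Quotient.mk K).comp Polynomial.C)) ≫
        Spec.map (CommRingCat.ofHom θ) := by
    rw [Category.assoc, at'.fac, chartBase, ← Spec.map_comp, ← Spec.map_comp,
      ← CommRingCat.ofHom_comp, ← CommRingCat.ofHom_comp, hγA]
  let m := hX.lift _ _ hw
  refine ⟨γ, m, hγ, hX.lift_fst _ _ _, hX.lift_snd _ _ _, ?_⟩
  let P := pullback gX (at'.j ⟨x, hx⟩)
  let p : P ⟶ X₁ := pullback.fst gX (at'.j ⟨x, hx⟩)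
  let q : P ⟶ Spec (CommRingCat.of (BlowUp.affineAlgebra A₀ J x)) :=
    pullback.snd gX (at'.j ⟨x, hx⟩)
  let η : A[X] →+* Γ(P, ⊤) :=
    Polynomial.eval₂RingHom (phi (p ≫ b₁) ⊤) (phi q ⊤ (frac J x y hy))
  have hbase : (phi q ⊤).comp (algebraMap A₀ _) = (phi (p ≫ b₁) ⊤).comp θ := by
    rw [← phi_comp, ← phi_comp, Category.assoc, ← hX.w, ← Category.assoc p, pullback.condition,
      Category.assoc, at'.fac]
  have hη : η.comp (Polynomial.mapRingHom θ) = (phi q ⊤).comp (toChart x hy) :=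
    Polynomial.ringHom_ext
      (fun a => by simpa [η, toChart_C] using (RingHom.congr_fun hbase a).symm)
      (by simp [η, toChart_X])
  have hηK : K ≤ RingHom.ker η := by
    refine Ideal.map_le_iff_le_comap.mpr fun R hR => ?_
    rw [Ideal.mem_comap, RingHom.mem_ker, ← RingHom.comp_apply, hη, RingHom.comp_apply,
      RingHom.mem_ker.mp hR, map_zero]
  let η' : A[X] ⧸ K →+* Γ(P, ⊤) := Ideal.Quotient.lift K η fun R hR => hηK hR
  let h := P.toSpecΓ ≫ Spec.map (CommRingCat.ofHom η')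
  have hh : phi h ⊤ = η' := phi_toSpec η'
  refine ⟨h, hX.hom_ext ?_ ?_⟩
  · rw [Category.assoc, hX.lift_fst, ← Category.assoc,
      show h ≫ Spec.map (CommRingCat.ofHom γ) = q from ?_]
    · exact pullback.condition.symm
    refine hom_ext_phi ?_
    rw [phi_comp, hh]
    refine RingHom.ext fun c => ?_
    obtain ⟨R, rfl⟩ := hsurj c
    rw [RingHom.comp_apply, ← RingHom.comp_apply γ, hγ, ← RingHom.comp_apply (phi q ⊤), ← hη]
    rfl
  · rw [Category.assoc, hX.lift_snd]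
    refine hom_ext_phi ?_
    rw [phi_comp, hh]
    refine RingHom.ext fun c => ?_
    show η (Polynomial.C c) = _
    exact Polynomial.eval₂_C _ _

theorem chart_covers (at' : Atlas J b) (hy : y ∈ J) (hx : x ∈ J) (hJ : J = Ideal.span {x, y})
    (z : X') : z ∈ Set.range (at'.j ⟨x, hx⟩) ∨ z ∈ Set.range (at'.j ⟨y, hy⟩) := by
  obtain ⟨a, w, rfl⟩ := at'.covers z
  by_contra hc
  push Not at hc
  have h₁ : frac J (a : A₀) x hx ∈ w.asIdeal := by
    by_contra h
    exact hc.1 (at'.overlap ⟨x, hx⟩ a w h)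
  have h₂ : frac J (a : A₀) y hy ∈ w.asIdeal := by
    by_contra h
    exact hc.2 (at'.overlap ⟨y, hy⟩ a w h)
  obtain ⟨α, β, hαβ⟩ := Ideal.mem_span_pair.mp (show (a : A₀) ∈ Ideal.span {x, y} from hJ ▸ a.2)
  have h1 : algebraMap A₀ _ α * frac J (a : A₀) x hx + algebraMap A₀ _ β * frac J (a : A₀) y hy =
      (1 : BlowUp.affineAlgebra A₀ J (a : A₀)) := by
    refine (mul_cancel_right_mem_nonZeroDivisors
      (algebraMap_self_mem_nonZeroDivisors (I := J) (a := (a : A₀)))).mp ?_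
    rw [add_mul, mul_assoc, mul_assoc, frac_mul_algebraMap, frac_mul_algebraMap, ← map_mul,
      ← map_mul, ← map_add, hαβ, one_mul]
  exact w.isPrime.ne_top ((Ideal.eq_top_iff_one _).mpr
    (h1 ▸ add_mem (Ideal.mul_mem_left _ _ h₁) (Ideal.mul_mem_left _ _ h₂)))

/-- Functions vanishing on the centre are divisible on a chart. -/
theorem exists_divisor {B : Type u} [CommRing B] (φ : A[X] →+* B) (hφ : Function.Surjective φ)
    (s t : A₀) (j : Spec (CommRingCat.of B) ⟶ X₁)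
    (hj : j ≫ b₁ = Spec.map (CommRingCat.ofHom (φ.comp Polynomial.C)))
    (heq : φ (Polynomial.C (θ s) * Polynomial.X - Polynomial.C (θ t)) = 0)
    (hst : J = Ideal.span {s, t}) (v : Γ(X₁, ⊤))
    (hv : ∀ (W : Scheme.{u}) (m : W ⟶ X₁),
      J ≤ RingHom.ker (phi (m ≫ b₁ ≫ Spec.map (CommRingCat.ofHom θ)) ⊤) → m.appTop v = 0) :
    ∃ W, sec j v = φ (Polynomial.C (θ s) * W) := by
  let π := Ideal.Quotient.mk (Ideal.span {φ (Polynomial.C (θ s))})
  have hs0 : π (φ (Polynomial.C (θ s))) = 0 :=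
    Ideal.Quotient.eq_zero_iff_mem.mpr (Ideal.mem_span_singleton_self _)
  have h0 := hv _ (Spec.map (CommRingCat.ofHom π) ≫ j) (by
    have e : (Spec.map (CommRingCat.ofHom π) ≫ j) ≫ b₁ ≫ Spec.map (CommRingCat.ofHom θ) =
        Spec.map (CommRingCat.ofHom ((π.comp (φ.comp Polynomial.C)).comp θ)) := by
      rw [Category.assoc, reassoc_of% hj, ← Spec.map_comp, ← Spec.map_comp,
        ← CommRingCat.ofHom_comp, ← CommRingCat.ofHom_comp]
      rfl
    have ht0 : π (φ (Polynomial.C (θ t))) = 0 := by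
      rw [map_sub, map_mul, sub_eq_zero] at heq
      rw [← heq, map_mul, hs0, zero_mul]
    rw [e, hst, Ideal.span_le, Set.insert_subset_iff, Set.singleton_subset_iff]
    constructor <;> rw [SetLike.mem_coe, RingHom.mem_ker, phi_Spec] <;>
      simp only [RingHom.comp_apply]
    · rw [hs0, map_zero]
    · rw [ht0, map_zero])
  have h1 : π (sec j v) = 0 := by
    show (π.comp (sec j)) v = 0
    rw [← sec_comp, sec, CommRingCat.comp_apply, h0, map_zero]
  obtain ⟨c, hc⟩ := Ideal.mem_span_singleton'.mp (Ideal.Quotient.eq_zero_iff_mem.mp h1)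
  obtain ⟨W, rfl⟩ := hφ c
  exact ⟨W, by rw [← hc, map_mul]; exact mul_comm _ _⟩

/-- A function vanishing on both charts is zero. -/
theorem eq_zero_of_charts (at' : Atlas J b) (hy : y ∈ J) (hx : x ∈ J) (hJ : J = Ideal.span {x, y})
    {d : Γ(X₁, ⊤)} (h₁ : (pullback.fst gX (at'.j ⟨x, hx⟩)).appTop d = 0)
    (h₂ : (pullback.fst gX (at'.j ⟨y, hy⟩)).appTop d = 0) : d = 0 := by
  let O : Bool → X₁.Opens := fun c => cond c (gX ⁻¹ᵁ (at'.j ⟨x, hx⟩).opensRange)
    (gX ⁻¹ᵁ (at'.j ⟨y, hy⟩).opensRange)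
  have hcov : (⊤ : X₁.Opens) ≤ ⨆ c, O c := fun z _ => by
    rcases chart_covers at' hy hx hJ (gX z) with h | h
    · exact TopologicalSpace.Opens.mem_iSup.mpr ⟨true, h⟩
    · exact TopologicalSpace.Opens.mem_iSup.mpr ⟨false, h⟩
  have hzero : ∀ {Y : Scheme.{u}} (k : Y ⟶ X') [IsOpenImmersion k],
      (pullback.fst gX k).appTop d = 0 →
        X₁.presheaf.map (homOfLE (le_top : gX ⁻¹ᵁ k.opensRange ≤ ⊤)).op d = 0 := by
    intro Y k _ hk
    let U := gX ⁻¹ᵁ k.opensRange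
    have hr : Set.range U.ι ⊆ Set.range (pullback.fst gX k) := by
      rw [Scheme.Pullback.range_fst, Scheme.Opens.range_ι]
      exact subset_rfl
    have := congrArg (IsOpenImmersion.lift (pullback.fst gX k) U.ι hr).appTop hk
    rw [map_zero, ← CommRingCat.comp_apply, ← Scheme.Hom.comp_appTop,
      IsOpenImmersion.lift_fac] at this
    have h2 := congrArg U.topIso.hom this
    rw [map_zero, ← CommRingCat.comp_apply, Scheme.Opens.ι_appTop, Scheme.Opens.topIso_hom] at h2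
    rw [← Functor.map_comp] at h2
    exact h2
  refine X₁.sheaf.eq_of_locally_eq' O ⊤ (fun c => homOfLE le_top) hcov _ _ fun c => ?_
  rw [map_zero]
  cases c
  · exact hzero (at'.j ⟨y, hy⟩) h₂
  · exact hzero (at'.j ⟨x, hx⟩) h₁

/-- The two charts restrict to the same map on the overlap. -/
theorem overlap_eq (at' : Atlas J b) (hX : IsPullback gX b₁ b (Spec.map (CommRingCat.ofHom θ)))
    (hy : y ∈ J) (hx : x ∈ J) (hJ : J = Ideal.span {x, y})
    (γ₁ : BlowUp.affineAlgebra A₀ J x →+* A[X] ⧸ kerA x θ hy)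
    (γ₂ : BlowUp.affineAlgebra A₀ J y →+* A[X] ⧸ kerA y θ hx)
    (j₁ : Spec (CommRingCat.of (A[X] ⧸ kerA x θ hy)) ⟶ X₁)
    (j₂ : Spec (CommRingCat.of (A[X] ⧸ kerA y θ hx)) ⟶ X₁)
    (hγ₁ : γ₁.comp (toChart x hy) = (Ideal.Quotient.mk _).comp (Polynomial.mapRingHom θ))
    (hγ₂ : γ₂.comp (toChart y hx) = (Ideal.Quotient.mk _).comp (Polynomial.mapRingHom θ))
    (hj₁X : j₁ ≫ gX = Spec.map (CommRingCat.ofHom γ₁) ≫ at'.j ⟨x, hx⟩)
    (hj₂X : j₂ ≫ gX = Spec.map (CommRingCat.ofHom γ₂) ≫ at'.j ⟨y, hy⟩)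
    (hj₁A : j₁ ≫ b₁ = Spec.map (CommRingCat.ofHom ((Ideal.Quotient.mk _).comp Polynomial.C)))
    (hj₂A : j₂ ≫ b₁ = Spec.map (CommRingCat.ofHom ((Ideal.Quotient.mk _).comp Polynomial.C)))
    {B₁₂ : Type u} [CommRing B₁₂] (φ₁₂ : A[T;T⁻¹] →+* B₁₂)
    (r₁ : A[X] ⧸ kerA x θ hy →+* B₁₂) (r₂ : A[X] ⧸ kerA y θ hx →+* B₁₂)
    (hr₁ : ∀ P, r₁ (Ideal.Quotient.mk _ P) = φ₁₂ (toLaurent P))
    (hr₂ : ∀ P, r₂ (Ideal.Quotient.mk _ P) = φ₁₂ (invert (toLaurent P))) :
    Spec.map (CommRingCat.ofHom r₁) ≫ j₁ = Spec.map (CommRingCat.ofHom r₂) ≫ j₂ := by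
  have htx : γ₁ (frac J x y hy) = Ideal.Quotient.mk _ Polynomial.X := by
    rw [← toChart_X (x := x) hy, ← RingHom.comp_apply γ₁, hγ₁]
    simp
  have hty : γ₂ (frac J y x hx) = Ideal.Quotient.mk _ Polynomial.X := by
    rw [← toChart_X (x := y) hx, ← RingHom.comp_apply γ₂, hγ₂]
    simp
  have hT : IsUnit ((r₁.comp γ₁) (frac J x y hy)) := by
    rw [RingHom.comp_apply, htx, hr₁, toLaurent_X]
    exact (isUnit_T 1).map φ₁₂
  let γ₁₂ : Overlap x hy →+* B₁₂ := IsLocalization.Away.lift (frac J x y hy) hT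
  have e₁ : γ₁₂.comp (algebraMap _ (Overlap x hy)) = r₁.comp γ₁ :=
    RingHom.ext fun c => IsLocalization.Away.lift_eq (frac J x y hy) hT c
  obtain ⟨ψ, hψ, hψt⟩ := exists_overlap_hom hy hx
  have hψγ : γ₁₂.comp ψ = r₂.comp γ₂ := by
    have key : (γ₁₂.comp ψ).comp (toChart y hx) = (r₂.comp γ₂).comp (toChart y hx) := by
      refine Polynomial.ringHom_ext (fun a => ?_) ?_
      · simp only [RingHom.comp_apply]
        rw [show γ₂ (toChart y hx (Polynomial.C a)) = _ from RingHom.congr_fun hγ₂ _, toChart_C,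
          show ψ (algebraMap A₀ _ a) = _ from RingHom.congr_fun hψ a, overlapBase,
          RingHom.comp_apply, ← RingHom.comp_apply γ₁₂, e₁, RingHom.comp_apply, ← toChart_C (x := x) hy,
          show γ₁ (toChart x hy (Polynomial.C a)) = _ from RingHom.congr_fun hγ₁ _,
          RingHom.comp_apply, RingHom.comp_apply, hr₁, hr₂]
        simp
      · simp only [RingHom.comp_apply, toChart_X]
        rw [hty, hr₂, toLaurent_X, invert_T]
        have h1 : γ₁₂ (ψ (frac J y x hx)) * φ₁₂ (T 1) = 1 := by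
          have := congrArg γ₁₂ hψt
          rwa [map_mul, map_one, ← RingHom.comp_apply γ₁₂ (algebraMap _ _), e₁, RingHom.comp_apply,
            htx, hr₁, toLaurent_X] at this
        have h2 : φ₁₂ (T (-1)) * φ₁₂ (T 1) = 1 := by
          rw [← map_mul, ← T_add]; exact (congrArg φ₁₂ T_zero).trans (map_one _)
        exact left_inv_eq_right_inv h1 ((mul_comm _ _).trans h2)
    refine RingHom.ext fun c => ?_
    obtain ⟨R, rfl⟩ := toChart_surjective (x := y) hx (hJ.trans (by rw [Set.pair_comm])) c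
    exact RingHom.congr_fun key R
  have hbase : Spec.map (CommRingCat.ofHom (algebraMap _ (Overlap x hy))) ≫ at'.j ⟨x, hx⟩ =
      Spec.map (CommRingCat.ofHom ψ) ≫ at'.j ⟨y, hy⟩ := by
    have e : (Spec.map (CommRingCat.ofHom (algebraMap _ (Overlap x hy))) ≫ at'.j ⟨x, hx⟩) ≫ b =
        Spec.map (CommRingCat.ofHom (overlapBase x hy)) := by
      rw [Category.assoc, at'.fac, chartBase, ← Spec.map_comp, ← CommRingCat.ofHom_comp]
      rfl
    refine at'.hom_ext ?_ ?_
    · rw [e, Category.assoc, at'.fac, chartBase, ← Spec.map_comp, ← CommRingCat.ofHom_comp, hψ]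
    · rw [e, comap_sheafOf_Spec, overlapBase, ← Ideal.map_map, map_eq_span hx, Ideal.map_span,
        Set.image_singleton, ← RingHom.comp_apply]
      exact isEffCartierIdeal_sheafOf_span (overlapBase_mem_nonZeroDivisors x hy)
  refine hX.hom_ext ?_ ?_
  · rw [Category.assoc, Category.assoc, hj₁X, hj₂X, ← Spec.map_comp_assoc,
      ← Spec.map_comp_assoc, ← CommRingCat.ofHom_comp, ← CommRingCat.ofHom_comp, ← e₁, ← hψγ,
      CommRingCat.ofHom_comp, CommRingCat.ofHom_comp, Spec.map_comp_assoc, Spec.map_comp_assoc,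
      hbase]
  · rw [Category.assoc, Category.assoc, hj₁A, hj₂A, ← Spec.map_comp, ← Spec.map_comp,
      ← CommRingCat.ofHom_comp, ← CommRingCat.ofHom_comp]
    congr 2
    ext a
    simp [hr₁, hr₂]

/-- Functions on base changes of the blow-up in two equations, up to a bounded Frobenius twist. -/
theorem exists_bound [IsNoetherianRing A₀] (hb : BlowUp.IsBlowUp b (sheafOf J)) (hx : x ∈ J)
    (hy : y ∈ J) (hJ : J = Ideal.span {x, y}) :
    ∃ M : ℕ, ∀ (p : ℕ), p.Prime → ∀ {A : Type u} [CommRing A] (θ : A₀ →+* A), (p : A) = 0 →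
      ∀ {X₁ : Scheme.{u}} (gX : X₁ ⟶ X') (b₁ : X₁ ⟶ Spec (CommRingCat.of A)),
        IsPullback gX b₁ b (Spec.map (CommRingCat.ofHom θ)) →
        (∀ a ∈ J.map θ, phi b₁ ⊤ a = 0 → a ^ p ^ M = 0) ∧
        ∀ v : Γ(X₁, ⊤), (∀ (W : Scheme.{u}) (m : W ⟶ X₁),
          J ≤ RingHom.ker (phi (m ≫ b₁ ≫ Spec.map (CommRingCat.ofHom θ)) ⊤) → m.appTop v = 0) →
          ∃ a ∈ J.map θ, phi b₁ ⊤ a = v ^ p ^ M := by
  obtain ⟨at'⟩ := nonempty_atlas_of_isBlowUp hb
  obtain ⟨m₁, hm₁⟩ := exists_uniform_torsion (x := x) hy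
  obtain ⟨m₂, hm₂⟩ := exists_uniform_torsion (x := y) hx
  let n := max m₁ m₂
  have up : ∀ {R : Type u} [CommRing R] {I : Ideal R} {t e : R} {k : ℕ},
      t ^ k * e ∈ I → k ≤ n → t ^ n * e ∈ I := by
    intro R _ I t e k h hk
    obtain ⟨d, hd⟩ := Nat.exists_eq_add_of_le hk
    rw [hd, pow_add, mul_right_comm]
    exact I.mul_mem_right _ h
  refine ⟨2 * (n + 1), fun p hp A _ θ hpA X₁ gX b₁ hX => ?_⟩
  haveI := Fact.mk hp
  obtain ⟨γ₁, j₁, hγ₁, hj₁X, hj₁A, k₁, hk₁⟩ := exists_chart at' hX hy hx hJ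
  obtain ⟨γ₂, j₂, hγ₂, hj₂X, hj₂A, k₂, hk₂⟩ :=
    exists_chart at' hX hx hy (hJ.trans (by rw [Set.pair_comm]))
  set φ₁ : A[X] →+* A[X] ⧸ kerA x θ hy := Ideal.Quotient.mk _
  set φ₂ : A[X] →+* A[X] ⧸ kerA y θ hx := Ideal.Quotient.mk _
  have h₁ : ∀ P, φ₁ P = 0 → Polynomial.C (θ x) ^ n * P ∈ I₁ (θ x) (θ y) := fun P hP =>
    up (torsion_kerA x θ hy hm₁ (Ideal.mul_mem_mul (Ideal.mem_span_singleton_self _)
      (Ideal.Quotient.eq_zero_iff_mem.mp hP))) (le_max_left _ _)
  have h₂ : ∀ P, φ₂ P = 0 → Polynomial.C (θ y) ^ n * P ∈ I₁ (θ y) (θ x) := fun P hP =>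
    up (torsion_kerA y θ hx hm₂ (Ideal.mul_mem_mul (Ideal.mem_span_singleton_self _)
      (Ideal.Quotient.eq_zero_iff_mem.mp hP))) (le_max_right _ _)
  have hmapJ : J.map θ = Ideal.span {θ x, θ y} := by
    rw [hJ, Ideal.map_span, Set.image_pair]
  have hle : 2 * (n + 1) ≤ p ^ (2 * (n + 1)) := (Nat.lt_pow_self hp.one_lt).le
  constructor
  · intro a ha h0
    have e₁ : φ₁ (Polynomial.C a) = 0 :=
      (sec_phi j₁ b₁ hj₁A a).symm.trans (by rw [h0, map_zero])
    have e₂ : φ₂ (Polynomial.C a) = 0 :=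
      (sec_phi j₂ b₁ hj₂A a).symm.trans (by rw [h0, map_zero])
    have := pow_eq_zero_of_charts φ₁ φ₂ h₁ h₂ (hmapJ ▸ ha) e₁ e₂ le_rfl
    exact pow_eq_zero_of_le ((by omega : (n + 1) * 2 ≤ 2 * (n + 1)).trans hle) this
  intro v hv
  have hφ₁ : φ₁ (Polynomial.C (θ x) * Polynomial.X - Polynomial.C (θ y)) = 0 :=
    Ideal.Quotient.eq_zero_iff_mem.mpr (eqn_mem_kerA x θ hy)
  have hφ₂ : φ₂ (Polynomial.C (θ y) * Polynomial.X - Polynomial.C (θ x)) = 0 :=
    Ideal.Quotient.eq_zero_iff_mem.mpr (eqn_mem_kerA y θ hx)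
  obtain ⟨W₁, hW₁⟩ := exists_divisor φ₁ Ideal.Quotient.mk_surjective x y j₁ hj₁A hφ₁ hJ v hv
  obtain ⟨W₂, hW₂⟩ := exists_divisor φ₂ Ideal.Quotient.mk_surjective y x j₂ hj₂A hφ₂
    (hJ.trans (by rw [Set.pair_comm])) v hv
  let K₁₂ := (kerA x θ hy).map toLaurent
  let φ₁₂ : A[T;T⁻¹] →+* A[T;T⁻¹] ⧸ K₁₂ := Ideal.Quotient.mk _
  let r₁ : A[X] ⧸ kerA x θ hy →+* A[T;T⁻¹] ⧸ K₁₂ :=
    Ideal.Quotient.lift _ (φ₁₂.comp toLaurent) fun P hP =>
      Ideal.Quotient.eq_zero_iff_mem.mpr (Ideal.mem_map_of_mem _ hP)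
  let r₂ : A[X] ⧸ kerA y θ hx →+* A[T;T⁻¹] ⧸ K₁₂ := Ideal.Quotient.lift _
    (φ₁₂.comp ((invert (R := A)).toRingEquiv.toRingHom.comp toLaurent)) fun P hP =>
      Ideal.Quotient.eq_zero_iff_mem.mpr (invert_mem_kerA hy hx θ P hP)
  have hoverlap := overlap_eq at' hX hy hx hJ γ₁ γ₂ j₁ j₂ hγ₁ hγ₂ hj₁X hj₂X hj₁A hj₂A φ₁₂ r₁ r₂
    (fun P => rfl) (fun P => rfl)
  have hW : r₁ (φ₁ (Polynomial.C (θ x) * W₁)) = r₂ (φ₂ (Polynomial.C (θ y) * W₂)) := by
    rw [← hW₁, ← hW₂, ← RingHom.comp_apply, ← RingHom.comp_apply, ← sec_comp, ← sec_comp, hoverlap]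
  obtain ⟨a, ha, ha₁, ha₂⟩ := exists_glue φ₁ φ₂ φ₁₂ r₁ r₂ (m := n) hpA hφ₁ hφ₂
    (fun L hL => up (torsion_laurent x θ hy hm₁ L (Ideal.Quotient.eq_zero_iff_mem.mp hL))
      (le_max_left _ _)) (fun P => rfl) (fun P => rfl) W₁ W₂ hW (2 * (n + 1))
    ((by omega : n + 1 ≤ 2 * (n + 1)).trans hle)
  refine ⟨a, hmapJ ▸ ha, sub_eq_zero.mp (eq_zero_of_charts (gX := gX) at' hy hx hJ ?_ ?_)⟩
  · rw [← hk₁, Scheme.Hom.comp_appTop, CommRingCat.comp_apply, appTop_eq_zero_of_sec j₁ ?_, map_zero]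
    rw [map_sub, map_pow, hW₁, sec_phi j₁ b₁ hj₁A]
    exact sub_eq_zero.mpr ha₁
  · rw [← hk₂, Scheme.Hom.comp_appTop, CommRingCat.comp_apply, appTop_eq_zero_of_sec j₂ ?_, map_zero]
    rw [map_sub, map_pow, hW₂, sec_phi j₂ b₁ hj₂A]
    exact sub_eq_zero.mpr ha₂

end Geometry

end Groth.HTopHyper.TwoChart
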