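import Groth.Prelude.Def_W4stkflatFrob
import Groth.Agent.HTopHyper.HSheafAlmostBlowUp
import Groth.Agent.HTopHyper.TwoChartBlowUp
import Mathlib.AlgebraicGeometry.Sites.Fpqc

/-! # The Frobenius limit of global sections is an h sheaf -/

set_option autoImplicit false
set_option backward.isDefEq.respectTransparency false

universe u

open CategoryTheory CategoryTheory.Limits AlgebraicGeometry Opposite Groth.BlowUpBasics

namespace Groth.HTopHyper.FrobLim

/-! ## Descent of functions -/

/-- The coordinate ring of the affine line. -/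
abbrev R₁ : Type u := Polynomial (ULift.{u} ℤ)

theorem ringHom_ulift_ext {R : Type u} [CommRing R] (f g : ULift.{u} ℤ →+* R) : f = g := by
  refine RingHom.ext fun n => ?_
  exact RingHom.congr_fun (RingHom.ext_int (f.comp ULift.ringEquiv.symm.toRingHom)
    (g.comp ULift.ringEquiv.symm.toRingHom)) n.down

/-- Global functions as morphisms to the affine line. -/
noncomputable def toLine {V : Scheme.{u}} (s : Γ(V, ⊤)) : V ⟶ Spec (CommRingCat.of R₁.{u}) :=
  V.toSpecΓ ≫ Spec.map (CommRingCat.ofHom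
    (Polynomial.eval₂RingHom ((Int.castRingHom _).comp ULift.ringEquiv.toRingHom) s))

theorem phi_toLine {V : Scheme.{u}} (s : Γ(V, ⊤)) : phi (toLine s) ⊤ Polynomial.X = s := by
  rw [toLine, TwoChart.phi_toSpec]
  exact Polynomial.eval₂_X _ _

theorem line_ext {V : Scheme.{u}} {g g' : V ⟶ Spec (CommRingCat.of R₁.{u})}
    (h : phi g ⊤ Polynomial.X = phi g' ⊤ Polynomial.X) : g = g' :=
  TwoChart.hom_ext_phi (Polynomial.ringHom_ext (fun a => RingHom.congr_fun
    (ringHom_ulift_ext ((phi g ⊤).comp Polynomial.C) ((phi g' ⊤).comp Polynomial.C)) a) h)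

/-- Functions descend along flat quasi-compact surjections. -/
theorem existsUnique_descent {U V : Scheme.{u}} (f : V ⟶ U) [QuasiCompact f] [Surjective f] [Flat f]
    (s : Γ(V, ⊤))
    (hs : ∀ (T : Scheme.{u}) (a b : T ⟶ V), a ≫ f = b ≫ f → a.appTop s = b.appTop s) :
    ∃! a : Γ(U, ⊤), f.appTop a = s := by
  have hcompat : ∀ {Z : Scheme.{u}} (a b : Z ⟶ V), a ≫ f = b ≫ f →
      a ≫ toLine s = b ≫ toLine s := fun a b hab => line_ext (by
    rw [TwoChart.phi_precomp, TwoChart.phi_precomp, RingHom.comp_apply, RingHom.comp_apply,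
      phi_toLine]
    exact hs _ a b hab)
  refine ⟨phi (EffectiveEpi.desc f (toLine s) hcompat) ⊤ Polynomial.X, ?_, fun a ha => ?_⟩
  · show f.appTop.hom.comp (phi _ ⊤) Polynomial.X = s
    rw [← TwoChart.phi_precomp, EffectiveEpi.fac, phi_toLine]
  · rw [← EffectiveEpi.uniq f (toLine s) hcompat (toLine a) (line_ext (by
      rw [TwoChart.phi_precomp, RingHom.comp_apply, phi_toLine, phi_toLine]; exact ha)), phi_toLine]

variable {p : ℕ} {S : Scheme.{u}}

theorem map_val {X Y : Over S} (f : Y ⟶ X) (a : (HTop.frobLimPresheaf p S).obj (op X)) (n : ℕ) :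
    ((HTop.frobLimPresheaf p S).map f.op a).1 n = f.left.appTop (a.1 n) := rfl

theorem pow_shift {X : Scheme.{u}} (a : HTop.FrobLimSections p X) (n : ℕ) :
    ∀ k, a.1 (n + k) ^ p ^ k = a.1 n
  | 0 => by simp
  | k + 1 => by rw [← add_assoc, pow_succ', pow_mul, a.2, pow_shift a n k]

theorem flatProperCond : HSheafABU.FlatProperCond (HTop.frobLimPresheaf p S) := by
  intro V U f hU hs hfl hp hf
  rw [← Presieve.ofArrows_pUnit.{0}, Presieve.isSheafFor_arrows_iff]
  intro x hx
  have hcompat : ∀ n (T : Scheme.{u}) (a b : T ⟶ V.left), a ≫ f.left = b ≫ f.left →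
      a.appTop ((x PUnit.unit).1 n) = b.appTop ((x PUnit.unit).1 n) := by
    intro n T a b hab
    let T' : Over S := Over.mk (a ≫ V.hom)
    let a' : T' ⟶ V := Over.homMk a rfl
    let b' : T' ⟶ V := Over.homMk b (by
      show b ≫ V.hom = a ≫ V.hom
      rw [← Over.w f, reassoc_of% hab])
    have := congrArg (fun z => z.1 n)
      (hx PUnit.unit PUnit.unit T' a' b' (Over.OverMorphism.ext hab))
    exact this
  choose a ha hu using fun n => existsUnique_descent f.left _ (hcompat n)
  refine ⟨⟨a, fun n => hu n _ ?_⟩, fun i => ?_, fun y hy => ?_⟩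
  · show f.left.appTop (a (n + 1) ^ p) = _
    rw [map_pow, ha (n + 1), (x PUnit.unit).2 n]
  · cases i
    exact HTop.FrobLimSections.ext fun n => ha n
  · exact HTop.FrobLimSections.ext fun n =>
      hu n _ (congrArg (fun z => z.1 n) (hy PUnit.unit))

theorem natCast_eq_zero (hS : (p : Γ(S, ⊤)) = 0) (X : Over S) : (p : Γ(X.left, ⊤)) = 0 := by
  rw [← map_natCast X.hom.appTop.hom p, hS, map_zero]

theorem appTop_comp_apply {X Y Z : Scheme.{u}} (f : X ⟶ Y) (g : Y ⟶ Z) (a : Γ(Z, ⊤)) :
    (f ≫ g).appTop a = f.appTop (g.appTop a) := by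
  rw [Scheme.Hom.comp_appTop, CommRingCat.comp_apply]

theorem twoCover [Fact p.Prime] (hF : Presieve.IsSheaf (Scheme.zariskiTopology.over S)
    (HTop.frobLimPresheaf p S)) (hS : (p : Γ(S, ⊤)) = 0) :
    HSheafABU.TwoCover (HTop.frobLimPresheaf p S) := by
  intro A₀ _ _ f₁ f₂ X' b hb
  set J := Ideal.span {f₁, f₂} with hJ
  obtain ⟨M, hM⟩ := TwoChart.exists_bound hb (Ideal.subset_span (by simp)) (Ideal.subset_span (by simp)) hJ
  let i := Spec.map (CommRingCat.ofHom (Ideal.Quotient.mk J))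
  haveI : IsClosedImmersion i := IsClosedImmersion.spec_of_surjective _ Ideal.Quotient.mk_surjective
  refine HSheafABU.pair_mem hF i b fun T hT c => ?_
  let θ := phi c ⊤
  let iZ : (HSheafABU.pbOver i T c).left ⟶ T.left := pullback.snd i c
  let sX : (HSheafABU.pbOver b T c).left ⟶ T.left := pullback.snd b c
  haveI : IsClosedImmersion iZ := MorphismProperty.pullback_snd _ _ ‹IsClosedImmersion i›
  have hp0 := natCast_eq_zero hS T
  have hp1 := natCast_eq_zero hS (HSheafABU.pbOver b T c)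
  let e := T.left.isoSpec
  have hc : c = e.hom ≫ Spec.map (CommRingCat.ofHom θ) := TwoChart.eq_toSpec c
  let b₁ := sX ≫ e.hom
  have hX : IsPullback (pullback.fst b c) b₁ b (Spec.map (CommRingCat.ofHom θ)) :=
    (IsPullback.of_hasPullback b c).of_iso (Iso.refl _) (Iso.refl _) e (Iso.refl _)
      (by simp) (by simp [b₁, sX]) (by simp) (by simpa using hc)
  obtain ⟨hinj, hsurj⟩ := hM p Fact.out θ hp0 (pullback.fst b c) b₁ hX
  have hphi : ∀ a, phi b₁ ⊤ a = sX.appTop a := fun a => by
    rw [TwoChart.phi_precomp, RingHom.comp_apply]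
    congr 1
    have := TwoChart.phi_toSpec (Y := T.left) (RingHom.id Γ(T.left, ⊤))
    rw [show CommRingCat.ofHom (RingHom.id Γ(T.left, ⊤)) = 𝟙 _ from rfl, Spec.map_id] at this
    erw [Category.comp_id] at this
    exact RingHom.congr_fun this a
  have hker : ∀ a, iZ.appTop a = 0 ↔ a ∈ J.map θ := by
    intro a
    have h : iZ.ker = (sheafOf J).comap c :=
      (ker_baseChange (IsPullback.of_hasPullback i c)).trans
        (congrArg (fun I : (Spec (CommRingCat.of A₀)).IdealSheafData => I.comap c)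
          (HSheafABU.ker_SpecMap_mk J))
    have h' := congrArg (fun I : T.left.IdealSheafData => I.ideal ⟨⊤, isAffineOpen_top _⟩) h
    simp only [ideal_comap_sheafOf] at h'
    rw [Scheme.Hom.ker_apply] at h'
    rw [← RingHom.mem_ker]
    exact Iff.of_eq (congrArg (fun I => a ∈ I) h')
  have hsZ : Function.Surjective iZ.appTop := iZ.app_surjective ⊤ (isAffineOpen_top _)
  set q := p ^ M with hq
  -- uniqueness up to the twist
  have huniq : ∀ a a', iZ.appTop a = iZ.appTop a' → sX.appTop a = sX.appTop a' → a ^ q = a' ^ q := by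
    intro a a' h₁ h₂
    refine sub_eq_zero.mp ?_
    rw [← TwoChart.sub_pow_p p hp0]
    exact hinj _ ((hker _).mp (by rw [map_sub, h₁, sub_self]))
      ((hphi _).trans (by rw [map_sub, h₂, sub_self]))
  rw [Presieve.isSheafFor_arrows_iff]
  intro x hx
  let u : ℕ → Γ((HSheafABU.pbOver i T c).left, ⊤) := (x true).1
  let v : ℕ → Γ((HSheafABU.pbOver b T c).left, ⊤) := (x false).1
  have hex : ∀ n, ∃ γ, iZ.appTop γ = u n ∧ sX.appTop γ = v n := by
    intro n
    obtain ⟨α, hα⟩ := hsZ (u (n + M))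
    obtain ⟨a, ha, ha'⟩ := hsurj (v (n + M) - sX.appTop α) fun W m hm => by
      have hm' : J ≤ RingHom.ker (phi (m ≫ sX ≫ c) ⊤) := by
        rw [show m ≫ sX ≫ c = m ≫ b₁ ≫ Spec.map (CommRingCat.ofHom θ) by
          simp only [b₁, hc, Category.assoc]]
        exact hm
      obtain ⟨l, hl⟩ := HSheafABU.exists_factor _ hm'
      let W' : Over S := Over.mk (m ≫ (HSheafABU.pbOver b T c).hom)
      let gj : W' ⟶ HSheafABU.pbOver b T c := Over.homMk m rfl
      have hl' : l ≫ i = (m ≫ sX) ≫ c := hl.trans (Category.assoc _ _ _).symm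
      let gi : W' ⟶ HSheafABU.pbOver i T c := Over.homMk (pullback.lift l (m ≫ sX) hl') (by
        simp [W', HSheafABU.pbOver, sX])
      have hgi : gi.left ≫ iZ = m ≫ sX := pullback.lift_snd _ _ _
      have hxn : gi.left.appTop (u (n + M)) = m.appTop (v (n + M)) := congrArg (fun z => z.1 (n + M))
        (hx true false W' gi gj (Over.OverMorphism.ext hgi))
      rw [map_sub, ← hxn, ← hα]
      exact sub_eq_zero.mpr ((appTop_comp_apply gi.left iZ α).symm.trans
        ((congrArg (fun k : W ⟶ T.left => k.appTop α) hgi).trans (appTop_comp_apply m sX α)))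
    refine ⟨α ^ q + a, ?_, ?_⟩
    · rw [map_add, map_pow, hα, (hker a).mpr ha, add_zero]
      exact pow_shift (x true) n M
    · rw [map_add, map_pow, show sX.appTop a = (v (n + M) - sX.appTop α) ^ q from
        (hphi a).symm.trans ha', TwoChart.sub_pow_p p hp1, add_sub_cancel]
      exact pow_shift (x false) n M
  choose γ hγZ hγX using hex
  refine ⟨⟨fun n => γ (n + M) ^ q, fun n => ?_⟩, fun k => ?_, fun y hy => ?_⟩
  · show (γ (n + 1 + M) ^ q) ^ p = γ (n + M) ^ q
    rw [← pow_mul, mul_comm, pow_mul, show n + 1 + M = n + M + 1 by omega]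
    refine huniq _ _ ?_ ?_
    · rw [map_pow, hγZ, hγZ]; exact (x true).2 _
    · rw [map_pow, hγX, hγX]; exact (x false).2 _
  · cases k
    · refine HTop.FrobLimSections.ext fun n => ?_
      show sX.appTop (γ (n + M) ^ q) = v n
      rw [map_pow, hγX]
      exact pow_shift (x false) n M
    · refine HTop.FrobLimSections.ext fun n => ?_
      show iZ.appTop (γ (n + M) ^ q) = u n
      rw [map_pow, hγZ]
      exact pow_shift (x true) n M
  · refine HTop.FrobLimSections.ext fun n => ?_
    show y.1 n = γ (n + M) ^ q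
    rw [← pow_shift y n M]
    refine huniq _ _ ?_ ?_
    · rw [hγZ]; exact congrArg (fun z => z.1 (n + M)) (hy true)
    · rw [hγX]; exact congrArg (fun z => z.1 (n + M)) (hy false)

theorem isSheaf_zariski :
    Presieve.IsSheaf (Scheme.zariskiTopology.over S) (HTop.frobLimPresheaf p S) := by
  intro Y R hR x hx
  rw [GrothendieckTopology.mem_over_iff] at hR
  have hline : Presieve.IsSheafFor (yoneda.obj (Spec (CommRingCat.of R₁.{u})))
      (Sieve.overEquiv Y R).arrows :=
    GrothendieckTopology.Subcanonical.isSheaf_of_isRepresentable _ _ hR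
  -- the value of the family on a member
  let val : ∀ ⦃Z : Scheme.{u}⦄ (m : Z ⟶ Y.left), Sieve.overEquiv Y R m → ℕ → Γ(Z, ⊤) :=
    fun Z m hm => (x (Over.homMk m : Over.mk (m ≫ Y.hom) ⟶ Y) ((Sieve.overEquiv_iff R m).mp hm)).1
  have hval : ∀ ⦃Z : Over S⦄ (f : Z ⟶ Y) (hf : R f) (hf' : Sieve.overEquiv Y R f.left) (n : ℕ),
      val f.left hf' n = (x f hf).1 n := by
    intro Z f hf hf' n
    let e : Z ⟶ Over.mk (f.left ≫ Y.hom) := Over.homMk (𝟙 _) (by simp)
    have h := congrArg (fun z => z.1 n) (hx e (𝟙 Z) ((Sieve.overEquiv_iff R f.left).mp hf') hf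
      (Over.OverMorphism.ext (by simp [e])))
    simp only [op_id, Functor.map_id] at h
    refine Eq.trans ?_ h
    show _ = (𝟙 Z.left : Z.left ⟶ Z.left).appTop (val f.left hf' n)
    simp
  have hglue : ∀ n, ∃! a : Γ(Y.left, ⊤),
      ∀ ⦃Z : Scheme.{u}⦄ (m : Z ⟶ Y.left) (hm : Sieve.overEquiv Y R m),
        m.appTop a = val m hm n := by
    intro n
    let fam : Presieve.FamilyOfElements (yoneda.obj (Spec (CommRingCat.of R₁.{u})))
        (Sieve.overEquiv Y R).arrows := fun Z m hm => toLine (val m hm n)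
    have hfam : fam.Compatible := by
      intro Z₁ Z₂ W g₁ g₂ m₁ m₂ h₁ h₂ hw
      show g₁ ≫ toLine _ = g₂ ≫ toLine _
      refine line_ext ?_
      rw [TwoChart.phi_precomp, TwoChart.phi_precomp, RingHom.comp_apply, RingHom.comp_apply,
        phi_toLine, phi_toLine]
      let W' : Over S := Over.mk (g₁ ≫ m₁ ≫ Y.hom)
      exact congrArg (fun z => z.1 n) (hx
        (Over.homMk g₁ : W' ⟶ Over.mk (m₁ ≫ Y.hom))
        (Over.homMk g₂ (by simp [W', ← reassoc_of% hw]) : W' ⟶ Over.mk (m₂ ≫ Y.hom))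
        ((Sieve.overEquiv_iff R m₁).mp h₁) ((Sieve.overEquiv_iff R m₂).mp h₂)
        (Over.OverMorphism.ext hw))
    obtain ⟨g, hg, hu⟩ := hline fam hfam
    refine ⟨phi g ⊤ Polynomial.X, fun Z m hm => ?_, fun a ha => ?_⟩
    · show m.appTop.hom.comp (phi g ⊤) Polynomial.X = _
      rw [← TwoChart.phi_precomp, show m ≫ g = toLine _ from hg m hm, phi_toLine]
    · rw [← hu (toLine a) fun Z m hm => line_ext (show phi (m ≫ toLine a) ⊤ _ = phi (toLine _) ⊤ _ by
        rw [TwoChart.phi_precomp, RingHom.comp_apply, phi_toLine, phi_toLine]; exact ha m hm),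
        phi_toLine]
  choose a ha hu using hglue
  refine ⟨⟨a, fun n => hu n _ fun Z m hm => ?_⟩, fun Z f hf => ?_, fun y hy => ?_⟩
  · show m.appTop (a (n + 1) ^ p) = _
    rw [map_pow, ha (n + 1) m hm]
    exact (x (Over.homMk m : Over.mk (m ≫ Y.hom) ⟶ Y) _).2 n
  · refine HTop.FrobLimSections.ext fun n => ?_
    have hf' : Sieve.overEquiv Y R f.left := by
      rw [Sieve.overEquiv_iff]
      convert R.downward_closed hf
        (Over.homMk (𝟙 _) (by simp) : Over.mk (f.left ≫ Y.hom) ⟶ Z) using 1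
      exact Over.OverMorphism.ext (by simp)
    exact (ha n f.left hf').trans (hval f hf hf' n)
  · refine HTop.FrobLimSections.ext fun n => hu n _ fun Z m hm => ?_
    exact congrArg (fun z => z.1 n)
      (hy (Over.homMk m : Over.mk (m ≫ Y.hom) ⟶ Y) ((Sieve.overEquiv_iff R m).mp hm))

theorem isSheaf_Jh [Fact p.Prime] (hS : (p : Γ(S, ⊤)) = 0) :
    Presieve.IsSheaf (HTop.Jh S) (HTop.frobLimPresheaf p S) :=
  isSheaf_Jh_iff.mpr ⟨isSheaf_zariski, HSheafABU.sheafForProperSurjective isSheaf_zariski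
    flatProperCond (twoCover isSheaf_zariski hS)⟩

end Groth.HTopHyper.FrobLim
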