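import Groth.Agent.HTopHyper.HFinitePresentation
import Groth.Agent.HTopHyper.SquareSheaf
import Mathlib.AlgebraicGeometry.Sites.BigZariski
import Mathlib.CategoryTheory.Sites.Canonical

/-! Sheaves on the big h site: the Zariski and proper surjective criterion. -/

set_option autoImplicit false
set_option backward.isDefEq.respectTransparency false

universe w v u

open CategoryTheory CategoryTheory.Limits AlgebraicGeometry Opposite

namespace Groth.HTopHyper

variable {S : Scheme.{u}} (F : (Over S)ᵒᵖ ⥤ Type v)

/-- The affine opens of an object over `S`. -/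
noncomputable def affOver (Y : Over S) (U : Y.left.affineOpens) : Over S :=
  Over.mk ((U : Y.left.Opens).ι ≫ Y.hom)

noncomputable def affIncl (Y : Over S) (U : Y.left.affineOpens) : affOver Y U ⟶ Y :=
  Over.homMk (U : Y.left.Opens).ι rfl

theorem affines_mem_zariski (Y : Over S) :
    Sieve.ofArrows (affOver Y) (affIncl Y) ∈ (Scheme.zariskiTopology.over S) Y := by
  rw [GrothendieckTopology.mem_over_iff, Sieve.overEquiv_ofArrows]
  exact (Y.left.openCoverOfIsOpenCover (fun U : Y.left.affineOpens => (U : Y.left.Opens))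
    (iSup_affineOpens_eq_top Y.left)).mem_grothendieckTopology

variable {F}

/-- For a Zariski sheaf the sheaf property of a sieve can be tested after base change to affines. -/
theorem isSheafFor_of_affine_pullbacks
    (hF : Presieve.IsSheaf (Scheme.zariskiTopology.over S) F) {Y : Over S} (T : Sieve Y)
    (H : ∀ (A : Over S) (a : A ⟶ Y), IsAffine A.left → Presieve.IsSheafFor F (T.pullback a).arrows) :
    Presieve.IsSheafFor F T.arrows := by
  have sep : ∀ {Y' : Over S} (g : Y' ⟶ Y) (s t : F.obj (op Y')),
      (∀ ⦃Z : Over S⦄ (f : Z ⟶ Y'), T (f ≫ g) → F.map f.op s = F.map f.op t) → s = t := by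
    intro Y' g s t h
    refine (hF _ (affines_mem_zariski Y')).isSeparatedFor.ext fun Z f hf => ?_
    obtain ⟨U, a, rfl⟩ := (Sieve.mem_ofArrows_iff _ _ _).mp hf
    have key : F.map (affIncl Y' U).op s = F.map (affIncl Y' U).op t := by
      refine (H _ (affIncl Y' U ≫ g) U.2).isSeparatedFor.ext fun W e he => ?_
      rw [← map_over, ← map_over]
      exact h _ (by rw [Category.assoc]; exact he)
    rw [map_over, map_over, key]
  intro x hx
  have hU : ∀ U : Y.left.affineOpens, ∃ t : F.obj (op (affOver Y U)),
      ∀ ⦃Z : Over S⦄ (e : Z ⟶ affOver Y U) (he : T (e ≫ affIncl Y U)),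
        F.map e.op t = x (e ≫ affIncl Y U) he := fun U => by
    obtain ⟨t, ht, -⟩ := H _ (affIncl Y U) U.2
      (fun Z e he => x (e ≫ affIncl Y U) he)
      (fun Z₁ Z₂ W g₁ g₂ f₁ f₂ h₁ h₂ e =>
        hx g₁ g₂ h₁ h₂ (by rw [reassoc_of% e]))
    exact ⟨t, ht⟩
  choose t ht using hU
  have hz := (Presieve.isSheafFor_arrows_iff F (affIncl Y)).mp
    ((Presieve.isSheafFor_iff_generate _).mpr (hF _ (affines_mem_zariski Y)))
  obtain ⟨s, hs, -⟩ := hz t fun U V W a b hab => sep (a ≫ affIncl Y U) _ _ fun Z f hf => by
    have h1 : T ((f ≫ a) ≫ affIncl Y U) := by rw [Category.assoc]; exact hf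
    have h2 : T ((f ≫ b) ≫ affIncl Y V) := by rw [Category.assoc, ← hab]; exact hf
    rw [← map_over, ← map_over, ht U _ h1, ht V _ h2]
    congr 1
    rw [Category.assoc, Category.assoc, hab]
  refine ⟨s, fun Z f hf => ?_, fun s' hs' => ?_⟩
  · refine (hF _ (affines_mem_zariski Z)).isSeparatedFor.ext fun W g hg => ?_
    obtain ⟨V, a, rfl⟩ := (Sieve.mem_ofArrows_iff _ _ _).mp hg
    -- refine on the affine opens of `Y` meeting the image
    have key : F.map (affIncl Z V).op (F.map f.op s) = F.map (affIncl Z V).op (x f hf) := by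
      refine (hF _ ((Scheme.zariskiTopology.over S).pullback_stable
        (affIncl Z V ≫ f) (affines_mem_zariski Y))).isSeparatedFor.ext fun Q e he => ?_
      obtain ⟨U, b, hb⟩ := (Sieve.mem_ofArrows_iff _ _ _).mp he; replace hb := hb.symm
      have hTU : T (b ≫ affIncl Y U) := by
        rw [hb, ← Category.assoc]; exact T.downward_closed hf _
      rw [← map_over, ← map_over, ← map_over, Category.assoc,
        ← hb, map_over, hs U, ht U _ hTU]
      have := hx (e ≫ affIncl Z V) (𝟙 Q) hf hTU (by rw [Category.id_comp, hb, Category.assoc])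
      rw [this, op_id, F.map_id]
      rfl
    rw [map_over, map_over, key]
  · refine sep (𝟙 Y) _ _ fun Z f hf => ?_
    rw [Category.comp_id] at hf
    rw [hs' f hf]
    refine sep f _ _ fun W g hg => ?_
    refine (hF _ ((Scheme.zariskiTopology.over S).pullback_stable
      (g ≫ f) (affines_mem_zariski Y))).isSeparatedFor.ext fun Q e he => ?_
    obtain ⟨U, b, hb⟩ := (Sieve.mem_ofArrows_iff _ _ _).mp he; replace hb := hb.symm
    have hTU : T (b ≫ affIncl Y U) := by
      rw [hb, ← Category.assoc]; exact T.downward_closed hf _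
    conv_rhs => rw [← map_over, ← map_over, Category.assoc, ← hb, map_over, hs U, ht U _ hTU]
    rw [← map_over]
    have := hx (e ≫ g) (𝟙 Q) hf hTU (by rw [Category.id_comp, hb, Category.assoc])
    rw [this, op_id, F.map_id]
    rfl

variable (F) in
/-- The h criterion hypothesis. -/
def SheafForProperSurjective : Prop :=
  ∀ (U V : Over S) (f : V ⟶ U), IsAffine U.left → IsProper f.left → Surjective f.left →
    LocallyOfFinitePresentation f.left → Presieve.IsSheafFor F (Presieve.singleton f)

variable (F) in
/-- Sieves on schemes all of whose base changes to `S`-schemes lie in the finest topology making `F`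
a sheaf. -/
def sheafTopology : GrothendieckTopology Scheme.{u} where
  sieves X := {R | ∀ (Y : Over S) (g : Y.left ⟶ X),
    (Sieve.overEquiv Y).symm (R.pullback g) ∈ Sheaf.finestTopologySingle F Y}
  top_mem' X Y g := by
    rw [Sieve.pullback_top, map_top]
    exact (Sheaf.finestTopologySingle F).top_mem _
  pullback_stable' X Y R f hR Z g := by
    rw [← Sieve.pullback_comp]
    exact hR Z (g ≫ f)
  transitive' X R hR R' hR' Y g := by
    refine (Sheaf.finestTopologySingle F).transitive (hR Y g) _ fun Z a ha => ?_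
    have ha' : R (a.left ≫ g) := ha
    have h := hR' ha' Z (𝟙 _)
    rw [Sieve.pullback_id, Sieve.pullback_comp] at h
    convert h using 1
    apply (Sieve.overEquiv Z).injective
    rw [OrderIso.apply_symm_apply, Sieve.overEquiv_pullback, OrderIso.apply_symm_apply]

theorem zariski_le_sheafTopology (hF : Presieve.IsSheaf (Scheme.zariskiTopology.over S) F) :
    Scheme.zariskiTopology ≤ sheafTopology F := fun X R hR Y g W f => by
  refine hF _ ((Scheme.zariskiTopology.over S).pullback_stable f ?_)
  exact Scheme.zariskiTopology.overEquiv_symm_mem_over Y _ (Scheme.zariskiTopology.pullback_stable g hR)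

theorem singleton_mem_sheafTopology (hF : Presieve.IsSheaf (Scheme.zariskiTopology.over S) F)
    (h : SheafForProperSurjective F) {P U : Scheme.{u}} (g : P ⟶ U) [IsProper g] [Surjective g]
    [LocallyOfFinitePresentation g] : Sieve.generate (Presieve.singleton g) ∈ sheafTopology F U := by
  intro Y q W f
  refine isSheafFor_of_affine_pullbacks hF _ fun A a hA => ?_
  rw [← Sieve.pullback_comp]
  let c : A.left ⟶ U := (a ≫ f).left ≫ q
  let B : Over S := Over.mk (pullback.fst c g ≫ A.hom)
  let π : B ⟶ A := Over.homMk (pullback.fst c g) rfl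
  have hπ := h A B π hA (inferInstanceAs (IsProper (pullback.fst c g)))
    (inferInstanceAs (Surjective (pullback.fst c g)))
    (inferInstanceAs (LocallyOfFinitePresentation (pullback.fst c g)))
  rw [Presieve.isSheafFor_iff_generate] at hπ
  convert hπ using 2
  apply (Sieve.overEquiv A).injective
  rw [Sieve.overEquiv_pullback, OrderIso.apply_symm_apply, ← Sieve.pullback_comp]
  ext Z z
  rw [Sieve.overEquiv_iff]
  constructor
  · rintro ⟨_, b, _, ⟨⟩, hb⟩
    refine ⟨B, Over.homMk (pullback.lift z b hb.symm) ?_, π, ⟨⟩, ?_⟩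
    · simp [B]
    · ext; simp [π]
  · rintro ⟨_, e, _, ⟨⟩, he⟩
    refine ⟨P, e.left ≫ pullback.snd c g, g, ⟨⟩, ?_⟩
    have he' : e.left ≫ pullback.fst c g = z := congrArg CommaMorphism.left he
    rw [Category.assoc, ← pullback.condition, reassoc_of% he']

theorem isHCover_pullback₁ {T T' : Scheme.{u}} (g : T' ⟶ T) (E : PreZeroHypercover.{w} T)
    (hE : HTop.IsHCover E) : HTop.IsHCover (E.pullback₁ g) :=
  ⟨fun i => haveI := hE.1 i; inferInstanceAs (LocallyOfFinitePresentation (pullback.fst g (E.f i))),
    isVCover_pullback₁ g E hE.2⟩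

theorem hCover_mem_sheafTopology (hF : Presieve.IsSheaf (Scheme.zariskiTopology.over S) F)
    (h : SheafForProperSurjective F) {X : Scheme.{u}} (E : PreZeroHypercover.{w} X)
    (hE : HTop.IsHCover E) : Sieve.generate E.presieve₀ ∈ sheafTopology F X := by
  refine (sheafTopology F).transitive (zariski_le_sheafTopology hF _
    (X.openCoverOfIsOpenCover (fun U : X.affineOpens => (U : X.Opens))
      (iSup_affineOpens_eq_top X)).mem_grothendieckTopology) _ fun Z a ha => ?_
  obtain ⟨(U : X.affineOpens), b, rfl⟩ := (Sieve.mem_ofArrows_iff _ _ _).mp ha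
  rw [Sieve.pullback_comp]
  refine (sheafTopology F).pullback_stable b ?_
  have : IsAffine ((U : X.Opens) : Scheme.{u}) := U.2
  obtain ⟨P, g, n, V, hg, hgs, hgf, -, hV, hl⟩ :=
    exists_fp_refinement (E.pullback₁ (U : X.Opens).ι) (isHCover_pullback₁ _ E hE)
  refine (sheafTopology F).transitive (singleton_mem_sheafTopology hF h g) _ fun Z' a' ha' => ?_
  obtain ⟨_, b', _, ⟨⟩, rfl⟩ := ha'
  rw [Sieve.pullback_comp]
  refine (sheafTopology F).pullback_stable b' ?_
  refine (sheafTopology F).superset_covering ?_ (zariski_le_sheafTopology hF _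
    (P.openCoverOfIsOpenCover V hV).mem_grothendieckTopology)
  rw [Sieve.generate_le_iff]
  rintro Q q hq
  obtain ⟨k⟩ := hq
  obtain ⟨i, r, hr⟩ := hl k
  refine ⟨E.X i, r ≫ pullback.snd _ _, E.f i, ⟨i⟩, ?_⟩
  show (r ≫ pullback.snd _ _) ≫ E.f i = ((V k).ι ≫ g) ≫ (U : X.Opens).ι
  rw [← hr, Category.assoc, ← pullback.condition]
  exact (Category.assoc _ _ _).symm

theorem zariski_le_hTopology : Scheme.zariskiTopology ≤ HTop.hTopology.{u} := by
  refine Precoverage.toGrothendieck_le_iff_le_toPrecoverage.mpr fun X P hP => ?_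
  rw [GrothendieckTopology.mem_toPrecoverage_iff]
  obtain ⟨(𝒰 : X.OpenCover), rfl⟩ := Scheme.exists_cover_of_mem_pretopology hP
  refine Precoverage.generate_mem_toGrothendieck ((HTop.presieve₀_mem_hPrecoverage_iff _).mpr
    ⟨fun i => ?_, isVCover_openCover 𝒰⟩)
  have : IsOpenImmersion (𝒰.f i) := 𝒰.map_prop i
  infer_instance

theorem isSheaf_Jh_iff :
    Presieve.IsSheaf (HTop.Jh S) F ↔
      Presieve.IsSheaf (Scheme.zariskiTopology.over S) F ∧ SheafForProperSurjective F := by
  constructor
  · intro h
    refine ⟨Presieve.isSheaf_of_le _ (fun Y R hR => zariski_le_hTopology _ hR) h, ?_⟩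
    intro U V f _ hp hs hf
    rw [show Presieve.singleton f = Presieve.ofArrows (fun _ : PUnit.{1} => V) (fun _ => f) from
      (Presieve.ofArrows_pUnit f).symm]
    refine isSheafFor_over h (fun _ : PUnit => V) (fun _ => f) ?_
    have hh : HTop.IsHCover (PreZeroHypercover.singleton.{0} f.left) :=
      ⟨fun _ => hf, @isVCover_of_proper _ _ f.left hp hs⟩
    exact (HTop.presieve₀_mem_hPrecoverage_iff _).mpr hh
  · rintro ⟨hz, hp⟩
    refine Presieve.isSheaf_of_le _ (fun Y R hR => ?_)
      (show Presieve.IsSheaf (Sheaf.finestTopologySingle F) F from fun X T hT => by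
        simpa using hT X (𝟙 _))
    have hle : HTop.hTopology ≤ sheafTopology F := by
      refine Precoverage.toGrothendieck_le_iff_le_toPrecoverage.mpr fun X P hP => ?_
      rw [GrothendieckTopology.mem_toPrecoverage_iff]
      rw [presieve_eq_of_mem P] at hP ⊢
      exact hCover_mem_sheafTopology hz hp _ ((HTop.presieve₀_mem_hPrecoverage_iff _).mp hP)
    have := hle _ hR Y (𝟙 _)
    rwa [Sieve.pullback_id, OrderIso.symm_apply_apply] at this

end Groth.HTopHyper
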