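import Groth.Agent.HTopHyper.FrobColim
import Groth.Agent.HTopHyper.HSheafCriterion

/-! # The Zariski sheafification of the Frobenius colimit presheaf -/

set_option autoImplicit false
set_option backward.isDefEq.respectTransparency false

universe u

open CategoryTheory CategoryTheory.Limits AlgebraicGeometry Opposite

namespace Groth.HTopHyper.FrobColim

variable (p : ℕ) {S : Scheme.{u}}

/-- The presheaf, one universe up. -/
noncomputable abbrev P' (S : Scheme.{u}) : (Over S)ᵒᵖ ⥤ Type (u + 1) :=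
  HTop.frobColimPresheaf p S ⋙ uliftFunctor.{u + 1, u}

/-- The big Zariski topology. -/
abbrev Jz (S : Scheme.{u}) : GrothendieckTopology (Over S) := QuotSh.J Scheme.zariskiPrecoverage S

/-- Its sheafification. -/
noncomputable abbrev Ps (S : Scheme.{u}) : (Over S)ᵒᵖ ⥤ Type (u + 1) := (Jz S).sheafify (P' p S)

/-- The unit. -/
noncomputable abbrev eta (X : Over S) : (P' p S).obj (op X) → (Ps p S).obj (op X) :=
  ((Jz S).toSheafify (P' p S)).app (op X)

variable {p}

theorem eta_natural {X Y : Over S} (f : Y ⟶ X) (x : (P' p S).obj (op X)) :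
    (Ps p S).map f.op (eta p X x) = eta p Y ((P' p S).map f.op x) :=
  (DFunLike.congr_fun (congrArg (fun φ => ConcreteCategory.hom φ)
    (((Jz S).toSheafify (P' p S)).naturality f.op)) x).symm

theorem map_mk {X Y : Over S} (f : Y ⟶ X) (n : ℕ) (a : Γ(X.left, ⊤)) :
    (P' p S).map f.op ⟨HTop.FrobColimSections.mk p n a⟩ =
      ⟨HTop.FrobColimSections.mk p n (f.left.appTop a)⟩ := rfl

theorem ulift_mk_iff {X : Scheme.{u}} (n : ℕ) (a b : Γ(X, ⊤)) :
    (ULift.up.{u + 1} (HTop.FrobColimSections.mk p n a) = ULift.up (HTop.FrobColimSections.mk p n b))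
      ↔ ∃ k, a ^ p ^ k = b ^ p ^ k := by
  rw [ULift.up_inj, mk_eq_mk_same_iff]

theorem exists_ulift_rep {X : Over S} (x : (P' p S).obj (op X)) :
    ∃ (n : ℕ) (a : Γ(X.left, ⊤)), x = ⟨HTop.FrobColimSections.mk p n a⟩ := by
  obtain ⟨n, a, ha⟩ := exists_rep (ULift.down x)
  exact ⟨n, a, ULift.ext _ _ ha⟩

theorem exists_ulift_rep₂ {X : Over S} (x y : (P' p S).obj (op X)) :
    ∃ (n : ℕ) (a b : Γ(X.left, ⊤)),
      x = ⟨HTop.FrobColimSections.mk p n a⟩ ∧ y = ⟨HTop.FrobColimSections.mk p n b⟩ := by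
  obtain ⟨n, a, rfl⟩ := exists_ulift_rep x
  obtain ⟨m, b, rfl⟩ := exists_ulift_rep y
  refine ⟨max n m, a ^ p ^ (max n m - n), b ^ p ^ (max n m - m), ?_, ?_⟩
  · rw [mk_eq_mk_add n (max n m - n), Nat.add_sub_cancel' (le_max_left n m)]
  · rw [mk_eq_mk_add m (max n m - m), Nat.add_sub_cancel' (le_max_right n m)]

/-! ## Finite affine covers -/

/-- An open subscheme as an object over the base. -/
noncomputable def openOver (X : Over S) (U : X.left.Opens) : Over S := Over.mk (U.ι ≫ X.hom)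

/-- Its inclusion. -/
noncomputable def openIncl (X : Over S) (U : X.left.Opens) : openOver X U ⟶ X := Over.homMk U.ι rfl

/-- An inclusion of open subschemes. -/
noncomputable def openHom (X : Over S) {U V : X.left.Opens} (h : U ≤ V) :
    openOver X U ⟶ openOver X V :=
  Over.homMk (X.left.homOfLE h) (by simp [openOver])

theorem openHom_incl (X : Over S) {U V : X.left.Opens} (h : U ≤ V) :
    openHom X h ≫ openIncl X V = openIncl X U := by
  ext
  exact X.left.homOfLE_ι h

theorem opens_mem {X : Over S} {ι : Type u} (U : ι → X.left.Opens) (hU : iSup U = ⊤) :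
    Sieve.ofArrows (fun i => openOver X (U i)) (fun i => openIncl X (U i)) ∈ Jz S X := by
  rw [GrothendieckTopology.mem_over_iff, Sieve.overEquiv_ofArrows]
  exact (X.left.openCoverOfIsOpenCover U hU).mem_grothendieckTopology

theorem exists_finite_cover {X : Over S} [CompactSpace X.left] {R : Sieve X} (hR : R ∈ Jz S X) :
    ∃ (ι : Type u) (_ : Finite ι) (U : ι → X.left.Opens),
      (∀ i, IsAffineOpen (U i)) ∧ iSup U = ⊤ ∧ ∀ i, R (openIncl X (U i)) := by
  rw [GrothendieckTopology.mem_over_iff] at hR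
  obtain ⟨𝒰, h𝒰⟩ := Scheme.exists_cover_of_mem_grothendieckTopology hR
  have : ∀ x : X.left, ∃ W : X.left.Opens, IsAffineOpen W ∧ x ∈ W ∧ R (openIncl X W) := fun x => by
    obtain ⟨i, y, hy⟩ := 𝒰.exists_eq x
    haveI : IsOpenImmersion (𝒰.f i) := 𝒰.map_prop i
    obtain ⟨W, hWa, hxW, hWle⟩ := exists_isAffineOpen_mem_and_subset
      (x := x) (U := (𝒰.f i).opensRange) ⟨y, hy⟩
    refine ⟨W, hWa, hxW, ?_⟩
    have hf : Sieve.overEquiv X R (𝒰.f i) := h𝒰 _ _ (Presieve.ofArrows.mk i)
    have h' : Sieve.overEquiv X R (IsOpenImmersion.lift (𝒰.f i) W.ι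
        (by rw [Scheme.Opens.range_ι]; exact hWle) ≫ 𝒰.f i) :=
      (Sieve.overEquiv X R).downward_closed hf _
    rw [IsOpenImmersion.lift_fac] at h'
    exact (Sieve.overEquiv_iff R W.ι).mp h'
  choose W hWa hxW hWR using this
  obtain ⟨t, ht⟩ := isCompact_univ.elim_finite_subcover (fun x => (W x : Set X.left))
    (fun x => (W x).2) (fun x _ => Set.mem_iUnion.mpr ⟨x, hxW x⟩)
  refine ⟨{x // x ∈ t}, inferInstance, fun x => W x.1, fun x => hWa _, ?_, fun x => hWR _⟩
  refine top_le_iff.mp fun x _ => ?_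
  obtain ⟨y, hy, hxy⟩ := Set.mem_iUnion₂.mp (ht (Set.mem_univ x))
  exact TopologicalSpace.Opens.mem_iSup.mpr ⟨⟨y, hy⟩, hxy⟩

/-- Restriction of a global section. -/
noncomputable abbrev res {X : Scheme.{u}} (U : X.Opens) : Γ(X, ⊤) ⟶ Γ(X, U) :=
  X.presheaf.map (homOfLE le_top).op

theorem ι_appTop_eq {X : Scheme.{u}} (U : X.Opens) : U.ι.appTop = res U ≫ U.topIso.inv := by
  rw [Iso.eq_comp_inv, Scheme.Opens.ι_appTop, Scheme.Opens.topIso_hom, res]
  erw [← Functor.map_comp]
  congr 1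

theorem homOfLE_appTop_eq {X : Scheme.{u}} {U V : X.Opens} (h : U ≤ V) :
    (X.homOfLE h).appTop ≫ U.topIso.hom = V.topIso.hom ≫ X.presheaf.map (homOfLE h).op := by
  rw [Scheme.homOfLE_appTop, Scheme.Opens.topIso_hom, Scheme.Opens.topIso_hom]
  erw [← Functor.map_comp, ← Functor.map_comp]
  congr 1

theorem eq_of_ι_appTop_eq {X : Scheme.{u}} {ι : Type u} (U : ι → X.Opens) (hU : iSup U = ⊤)
    (a b : Γ(X, ⊤)) (h : ∀ i, (U i).ι.appTop a = (U i).ι.appTop b) : a = b := by
  refine TopCat.Sheaf.eq_of_locally_eq' X.sheaf U ⊤ (fun i => homOfLE le_top) hU.ge a b fun i => ?_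
  have := congrArg (U i).topIso.hom (h i)
  rw [ι_appTop_eq, CommRingCat.comp_apply, CommRingCat.comp_apply,
    Iso.inv_hom_id_apply, Iso.inv_hom_id_apply] at this
  exact this

/-! ## The unit is bijective on quasi-compact quasi-separated objects -/

theorem eta_injective {X : Over S} [CompactSpace X.left] : Function.Injective (eta p X) := by
  intro x y hxy
  obtain ⟨ι, _, U, -, hU, hR⟩ := exists_finite_cover
    (Presheaf.equalizerSieve_mem (Jz S) ((Jz S).toSheafify (P' p S)) x y hxy)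
  obtain ⟨n, a, b, rfl, rfl⟩ := exists_ulift_rep₂ x y
  have h : ∀ i, ∃ k, (U i).ι.appTop a ^ p ^ k = (U i).ι.appTop b ^ p ^ k := fun i =>
    (ulift_mk_iff n _ _).mp (hR i)
  choose k hk using h
  obtain ⟨K, hK⟩ := Finite.exists_le k
  exact (ulift_mk_iff n a b).mpr ⟨K, eq_of_ι_appTop_eq U hU _ _ fun i => by
    rw [map_pow, map_pow]; exact pow_pow_eq_of_le (hK i) (hk i)⟩

theorem Ps_isSheaf : Presieve.IsSheaf (Jz S) (Ps p S) :=
  (isSheaf_iff_isSheaf_of_type _ _).mp (GrothendieckTopology.sheafify_isSheaf _ _)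

theorem eta_surjective {X : Over S} [CompactSpace X.left] [QuasiSeparatedSpace X.left] :
    Function.Surjective (eta p X) := by
  intro s
  obtain ⟨ι, _, U, hUa, hU, hR⟩ := exists_finite_cover
    (Presheaf.imageSieve_mem (Jz S) ((Jz S).toSheafify (P' p S)) s)
  choose t ht using hR
  obtain ⟨n, b, hb⟩ := exists_common_degree (X := X.left) (Y := fun i => (openOver X (U i)).left)
    (fun i => ULift.down (t i))
  have htb : ∀ i, t i = ⟨HTop.FrobColimSections.mk p n (b i)⟩ := fun i => ULift.ext _ _ (hb i)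
  have ht' : ∀ i, eta p (openOver X (U i)) ⟨HTop.FrobColimSections.mk p n (b i)⟩ =
      (Ps p S).map (openIncl X (U i)).op s := fun i => by rw [← htb i]; exact ht i
  have hov : ∀ q : ι × ι, ∃ k,
      (X.left.homOfLE (inf_le_left : U q.1 ⊓ U q.2 ≤ _)).appTop (b q.1) ^ p ^ k =
        (X.left.homOfLE (inf_le_right : U q.1 ⊓ U q.2 ≤ _)).appTop (b q.2) ^ p ^ k := fun q => by
    haveI : CompactSpace (openOver X (U q.1 ⊓ U q.2)).left :=
      isCompact_iff_compactSpace.mp
        (QuasiSeparatedSpace.inter_isCompact _ _ (U q.1).2 (hUa q.1).isCompact (U q.2).2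
          (hUa q.2).isCompact)
    refine (ulift_mk_iff n _ _).mp (eta_injective (X := openOver X (U q.1 ⊓ U q.2)) ?_)
    have e₁ := eta_natural (openHom X (inf_le_left : U q.1 ⊓ U q.2 ≤ _))
      (⟨HTop.FrobColimSections.mk p n (b q.1)⟩ : (P' p S).obj (op (openOver X (U q.1))))
    have e₂ := eta_natural (openHom X (inf_le_right : U q.1 ⊓ U q.2 ≤ _))
      (⟨HTop.FrobColimSections.mk p n (b q.2)⟩ : (P' p S).obj (op (openOver X (U q.2))))
    rw [ht'] at e₁ e₂
    refine e₁.symm.trans (Eq.trans ?_ e₂)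
    rw [← Groth.HTopHyper.map_over, ← Groth.HTopHyper.map_over, openHom_incl, openHom_incl]
  choose k hk using hov
  obtain ⟨K, hK⟩ := Finite.exists_le k
  let c : ∀ i, Γ(X.left, U i) := fun i => (U i).topIso.hom (b i ^ p ^ K)
  have hc : TopCat.Presheaf.IsCompatible X.left.presheaf U c := fun i j => by
    have h := congrArg (U i ⊓ U j).topIso.hom (pow_pow_eq_of_le (hK (i, j)) (hk (i, j)))
    rw [← map_pow, ← map_pow, ← CommRingCat.comp_apply, ← CommRingCat.comp_apply,
      homOfLE_appTop_eq, homOfLE_appTop_eq, CommRingCat.comp_apply, CommRingCat.comp_apply] at h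
    exact h
  obtain ⟨g, hg, -⟩ := TopCat.Sheaf.existsUnique_gluing' X.left.sheaf U ⊤
    (fun i => homOfLE le_top) hU.ge c hc
  refine ⟨⟨HTop.FrobColimSections.mk p (n + K) g⟩, ?_⟩
  refine (Ps_isSheaf _ (opens_mem U hU)).isSeparatedFor.ext fun Z f hf => ?_
  obtain ⟨i, a, rfl⟩ := (Sieve.mem_ofArrows_iff _ _ _).mp hf
  rw [Groth.HTopHyper.map_over, Groth.HTopHyper.map_over, eta_natural, map_mk, ← ht' i]
  congr 2
  show (⟨HTop.FrobColimSections.mk p (n + K) ((U i).ι.appTop g)⟩ : ULift _) = ⟨_⟩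
  have hg' : res (U i) g = c i := hg i
  rw [ι_appTop_eq, CommRingCat.comp_apply, hg', Iso.hom_inv_id_apply, ← mk_eq_mk_add]

end Groth.HTopHyper.FrobColim

namespace Groth.HTopHyper.FrobColim

variable {p : ℕ} [Fact p.Prime] {S : Scheme.{u}}

theorem natCast_eq_zero (hS : (p : Γ(S, ⊤)) = 0) (X : Over S) : (p : Γ(X.left, ⊤)) = 0 := by
  rw [← map_natCast X.hom.appTop.hom p, hS, map_zero]

/-- Pullback along a surjection is injective on classes. -/
theorem map_injective_of_surjective (hS : (p : Γ(S, ⊤)) = 0) {U V : Over S} [CompactSpace U.left]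
    (f : V ⟶ U) [Surjective f.left] : Function.Injective ((P' p S).map f.op) := by
  intro x y h
  obtain ⟨n, a, b, rfl, rfl⟩ := exists_ulift_rep₂ x y
  rw [map_mk, map_mk] at h
  obtain ⟨k, hk⟩ := (ulift_mk_iff n _ _).mp h
  have h0 : f.left.appTop ((a - b) ^ p ^ k) = 0 := by
    rw [map_pow, map_sub, sub_pow_p (natCast_eq_zero hS V), hk, sub_self]
  obtain ⟨m, hm⟩ := isNilpotent_of_appTop_eq_zero f.left _ h0
  refine (ulift_mk_iff n a b).mpr ⟨k + m, sub_eq_zero.mp ?_⟩
  rw [← sub_pow_p (natCast_eq_zero hS U), pow_add, pow_mul]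
  exact pow_eq_zero_of_le (le_of_lt (Nat.lt_pow_self (Fact.out : p.Prime).one_lt)) hm

theorem sheafForProperSurjective (hS : (p : Γ(S, ⊤)) = 0) :
    Groth.HTopHyper.SheafForProperSurjective (Ps p S) := by
  intro U V f hU hprop hsurj _
  haveI : CompactSpace V.left := (quasiCompact_iff_compactSpace f.left).mp inferInstance
  haveI : QuasiSeparatedSpace V.left := quasiSeparatedSpace_of_quasiSeparated f.left
  let W : Over S := Over.mk (pullback.fst f.left f.left ≫ V.hom)
  haveI : CompactSpace W.left :=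
    (quasiCompact_iff_compactSpace (pullback.fst f.left f.left ≫ f.left)).mp inferInstance
  let p₁ : W ⟶ V := Over.homMk (pullback.fst _ _) rfl
  let p₂ : W ⟶ V := Over.homMk (pullback.snd _ _) (by
    rw [← Over.w f, ← pullback.condition_assoc, Over.w f]; rfl)
  have hp₁₂ : p₁ ≫ f = p₂ ≫ f := by ext; exact pullback.condition
  rw [← Presieve.ofArrows_pUnit.{0}, Presieve.isSheafFor_arrows_iff]
  intro x hx
  have hinj : Function.Injective ((Ps p S).map f.op) := by
    intro y z hyz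
    obtain ⟨a, rfl⟩ := eta_surjective y
    obtain ⟨b, rfl⟩ := eta_surjective z
    rw [eta_natural, eta_natural] at hyz
    exact congrArg _ (map_injective_of_surjective hS f (eta_injective hyz))
  obtain ⟨t, ht⟩ := eta_surjective (x PUnit.unit)
  obtain ⟨n, s, rfl⟩ := exists_ulift_rep t
  have h := hx PUnit.unit PUnit.unit W p₁ p₂ hp₁₂
  rw [← ht, eta_natural, eta_natural, map_mk, map_mk] at h
  obtain ⟨k, hk⟩ := (ulift_mk_iff n _ _).mp (eta_injective h)
  obtain ⟨N, a, ha⟩ := exists_appTop_eq_pow f.left (natCast_eq_zero hS U) (s ^ p ^ k)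
    fun T α β hαβ => by
      have hk' : (pullback.fst f.left f.left).appTop s ^ p ^ k =
          (pullback.snd f.left f.left).appTop s ^ p ^ k := hk
      have := congrArg (pullback.lift α β hαβ).appTop hk'
      rw [map_pow, map_pow, ← CommRingCat.comp_apply, ← CommRingCat.comp_apply,
        ← Scheme.Hom.comp_appTop, ← Scheme.Hom.comp_appTop, pullback.lift_fst,
        pullback.lift_snd] at this
      rw [map_pow, map_pow]
      exact this
  refine ⟨eta p U ⟨HTop.FrobColimSections.mk p (n + (k + N)) a⟩, fun i => ?_, fun y hy => hinj ?_⟩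
  · cases i
    rw [eta_natural, map_mk, ← ht]
    congr 2
    rw [ha, mk_eq_mk_add n (k + N) s, pow_add p k N, pow_mul]
  · rw [hy PUnit.unit, eta_natural, map_mk, ← ht]
    congr 2
    rw [ha, mk_eq_mk_add n (k + N) s, pow_add p k N, pow_mul]

theorem isSheaf_Jh (hS : (p : Γ(S, ⊤)) = 0) : Presieve.IsSheaf (HTop.Jh S) (Ps p S) :=
  Groth.HTopHyper.isSheaf_Jh_iff.mpr ⟨Ps_isSheaf, sheafForProperSurjective hS⟩

end Groth.HTopHyper.FrobColim
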