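import Groth.Agent.HTopHyper.StdV

/-! V coverings: refinement over affine schemes, base change, composition, quasi-compact morphisms. -/

set_option autoImplicit false

universe w w' w'' u

open CategoryTheory CategoryTheory.Limits AlgebraicGeometry IsLocalRing

namespace Groth.HTopHyper

/-- A finite cover of an affine scheme by affine opens subordinate to a given family of opens
covering it, as a standard V covering. -/
theorem exists_zariski_std {Y : Scheme.{u}} [IsAffine Y] {α : Type w} (U : α → Y.Opens)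
    (hU : ∀ y : Y, ∃ a, y ∈ U a) :
    ∃ (n : ℕ) (V : Fin n → Y.affineOpens) (a : Fin n → α), (∀ k, (V k : Y.Opens) ≤ U (a k)) ∧
      HTop.IsStandardV (PreZeroHypercover.mk (Fin n) (fun k => ((V k : Y.Opens) : Scheme.{u}))
        (fun k => (V k : Y.Opens).ι)) := by
  choose a ha using hU
  have key : ∀ y : Y, ∃ V : Y.affineOpens, y ∈ (V : Y.Opens) ∧ (V : Y.Opens) ≤ U (a y) := by
    intro y
    obtain ⟨V, hV, hy, hle⟩ := Y.isBasis_affineOpens.exists_subset_of_mem_open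
      (show y ∈ (U (a y) : Set Y) from ha y) (U (a y)).isOpen
    obtain ⟨V', hV', rfl⟩ := hV
    exact ⟨⟨V', hV'⟩, hy, hle⟩
  choose V hyV hVle using key
  obtain ⟨t, ht⟩ := isCompact_univ.elim_finite_subcover (fun y : Y => ((V y : Y.Opens) : Set Y))
    (fun y => (V y : Y.Opens).isOpen) (fun y _ => Set.mem_iUnion.mpr ⟨y, hyV y⟩)
  obtain ⟨n, ⟨e⟩⟩ := Finite.exists_equiv_fin t
  refine ⟨n, fun k => V (e.symm k : Y), fun k => a (e.symm k : Y), fun k => hVle _, ?_⟩
  refine isStandardV_of_flat _ (fun k => (V (e.symm k : Y)).2) (fun k => inferInstance) fun y => ?_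
  obtain ⟨z, hz, hy⟩ := Set.mem_iUnion₂.mp (ht (Set.mem_univ y))
  refine ⟨e ⟨z, hz⟩, ⟨y, ?_⟩, rfl⟩
  simpa using hy

/-- A V covering is refined by a standard V covering over any affine scheme mapping to the base. -/
theorem exists_std_refinement {T Y : Scheme.{u}} [IsAffine Y] (g : Y ⟶ T)
    {E : PreZeroHypercover.{w} T} (hE : HTop.IsVCover E) :
    ∃ F : PreZeroHypercover.{0} Y, HTop.IsStandardV F ∧ HTop.RefinesOver g F E := by
  obtain ⟨n, V, a, hle, hstd⟩ :=
    exists_zariski_std (fun U : T.affineOpens => g ⁻¹ᵁ (U : T.Opens)) fun y => by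
      obtain ⟨U, hU, hy, -⟩ := T.isBasis_affineOpens.exists_subset_of_mem_open
        (Set.mem_univ (g y)) isOpen_univ
      obtain ⟨U', hU', rfl⟩ := hU
      exact ⟨⟨U', hU'⟩, hy⟩
  choose F hF hFE using hE
  let h : ∀ k, ((V k : Y.Opens) : Scheme.{u}) ⟶ ((a k : T.Opens) : Scheme.{u}) :=
    fun k => Scheme.Hom.resLE g (a k : T.Opens) (V k : Y.Opens) (hle k)
  have : ∀ k, IsAffine ((V k : Y.Opens) : Scheme.{u}) := fun k => (V k).2
  refine ⟨(PreZeroHypercover.mk (Fin n) (fun k => ((V k : Y.Opens) : Scheme.{u}))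
        (fun k => (V k : Y.Opens).ι)).bind fun k => (F (a k)).pullback₁ (h k),
    isStandardV_bind _ hstd _ fun k => isStandardV_pullback₁ (h k) _ (hF (a k)), ?_⟩
  rintro ⟨k, i⟩
  change (F (a k)).I₀ at i
  obtain ⟨j, r, hr⟩ := hFE (a k) i
  refine ⟨j, pullback.snd (h k) ((F (a k)).f i) ≫ r, ?_⟩
  change _ = (pullback.fst (h k) ((F (a k)).f i) ≫ (V k : Y.Opens).ι) ≫ g
  refine (Category.assoc _ _ _).trans ((congrArg (_ ≫ ·) hr).trans ?_)
  refine (pullback.condition_assoc _).symm.trans ?_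
  refine (congrArg (_ ≫ ·) (Scheme.Hom.resLE_comp_ι g (hle k))).trans ?_
  exact (Category.assoc _ _ _).symm

theorem isVCover_pullback₁ {T T' : Scheme.{u}} (g : T' ⟶ T) (E : PreZeroHypercover.{w} T)
    (hE : HTop.IsVCover E) : HTop.IsVCover (E.pullback₁ g) := by
  intro U
  have : IsAffine ((U : T'.Opens) : Scheme.{u}) := U.2
  obtain ⟨F, hF, hr⟩ := exists_std_refinement ((U : T'.Opens).ι ≫ g) hE
  refine ⟨F, hF, fun k => ?_⟩
  obtain ⟨i, r, hi⟩ := hr k
  exact ⟨i, pullback.lift (F.f k ≫ (U : T'.Opens).ι) r (by rw [Category.assoc, hi]),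
    pullback.lift_fst _ _ _⟩

theorem isVCover_bind {T : Scheme.{u}} (E : PreZeroHypercover.{w} T) (hE : HTop.IsVCover E)
    (F : ∀ i, PreZeroHypercover.{w'} (E.X i)) (hF : ∀ i, HTop.IsVCover (F i)) :
    HTop.IsVCover (E.bind F) := by
  intro U
  obtain ⟨G, hG, hr⟩ := hE U
  choose i r hir using hr
  have := hG.isAffine_obj
  choose H hH hrH using fun k => exists_std_refinement (r k) (hF (i k))
  refine ⟨G.bind H, isStandardV_bind G hG H hH, ?_⟩
  rintro ⟨k, l⟩
  obtain ⟨m, s, hs⟩ := hrH k l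
  refine ⟨⟨i k, m⟩, s, ?_⟩
  change s ≫ (F (i k)).f m ≫ E.f (i k) = ((H k).f l ≫ G.f k) ≫ _
  rw [reassoc_of% hs, hir, Category.assoc]

theorem isVCover_of_isStandardV {T : Scheme.{u}} {E : PreZeroHypercover.{w} T}
    (hE : HTop.IsStandardV E) : HTop.IsVCover E := by
  intro U
  have : IsAffine ((U : T.Opens) : Scheme.{u}) := U.2
  have h := isStandardV_pullback₁ (U : T.Opens).ι E hE
  have := hE.finite_index
  obtain ⟨n, ⟨e⟩⟩ := Finite.exists_equiv_fin E.I₀
  refine ⟨PreZeroHypercover.mk (Fin n) (fun k => pullback (U : T.Opens).ι (E.f (e.symm k)))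
      (fun k => pullback.fst _ _), ⟨inferInstance, inferInstanceAs (Finite (Fin n)),
      fun k => h.isAffine_obj (e.symm k), ?_⟩, fun k => ⟨e.symm k, pullback.snd _ _,
        pullback.condition.symm⟩⟩
  intro V _ _ g
  obtain ⟨W, hW, hW', φ, hφ, j, g', hg'⟩ := h.lift V g
  obtain ⟨k, rfl⟩ := e.symm.surjective j
  exact ⟨W, hW, hW', φ, hφ, k, g', hg'⟩

theorem hasValLift_of_isVCover {T : Scheme.{u}} {E : PreZeroHypercover.{w} T}
    (hE : HTop.IsVCover E) : HTop.HasValLift E := by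
  intro V _ _ g
  obtain ⟨F, hF, hr⟩ := exists_std_refinement g hE
  obtain ⟨W, hW, hW', φ, hφ, k, g', hg'⟩ := hF.lift V (𝟙 _)
  obtain ⟨i, r, hi⟩ := hr k
  refine ⟨W, hW, hW', φ, hφ, i, g' ≫ r, ?_⟩
  rw [Category.assoc, hi, reassoc_of% hg']

/-- The converse for finitely many quasi-compact members. -/
theorem isVCover_of_hasValLift {T : Scheme.{u}} {E : PreZeroHypercover.{w} T} [Finite E.I₀]
    (hqc : ∀ i, QuasiCompact (E.f i)) (hE : HTop.HasValLift E) : HTop.IsVCover E := by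
  intro U
  have : IsAffine ((U : T.Opens) : Scheme.{u}) := U.2
  have h : ∀ i, CompactSpace ↑(E.f i ⁻¹ᵁ (U : T.Opens) : Scheme.{u}) := fun i =>
    isCompact_iff_compactSpace.mp <|
      have := hqc i
      (E.f i).isCompact_preimage U.2.isCompact
  let C : ∀ i, (E.f i ⁻¹ᵁ (U : T.Opens) : Scheme.{u}).OpenCover := fun i =>
    (E.f i ⁻¹ᵁ (U : T.Opens) : Scheme.{u}).affineCover.finiteSubcover
  have : ∀ i, Finite (C i).I₀ := fun i => by dsimp only [C]; infer_instance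
  obtain ⟨n, ⟨e⟩⟩ := Finite.exists_equiv_fin (Σ i, (C i).I₀)
  refine ⟨PreZeroHypercover.mk (Fin n) (fun k => (C (e.symm k).1).X (e.symm k).2)
      (fun k => (C (e.symm k).1).f (e.symm k).2 ≫ (E.f (e.symm k).1) ∣_ (U : T.Opens)),
    ⟨inferInstance, inferInstanceAs (Finite (Fin n)), fun k => ?_, ?_⟩, fun k => ?_⟩
  · exact inferInstanceAs (IsAffine
      ((E.f (e.symm k).1 ⁻¹ᵁ (U : T.Opens) : Scheme.{u}).affineCover.X _))
  · intro V _ _ g
    obtain ⟨W, hW, hW', φ, hφ, i, g', hg'⟩ := hE V (g ≫ (U : T.Opens).ι)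
    obtain ⟨g₁, hg₁⟩ := exists_lift_openImmersion (E.f i ⁻¹ᵁ (U : T.Opens)).ι g' (by
      rw [Scheme.Opens.range_ι]
      change E.f i (g' (clPt W)) ∈ (U : T.Opens)
      rw [← Scheme.Hom.comp_apply, hg', Scheme.Hom.comp_apply, Scheme.Hom.comp_apply]
      exact ((g (Spec.map φ (clPt W))).2))
    obtain ⟨m, z, hz⟩ := (C i).exists_eq (g₁ (clPt W))
    obtain ⟨g₂, hg₂⟩ := exists_lift_openImmersion ((C i).f m) g₁ ⟨z, hz⟩
    obtain ⟨k, hk⟩ := e.symm.surjective ⟨i, m⟩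
    have key : g₂ ≫ (C i).f m ≫ E.f i ∣_ (U : T.Opens) = Spec.map φ ≫ g := by
      rw [reassoc_of% hg₂, ← cancel_mono (U : T.Opens).ι, Category.assoc, morphismRestrict_ι,
        reassoc_of% hg₁, hg', Category.assoc]
    refine ⟨W, hW, hW', φ, hφ, k, ?_⟩
    dsimp only
    rw [hk]
    exact ⟨g₂, key⟩
  · refine ⟨(e.symm k).1, (C _).f _ ≫ (E.f (e.symm k).1 ⁻¹ᵁ (U : T.Opens)).ι, ?_⟩
    change _ = ((C _).f _ ≫ _ ∣_ _) ≫ _
    rw [Category.assoc, Category.assoc, morphismRestrict_ι]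

end Groth.HTopHyper
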