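import Groth.Agent.HTopHyper.DvrLiftGeom
import Groth.Agent.HTopHyper.StdHDescent
import Groth.Agent.HTopHyper.VCover
import Groth.Agent.SpectralTopology.AlgSystem
import Groth.Agent.BlowUpBasics.StrictTransform
import Groth.Agent.HensPair.ProperClopenNoeth
import Groth.Agent.CohFin.ProjFinite

/-! Finite type descends along universally submersive morphisms of Noetherian schemes. -/

set_option autoImplicit false
set_option backward.isDefEq.respectTransparency false

universe u

open CategoryTheory CategoryTheory.Limits AlgebraicGeometry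

namespace Groth.HTopHyper

open Groth.SpectralTopology Groth.Limits

theorem univSubmersive_pullback_snd {X S T : Scheme.{u}} (f : X ⟶ S) (g : T ⟶ S)
    (hf : SGA1.UnivSubmersive f) : SGA1.UnivSubmersive (pullback.snd f g) :=
  MorphismProperty.of_isPullback
    (P := MorphismProperty.universally
      (AlgebraicGeometry.topologically fun f => Topology.IsQuotientMap f))
    (IsPullback.of_hasPullback f g) hf

theorem isHCover_singleton_of_univSubmersive {P X : Scheme.{u}} [IsNoetherian X] (f : P ⟶ X)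
    [LocallyOfFiniteType f] [QuasiCompact f] (hf : SGA1.UnivSubmersive f) :
    HTop.IsHCover (PreZeroHypercover.singleton.{u} f) := by
  let E : PreZeroHypercover.{u} X := PreZeroHypercover.singleton.{u} f
  have hd : HasDvrLift E := by
    intro D _ _ g
    obtain ⟨x', x, h, h', h₀⟩ := exists_specializes_of_univSubmersive _ hf D g
    obtain ⟨W, hW, hW', φ, hφ, l, hl, -, -⟩ := exists_ext_of_specializes _ h h' h₀
    exact ⟨W, hW, hW', φ, hφ, PUnit.unit, l ≫ pullback.snd _ _, by
      refine (Category.assoc _ _ _).trans ?_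
      exact (congrArg (l ≫ ·) pullback.condition.symm).trans
        ((Category.assoc _ _ _).symm.trans (congrArg (· ≫ g) hl))⟩
  have : Finite E.I₀ := inferInstanceAs (Finite PUnit)
  refine ⟨fun _ => LocallyOfFinitePresentation.iff_locallyOfFiniteType.mpr
    (inferInstanceAs (LocallyOfFiniteType f)), ?_⟩
  exact isVCover_of_hasValLift (fun _ => inferInstanceAs (QuasiCompact f))
    (hasValLift_of_hasDvrLift E (fun _ => inferInstanceAs (LocallyOfFiniteType f))
      (fun _ => inferInstanceAs (QuasiCompact f)) hd)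

/-- Morphisms to an affine scheme are determined on a scheme theoretically dense part. -/
theorem hom_ext_of_dominant {Y I T : Scheme.{u}} (q : Y ⟶ I) [IsSchemeTheoreticallyDominant q]
    [QuasiCompact q] [IsAffine T] {a b : I ⟶ T} (h : q ≫ a = q ≫ b) : a = b := by
  refine ext_of_isAffine ?_
  ext s
  refine q.app_injective ⊤ ?_
  have h' := congrArg (fun φ : Y ⟶ T => φ.appTop s) h
  simpa using h'

/-- Descent to a stage of a finite affine cover with lifts, compatible with the given lifts. -/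
theorem exists_stage_lift_compat {I : Type u} [Category.{u} I] [IsCofiltered I] (D : I ⥤ Scheme.{u})
    [∀ {i j} (f : i ⟶ j), IsAffineHom (D.map f)] [∀ i, CompactSpace (D.obj i)]
    [∀ i, QuasiSeparatedSpace (D.obj i)] (c : Cone D) (hc : IsLimit c) {S : Scheme.{u}}
    (st : D ⟶ (Functor.const I).obj S) {q : c.pt ⟶ S} (hq : ∀ i, c.π.app i ≫ st.app i = q)
    {J : Type u} [Finite J] (W : J → c.pt.Opens) (hW : TopologicalSpace.IsOpenCover W)
    (hWa : ∀ k, IsAffineOpen (W k)) (Y : J → Scheme.{u}) (g : ∀ k, Y k ⟶ S)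
    [∀ k, LocallyOfFinitePresentation (g k)] (a : ∀ k, (W k : Scheme.{u}) ⟶ Y k)
    (ha : ∀ k, a k ≫ g k = (W k).ι ≫ q) :
    ∃ (i : I) (V : J → (D.obj i).Opens) (hVW : ∀ k, c.π.app i ⁻¹ᵁ V k = W k)
      (b : ∀ k, (V k : Scheme.{u}) ⟶ Y k), TopologicalSpace.IsOpenCover V ∧
      ∀ k, (c.π.app i).resLE (V k) (W k) (hVW k).ge ≫ b k = a k := by
  classical
  obtain ⟨i, V, hV, hVW⟩ := Scheme.exists_isOpenCover_and_isAffine_of_finite D c hc W hW hWa
  have step : ∀ k, ∃ (j : I) (φ : j ⟶ i) (b : (D.map φ ⁻¹ᵁ V k : Scheme.{u}) ⟶ Y k),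
      (c.π.app j).resLE (D.map φ ⁻¹ᵁ V k) (W k) (by
        rw [← Scheme.Hom.comp_preimage, c.w, (hVW k).2]) ≫ b = a k := fun k => by
    have : ∀ j : Over i, IsAffine ((opensDiagram D i (V k)).obj j) := fun j => (hVW k).1.preimage _
    have : ∀ j : Over i, CompactSpace ((opensDiagram D i (V k)).obj j) := fun j => inferInstance
    have : ∀ j : Over i, QuasiSeparatedSpace ((opensDiagram D i (V k)).obj j) := fun j =>
      inferInstance
    let t : opensDiagram D i (V k) ⟶ (Functor.const (Over i)).obj S :=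
      opensDiagramι D i (V k) ≫ Functor.whiskerLeft (Over.forget i) st
    let e : (c.π.app i ⁻¹ᵁ V k : Scheme.{u}) ⟶ Y k := (c.pt.isoOfEq (hVW k).2.symm).hom ≫ a k
    obtain ⟨j, b, hb, -⟩ := Scheme.exists_π_app_comp_eq_of_locallyOfFinitePresentation
      (opensDiagram D i (V k)) t (g k) (opensCone D c i (V k)) (isLimitOpensCone D c hc i (V k)) e
      (by
        ext j : 2
        show (c.π.app j.left).resLE _ _ _ ≫ (D.map j.hom ⁻¹ᵁ V k).ι ≫ st.app j.left = e ≫ g k
        rw [Scheme.Hom.resLE_comp_ι_assoc, hq, Category.assoc, ha,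
          Scheme.isoOfEq_hom_ι_assoc])
    refine ⟨j.left, j.hom, b, ?_⟩
    have h2 : (c.π.app j.left).resLE (D.map j.hom ⁻¹ᵁ V k) (c.π.app i ⁻¹ᵁ V k) (by
        rw [← Scheme.Hom.comp_preimage, c.w]) ≫ b = e := hb
    refine Eq.trans ?_ (Eq.trans (congrArg ((c.pt.isoOfEq (hVW k).2).hom ≫ ·) h2) ?_)
    · rw [← Category.assoc]
      congr 1
      rw [← cancel_mono (D.map j.hom ⁻¹ᵁ V k).ι]
      simp only [Category.assoc, Scheme.Hom.resLE_comp_ι, Scheme.isoOfEq_hom_ι_assoc]
    · simp only [e]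
      rw [← Category.assoc]
      refine (congrArg (· ≫ a k) (?_ : _ = 𝟙 _)).trans (Category.id_comp _)
      rw [← cancel_mono (W k).ι, Category.assoc, Scheme.isoOfEq_hom_ι, Scheme.isoOfEq_hom_ι,
        Category.id_comp]
  choose j φ b hb using step
  obtain ⟨m, ξ, ξ', hξ⟩ : ∃ (m : I) (ξ : m ⟶ i) (ξ' : ∀ k, m ⟶ j k), ∀ k, ξ' k ≫ φ k = ξ := by
    obtain ⟨m, ξ, θ, hθ⟩ := IsCofiltered.wideCospan φ
    exact ⟨m, ξ, θ, hθ⟩
  refine ⟨m, fun k => D.map ξ ⁻¹ᵁ V k, fun k => by
      rw [← Scheme.Hom.comp_preimage, c.w, (hVW k).2],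
    fun k => (D.map (ξ' k)).resLE (D.map (φ k) ⁻¹ᵁ V k) _ (by
      rw [← Scheme.Hom.comp_preimage, ← D.map_comp, hξ]) ≫ b k, ?_, fun k => ?_⟩
  · show ⨆ k, D.map ξ ⁻¹ᵁ V k = ⊤
    rw [← Scheme.Hom.preimage_iSup, hV]; rfl
  · refine Eq.trans ?_ (hb k)
    rw [← Category.assoc]
    congr 1
    rw [← cancel_mono (D.map (φ k) ⁻¹ᵁ V k).ι]
    simp only [Category.assoc, Scheme.Hom.resLE_comp_ι, Scheme.Hom.resLE_comp_ι_assoc, c.w]

theorem finiteType_of_univSubmersive_reduced {R A : CommRingCat.{u}} [Algebra R A]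
    [IsNoetherianRing R] [IsNoetherianRing A] [IsReduced A] {P : Scheme.{u}} (f : P ⟶ Spec A)
    [QuasiCompact f] (hf : SGA1.UnivSubmersive f)
    [LocallyOfFiniteType (f ≫ Spec.map (CommRingCat.ofHom (algebraMap R A)))] :
    Algebra.FiniteType R A := by
  classical
  let ρ : Spec A ⟶ Spec R := Spec.map (CommRingCat.ofHom (algebraMap R A))
  have : LocallyOfFiniteType f := locallyOfFiniteType_of_comp f ρ
  have : LocallyOfFinitePresentation (f ≫ ρ) :=
    LocallyOfFinitePresentation.iff_locallyOfFiniteType.mpr ‹_›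
  have : IsNoetherian (Spec A) := inferInstance
  obtain ⟨Y, g, n, V, hg, hgs, hgf, hVa, hV, hl⟩ :=
    exists_fp_refinement _ (isHCover_singleton_of_univSubmersive f hf)
  replace hl : ∀ k, ∃ h : ((V k : Y.Opens) : Scheme.{u}) ⟶ P, h ≫ f = (V k).ι ≫ g := fun k => by
    obtain ⟨_, h', hh'⟩ := hl k; exact ⟨h', hh'⟩
  choose h hh using hl
  let D := algSchemes R A
  let c := algCone R A
  have hc : IsLimit c := isLimitAlgCone R A
  have : IsAffine c.pt := inferInstanceAs (IsAffine (Spec A))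
  have : ∀ i, IsAffine (D.obj i) := fun i => inferInstanceAs (IsAffine (Spec _))
  let g₀ : Y ⟶ c.pt := g
  obtain ⟨i, N, hN, -⟩ := exists_properSurj_stageModel hc g₀
  let D' := pullbackDiagram D i N.hom
  have : ∀ j : Over i, CompactSpace (D'.obj j) := fun j =>
    QuasiCompact.compactSpace_of_compactSpace (pullback.fst (D.map j.hom) N.hom)
  have : ∀ j : Over i, QuasiSeparatedSpace (D'.obj j) := fun j =>
    quasiSeparatedSpace_of_quasiSeparated (pullback.fst (D.map j.hom) N.hom)
  let e := N.sq.flip.isoPullback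
  let st : D' ⟶ (Functor.const (Over i)).obj (Spec R) :=
    { app := fun j => pullback.snd (D.map j.hom) N.hom ≫ N.hom ≫ algToBase R A i
      naturality := fun a b m => (pullback.lift_snd_assoc _ _ _ _).trans (Category.comp_id _).symm }
  let W : ULift.{u} (Fin n) → (pullbackCone D i N.hom c).pt.Opens := fun k => e.inv ⁻¹ᵁ V k.down
  obtain ⟨j, V', hVW, b, hV', hb⟩ := exists_stage_lift_compat D' _
    (isLimitPullbackCone D i N.hom hc) st
    (q := pullback.snd (c.π.app i) N.hom ≫ N.hom ≫ algToBase R A i)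
    (fun j => by
      show pullback.lift _ _ _ ≫ pullback.snd _ _ ≫ _ = _
      rw [pullback.lift_snd_assoc]; rfl)
    W (by
      show ⨆ k, W k = ⊤
      rw [← Scheme.Hom.preimage_iSup]
      refine (congrArg (e.inv ⁻¹ᵁ ·) (?_ : (⨆ k : ULift.{u} (Fin n), V k.down) = ⊤)).trans rfl
      rw [← hV]
      exact Equiv.iSup_comp (g := V) Equiv.ulift)
    (fun k => (hVa k.down).preimage_of_isIso _) (fun _ => P)
    (fun _ => f ≫ ρ)
    (fun k => e.inv ∣_ V k.down ≫ h k.down)
    (fun k => by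
      rw [Category.assoc, reassoc_of% (hh k.down), morphismRestrict_ι_assoc]
      have hkey : e.inv ≫ g ≫ ρ = pullback.snd (c.π.app i) N.hom ≫ N.hom ≫ algToBase R A i := by
        rw [← Category.assoc, show e.inv ≫ g = pullback.fst (c.π.app i) N.hom from
          N.sq.flip.isoPullback_inv_fst, ← pullback.condition_assoc]
        exact congrArg (pullback.fst (c.π.app i) N.hom ≫ ·) (algCone_π_toBase R A i).symm
      exact congrArg ((W k).ι ≫ ·) hkey)
  -- the scheme theoretic image at the stage `j`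
  let Pj := pullback (D.map j.hom) N.hom
  let q : Y ⟶ Pj := e.hom ≫ (pullbackCone D i N.hom c).π.app j
  have hqfst : q ≫ pullback.fst (D.map j.hom) N.hom = g₀ ≫ c.π.app j.left := by
    show (e.hom ≫ pullback.lift _ _ _) ≫ pullback.fst _ _ = _
    rw [Category.assoc, pullback.lift_fst, ← Category.assoc]
    exact congrArg (· ≫ c.π.app j.left) N.sq.flip.isoPullback_hom_fst
  have : IsProper (pullback.fst (D.map j.hom) N.hom) := MorphismProperty.pullback_fst _ _ hN
  have : CompactSpace Y := QuasiCompact.compactSpace_of_compactSpace g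
  have : QuasiSeparatedSpace Pj := quasiSeparatedSpace_of_quasiSeparated
    (pullback.fst (D.map j.hom) N.hom)
  have : QuasiCompact q := quasiCompact_of_compactSpace q
  have := Groth.BlowUpBasics.isSchemeTheoreticallyDominant_toImage q
  let O : ULift.{u} (Fin n) → q.image.Opens := fun k => q.imageι ⁻¹ᵁ V' k
  have hO : ⨆ k, O k = ⊤ := by
    show ⨆ k, q.imageι ⁻¹ᵁ V' k = ⊤
    rw [← Scheme.Hom.preimage_iSup, show ⨆ k, V' k = ⊤ from hV']; rfl
  let u : ∀ k, (O k : Scheme.{u}) ⟶ Spec A := fun k => q.imageι ∣_ V' k ≫ b k ≫ f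
  have hu : ∀ k, (q.toImage ∣_ O k) ≫ u k = (q.toImage ⁻¹ᵁ O k).ι ≫ g := by
    intro k
    have hpre : q.toImage ⁻¹ᵁ O k = V k.down := by
      show q.toImage ⁻¹ᵁ (q.imageι ⁻¹ᵁ V' k) = _
      rw [← Scheme.Hom.comp_preimage, Scheme.Hom.toImage_imageι, Scheme.Hom.comp_preimage, hVW k,
        ← Scheme.Hom.comp_preimage, Iso.hom_inv_id]
      rfl
    have h1 : (q.toImage ∣_ O k) ≫ q.imageι ∣_ V' k =
        e.hom.resLE (W k) (q.toImage ⁻¹ᵁ O k) (by
          rw [hpre]
          show V k.down ≤ e.hom ⁻¹ᵁ (e.inv ⁻¹ᵁ V k.down)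
          rw [← Scheme.Hom.comp_preimage, Iso.hom_inv_id]; rfl) ≫
        ((pullbackCone D i N.hom c).π.app j).resLE (V' k) (W k) (hVW k).ge := by
      rw [← cancel_mono (V' k).ι]
      refine (Category.assoc _ _ _).trans (Eq.trans ?_ (Category.assoc _ _ _).symm)
      rw [morphismRestrict_ι, Scheme.Hom.resLE_comp_ι, Scheme.Hom.resLE_comp_ι_assoc,
        morphismRestrict_ι_assoc]
      exact congrArg ((q.toImage ⁻¹ᵁ O k).ι ≫ ·) q.toImage_imageι
    simp only [u]
    rw [reassoc_of% h1, reassoc_of% (hb k), hh, morphismRestrict_ι_assoc,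
      Scheme.Hom.resLE_comp_ι_assoc, Iso.hom_inv_id_assoc]
  let 𝒰 := q.image.openCoverOfIsOpenCover O hO
  have hglue : ∀ k l, pullback.fst (𝒰.f k) (𝒰.f l) ≫ u k = pullback.snd (𝒰.f k) (𝒰.f l) ≫ u l := by
    intro k l
    let o : pullback (𝒰.f k) (𝒰.f l) ⟶ q.image := pullback.fst _ _ ≫ 𝒰.f k
    refine hom_ext_of_dominant (pullback.snd q.toImage o) ?_
    let F₁ : pullback q.toImage o ⟶ (q.toImage ⁻¹ᵁ O k : Scheme.{u}) :=
      (isPullback_morphismRestrict q.toImage (O k)).lift (pullback.snd _ _ ≫ pullback.fst _ _)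
        (pullback.fst _ _) (by rw [Category.assoc]; exact (pullback.condition (f := q.toImage) (g := o)).symm)
    let F₂ : pullback q.toImage o ⟶ (q.toImage ⁻¹ᵁ O l : Scheme.{u}) :=
      (isPullback_morphismRestrict q.toImage (O l)).lift (pullback.snd _ _ ≫ pullback.snd _ _)
        (pullback.fst _ _) (by
          rw [Category.assoc]
          refine Eq.trans ?_ (pullback.condition (f := q.toImage) (g := o)).symm
          exact congrArg (pullback.snd q.toImage o ≫ ·) pullback.condition.symm)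
    have e1 : F₁ ≫ (q.toImage ∣_ O k) = pullback.snd _ _ ≫ pullback.fst _ _ :=
      (isPullback_morphismRestrict q.toImage (O k)).lift_fst _ _ _
    have e2 : F₂ ≫ (q.toImage ∣_ O l) = pullback.snd _ _ ≫ pullback.snd _ _ :=
      (isPullback_morphismRestrict q.toImage (O l)).lift_fst _ _ _
    have l1 : (pullback.snd q.toImage o ≫ pullback.fst (𝒰.f k) (𝒰.f l)) ≫ u k =
        (F₁ ≫ (q.toImage ⁻¹ᵁ O k).ι) ≫ g :=
      (congrArg (· ≫ u k) e1.symm).trans ((Category.assoc _ _ _).trans
        ((congrArg (F₁ ≫ ·) (hu k)).trans (Category.assoc _ _ _).symm))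
    have l2 : (pullback.snd q.toImage o ≫ pullback.snd (𝒰.f k) (𝒰.f l)) ≫ u l =
        (F₂ ≫ (q.toImage ⁻¹ᵁ O l).ι) ≫ g :=
      (congrArg (· ≫ u l) e2.symm).trans ((Category.assoc _ _ _).trans
        ((congrArg (F₂ ≫ ·) (hu l)).trans (Category.assoc _ _ _).symm))
    refine (Category.assoc _ _ _).symm.trans (l1.trans (Eq.trans ?_ (l2.symm.trans (Category.assoc _ _ _))))
    exact congrArg (· ≫ g) (((isPullback_morphismRestrict q.toImage (O k)).lift_snd _ _ _).trans
      ((isPullback_morphismRestrict q.toImage (O l)).lift_snd _ _ _).symm)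
  let m : q.image ⟶ Spec A := 𝒰.glueMorphisms u hglue
  have hm : q.toImage ≫ m = g := by
    refine (Y.openCoverOfIsOpenCover (fun k => q.toImage ⁻¹ᵁ O k) ?_).hom_ext _ _ fun k => ?_
    · show ⨆ k, q.toImage ⁻¹ᵁ O k = ⊤
      rw [← Scheme.Hom.preimage_iSup, hO]; rfl
    · show (q.toImage ⁻¹ᵁ O k).ι ≫ q.toImage ≫ m = (q.toImage ⁻¹ᵁ O k).ι ≫ g
      rw [← morphismRestrict_ι_assoc, ← hu]
      exact congrArg ((q.toImage ∣_ O k) ≫ ·) (𝒰.ι_glueMorphisms u hglue k)
  let pj : q.image ⟶ D.obj j.left := q.imageι ≫ pullback.fst (D.map j.hom) N.hom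
  have hmj : m ≫ c.π.app j.left = pj := by
    refine hom_ext_of_dominant q.toImage ?_
    rw [reassoc_of% hm, show q.toImage ≫ pj = q ≫ pullback.fst (D.map j.hom) N.hom from
      (Category.assoc _ _ _).symm.trans (congrArg (· ≫ _) q.toImage_imageι), hqfst]
  have : IsProper pj := inferInstanceAs (IsProper (q.imageι ≫ pullback.fst (D.map j.hom) N.hom))
  -- rings
  let A₁ := j.left.unop.1
  have hA₁ : Algebra.FiniteType R A₁ := A₁.fg_iff_finiteType.mp j.left.unop.2
  have : IsNoetherianRing A₁ := Algebra.FiniteType.isNoetherianRing R _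
  let pj' : q.image ⟶ Spec (CommRingCat.of A₁) := pj
  have : IsProper pj' := ‹IsProper pj›
  have hfin := Groth.HensPair.finite_globalSections_of_proper (A := A₁) Groth.CohFin.projFinite pj'
  let χ : A →+* Γ(q.image, ⊤) := m.appTop.hom.comp (Scheme.ΓSpecIso A).inv.hom
  let τ : A₁ →+* Γ(q.image, ⊤) := Groth.HensPair.toΓ pj'
  letI := τ.toAlgebra
  have hlin : ∀ a : A₁, χ (a : A) = τ a := fun a => by
    have hπ : (c.π.app j.left).appTop ((Scheme.ΓSpecIso (CommRingCat.of A₁)).inv a) =
        (Scheme.ΓSpecIso A).inv (a : A) := by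
      exact congr($(Scheme.ΓSpecIso_inv_naturality
        (CommRingCat.ofHom (S := (A : Type u)) A₁.val.toRingHom)) a).symm
    have h' := congrArg (fun φ : q.image ⟶ D.obj j.left =>
      φ.appTop ((Scheme.ΓSpecIso (CommRingCat.of A₁)).inv a)) hmj
    show m.appTop ((Scheme.ΓSpecIso A).inv (a : A)) = _
    rw [← hπ]
    exact h'
  let L : A →ₗ[A₁] Γ(q.image, ⊤) :=
    { toFun := χ
      map_add' := χ.map_add
      map_smul' := fun a x => by
        show χ ((a : A) * x) = τ a * χ x
        rw [map_mul, hlin] }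
  have hinj : Function.Injective L := by
    rw [injective_iff_map_eq_zero]
    intro x hx
    refine IsNilpotent.eq_zero ?_
    rw [← mem_nilradical, nilradical_eq_sInf, Submodule.mem_sInf]
    intro J hJ
    obtain ⟨y, hy⟩ := g.surjective (⟨J, hJ⟩ : Spec A)
    by_contra hxJ
    have hy' : g y ∈ (Spec A).basicOpen ((Scheme.ΓSpecIso A).inv x) := by
      rw [basicOpen_eq_of_affine, hy]; exact hxJ
    have hy'' : y ∈ g ⁻¹ᵁ (Spec A).basicOpen ((Scheme.ΓSpecIso A).inv x) := hy'
    rw [Scheme.preimage_basicOpen] at hy''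
    have h0 : g.appTop ((Scheme.ΓSpecIso A).inv x) = 0 := by
      rw [← hm]
      show q.toImage.appTop (L x) = 0
      rw [hx, map_zero]
    erw [h0] at hy''
    simp at hy''
  have : IsNoetherian A₁ Γ(q.image, ⊤) := isNoetherian_of_isNoetherianRing_of_finite A₁ _
  have : Module.Finite A₁ A := Module.Finite.of_injective L hinj
  exact Algebra.FiniteType.trans hA₁ inferInstance

theorem finiteType_of_univSubmersive {R A : CommRingCat.{u}} [Algebra R A]
    [IsNoetherianRing R] [IsNoetherianRing A] {P : Scheme.{u}} (f : P ⟶ Spec A)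
    [QuasiCompact f] (hf : SGA1.UnivSubmersive f)
    [LocallyOfFiniteType (f ≫ Spec.map (CommRingCat.ofHom (algebraMap R A)))] :
    Algebra.FiniteType R A := by
  classical
  let N := nilradical A
  let B : CommRingCat.{u} := CommRingCat.of ((A : Type u) ⧸ N)
  letI : Algebra R B := inferInstanceAs (Algebra R ((A : Type u) ⧸ N))
  have : IsNoetherianRing B := inferInstanceAs (IsNoetherianRing ((A : Type u) ⧸ N))
  have : IsReduced B := (Ideal.isRadical_iff_quotient_reduced _).mp (Ideal.radical_isRadical _)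
  let κ : Spec B ⟶ Spec A := Spec.map (CommRingCat.ofHom (S := (B : Type u)) (Ideal.Quotient.mk N))
  have : IsClosedImmersion κ := IsClosedImmersion.spec_of_surjective _ Ideal.Quotient.mk_surjective
  let ρ : Spec A ⟶ Spec R := Spec.map (CommRingCat.ofHom (algebraMap R A))
  have hκ : κ ≫ ρ = Spec.map (CommRingCat.ofHom (algebraMap R B)) := by
    rw [← Spec.map_comp]; rfl
  have : LocallyOfFiniteType (pullback.snd f κ ≫ Spec.map (CommRingCat.ofHom (algebraMap R B))) := by
    rw [← hκ, ← pullback.condition_assoc]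
    infer_instance
  have hB : Algebra.FiniteType R B :=
    finiteType_of_univSubmersive_reduced _ (univSubmersive_pullback_snd f κ hf)
  obtain ⟨s, hs⟩ := hB.out
  have hmk : Function.Surjective (Ideal.Quotient.mkₐ R N) := Ideal.Quotient.mkₐ_surjective R N
  choose lift hlift using hmk
  obtain ⟨t, ht⟩ := IsNoetherian.noetherian N
  let S := Algebra.adjoin R ((↑(s.image lift) : Set A) ∪ t)
  have hsurj : ∀ a : A, ∃ x ∈ S, a - x ∈ N := fun a => by
    have : (S.map (Ideal.Quotient.mkₐ R N)) = ⊤ := by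
      rw [eq_top_iff, ← hs, Algebra.adjoin_le_iff]
      intro y hy
      exact ⟨lift y, Algebra.subset_adjoin (Or.inl (Finset.mem_image_of_mem lift hy)), hlift y⟩
    obtain ⟨x, hx, hxa⟩ := (this ▸ Algebra.mem_top : Ideal.Quotient.mkₐ R N a ∈ S.map _)
    exact ⟨x, hx, Ideal.Quotient.eq.mp hxa.symm⟩
  have key : ∀ k a, ∃ x ∈ S, a - x ∈ N ^ k := by
    intro k
    induction k with
    | zero => exact fun a => ⟨0, zero_mem _, by simp⟩
    | succ k ih =>
      intro a
      obtain ⟨x, hx, hax⟩ := hsurj a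
      rw [← ht] at hax
      obtain ⟨c, -, hc⟩ := Submodule.mem_span_finset.mp hax
      choose y hy hcy using fun z => ih (c z)
      refine ⟨x + ∑ z ∈ t, y z * z, add_mem hx (sum_mem fun z hz =>
        mul_mem (hy z) (Algebra.subset_adjoin (Or.inr hz))), ?_⟩
      have : a - (x + ∑ z ∈ t, y z * z) = ∑ z ∈ t, (c z - y z) * z := by
        rw [← sub_sub, ← hc, ← Finset.sum_sub_distrib]
        simp only [smul_eq_mul, sub_mul]
      rw [this, pow_succ]
      exact sum_mem fun z hz => Ideal.mul_mem_mul (hcy z) (ht ▸ Ideal.subset_span hz)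
  obtain ⟨M, hM⟩ := IsNoetherianRing.isNilpotent_nilradical A
  refine ⟨Subalgebra.fg_def.mpr ⟨_, (s.image lift).finite_toSet.union t.finite_toSet, ?_⟩⟩
  refine top_le_iff.mp fun a _ => ?_
  obtain ⟨x, hx, hax⟩ := key M a
  rw [hM] at hax
  exact sub_eq_zero.mp hax ▸ hx

end Groth.HTopHyper
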