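import Groth.Agent.HTopHyper.GradedBound
import Mathlib.Algebra.Module.SpanRankOperations
import Mathlib.RingTheory.Flat.Localization
import Mathlib.RingTheory.Localization.Integer
import Mathlib.RingTheory.Localization.FractionRing
import Mathlib.LinearAlgebra.Determinant
import Mathlib.LinearAlgebra.Dimension.OrzechProperty
import Mathlib.RingTheory.Finiteness.Subalgebra

/-! # Flattening of generically finite algebras by a blow-up -/

set_option autoImplicit false
set_option backward.isDefEq.respectTransparency false

universe u

open Module Submodule TensorProduct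
open scoped Pointwise

namespace Groth.HTopHyper.GenFlat

section Local

variable {R L : Type u} [CommRing R] [IsDomain R] [IsLocalRing R] [Field L] [Algebra R L]
  [FaithfulSMul R L]

/-- Multiplication by an element of `G` between the powers of its span. -/
noncomputable def mulMap (G : Set L) (i : G) (e : ℕ) :
    ↥((span R G) ^ e) →ₗ[R] ↥((span R G) ^ (e + 1)) :=
  LinearMap.codRestrict _ ((LinearMap.mulLeft R (i : L)).comp (Submodule.subtype _)) fun x => by
    rw [pow_succ']
    exact Submodule.mul_mem_mul (subset_span i.2) x.2

omit [IsDomain R] [IsLocalRing R] [FaithfulSMul R L] in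
theorem iSup_range_mulMap (G : Set L) (e : ℕ) :
    ⨆ i, LinearMap.range (mulMap (R := R) G i e) = ⊤ := by
  refine Submodule.map_injective_of_injective ((span R G) ^ (e + 1)).subtype_injective ?_
  rw [Submodule.map_top, Submodule.range_subtype]
  refine le_antisymm (Submodule.map_subtype_le _ _) ?_
  refine le_of_eq_of_le (pow_succ' _ e) (Submodule.mul_le.mpr fun x hx n hn => ?_)
  induction hx using Submodule.span_induction with
  | mem g hg =>
    exact ⟨mulMap G ⟨g, hg⟩ e ⟨n, hn⟩, mem_iSup_of_mem ⟨g, hg⟩ ⟨_, rfl⟩, rfl⟩
  | zero => rw [zero_mul]; exact zero_mem _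
  | add a b _ _ ha hb => rw [add_mul]; exact add_mem ha hb
  | smul r a _ ha => rw [smul_mul_assoc]; exact smul_mem _ r ha

omit [IsDomain R] [FaithfulSMul R L] in
theorem spanFinrank_pow_succ_le (G : Set L) (hG : G.Finite) (e b : ℕ)
    (hb : ((span R G) ^ e).spanFinrank ≤ b) (hbe : b ≤ e) :
    ((span R G) ^ (e + 1)).spanFinrank ≤ b := by
  have hfg : ∀ e, ((span R G) ^ e).FG := fun e => Submodule.FG.pow ⟨hG.toFinset, by simp⟩ e
  haveI : ∀ e, Module.Finite R ↥((span R G) ^ e) := fun e => Module.Finite.iff_fg.mpr (hfg e)
  let k := IsLocalRing.ResidueField R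
  let V : ℕ → Type u := fun e => k ⊗[R] ↥((span R G) ^ e)
  let f : G → ∀ e, V e →ₗ[k] V (e + 1) := fun i e => (mulMap G i e).baseChange k
  have key : ∀ e, finrank k (V e) = ((span R G) ^ e).spanFinrank := fun e => by
    rw [Module.finrank_eq_spanFinrank_of_free,
      TensorProduct.spanFinrank_top_eq_of_residueField _ (hfg e)]
  rw [← key] at hb ⊢
  refine finrank_succ_le b V f ?_ ?_ e hb hbe
  · intro i j e v
    induction v using TensorProduct.induction_on with
    | zero => simp
    | tmul a m =>
      refine congrArg (fun z => a ⊗ₜ[R] z) (Subtype.ext ?_)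
      exact mul_left_comm (i : L) (j : L) (m : L)
    | add a b ha hb => simp only [map_add, ha, hb]
  · intro e
    rw [eq_top_iff]
    rintro v -
    induction v using TensorProduct.induction_on with
    | zero => exact zero_mem _
    | tmul a m =>
      have : ∀ z : ↥((span R G) ^ (e + 1)), a ⊗ₜ[R] z ∈ ⨆ i, LinearMap.range (f i e) := by
        intro z
        have hz : z ∈ ⨆ i, LinearMap.range (mulMap (R := R) G i e) := by
          rw [iSup_range_mulMap]; trivial
        induction hz using Submodule.iSup_induction' with
        | mem i z hz =>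
          obtain ⟨w, rfl⟩ := hz
          exact mem_iSup_of_mem i ⟨a ⊗ₜ[R] w, rfl⟩
        | zero => rw [TensorProduct.tmul_zero]; exact zero_mem _
        | add x y _ _ hx hy => rw [TensorProduct.tmul_add]; exact add_mem hx hy
      exact this m
    | add a b ha hb => exact add_mem ha hb

/-- If the degree `d` power of the span is free on `d` elements then all higher powers are flat. -/
theorem flat_pow {G : Set L} (hG : G.Finite) (h1 : (1 : L) ∈ G) {d : ℕ} (b : Fin d → L)
    (hli : LinearIndependent R b) (hb : span R (Set.range b) = (span R G) ^ d) (e : ℕ) (he : d ≤ e) :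
    Module.Flat R ↥((span R G) ^ e) := by
  classical
  have hfg : ((span R G) ^ e).FG := Submodule.FG.pow ⟨hG.toFinset, by simp⟩ e
  have hle : ((span R G) ^ e).spanFinrank ≤ d := by
    induction e, he using Nat.le_induction with
    | base =>
      rw [← hb]
      refine (spanFinrank_span_le_ncard_of_finite (Set.finite_range b)).trans ?_
      rw [← Set.image_univ]
      exact (Set.ncard_image_le).trans (by simp)
    | succ e he ih =>
      exact spanFinrank_pow_succ_le G hG e d (ih (Submodule.FG.pow ⟨hG.toFinset, by simp⟩ e)) he
  obtain ⟨t, htc, htspan⟩ := hfg.exists_span_finset_card_eq_spanFinrank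
  let F := FractionRing R
  letI : Algebra F L := FractionRing.liftAlgebra R L
  haveI : IsScalarTower R F L := FractionRing.isScalarTower_liftAlgebra R L
  have hbF : LinearIndependent F b := (LinearIndependent.iff_fractionRing R F).mp hli
  have hbt : span F (Set.range b) ≤ span F (t : Set L) := by
    rw [Submodule.span_le]
    rintro _ ⟨i, rfl⟩
    have h : b i ∈ span R (t : Set L) := by
      rw [htspan]
      exact SetLike.le_def.mp
        (pow_le_pow_right' (M := Submodule R L) (Submodule.one_le.mpr (subset_span h1)) he)
        (hb ▸ subset_span ⟨i, rfl⟩)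
    exact Submodule.span_le_restrictScalars R F _ h
  haveI : FiniteDimensional F ↥(span F (t : Set L)) := FiniteDimensional.span_finset F t
  have h2 : d ≤ finrank F ↥(span F (t : Set L)) := by
    have := Submodule.finrank_mono hbt
    rwa [finrank_span_eq_card hbF, Fintype.card_fin] at this
  have h3 : LinearIndependent F (Subtype.val : t → L) := by
    refine linearIndependent_iff_card_eq_finrank_span.mpr ?_
    have hr : Set.range (Subtype.val : t → L) = (t : Set L) := Subtype.range_val
    rw [Fintype.card_coe, Set.finrank, hr]
    refine le_antisymm (le_trans (le_trans htc.le hle) h2) (finrank_span_finset_le_card t)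
  have h4 : LinearIndependent R (Subtype.val : t → L) :=
    (LinearIndependent.iff_fractionRing R F).mpr h3
  have hr : span R (Set.range (Subtype.val : t → L)) = (span R G) ^ e := by
    rw [show Set.range (Subtype.val : t → L) = (t : Set L) from Subtype.range_val, htspan]
  haveI : Module.Free R ↥((span R G) ^ e) :=
    Module.Free.of_basis ((Module.Basis.span h4).map (LinearEquiv.ofEq _ _ hr))
  infer_instance

end Local

section Global

theorem adjoin_eq_iSup {R L : Type u} [CommRing R] [CommRing L] [Algebra R L] (s : Set L) :
    Subalgebra.toSubmodule (Algebra.adjoin R s) = ⨆ e, (span R (insert (1 : L) s)) ^ e := by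
  refine le_antisymm ?_ (iSup_le fun e => ?_)
  · rw [Algebra.adjoin_eq_span, Submodule.span_le]
    intro x hx
    induction hx using Submonoid.closure_induction with
    | mem y hy =>
      exact mem_iSup_of_mem 1 (by rw [pow_one]; exact subset_span (Or.inr hy))
    | one => exact mem_iSup_of_mem 0 (by rw [pow_zero]; exact Submodule.one_le.mp le_rfl)
    | mul y z _ _ hy hz =>
      have := Submodule.mul_mem_mul hy hz
      rw [Submodule.iSup_mul] at this
      refine SetLike.le_def.mp (iSup_le fun i => ?_) this
      rw [Submodule.mul_iSup]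
      exact iSup_le fun j => by rw [← pow_add]; exact le_iSup (fun e => span R (insert 1 s) ^ e) _
  · induction e with
    | zero => rw [pow_zero, Submodule.one_le]; exact (Algebra.adjoin R s).one_mem
    | succ e ih =>
      rw [pow_succ]
      refine Submodule.mul_le.mpr fun x hx y hy =>
        Subalgebra.mul_mem (Algebra.adjoin R s) (ih hx) ?_
      induction hy using Submodule.span_induction with
      | mem z hz =>
        rcases hz with rfl | hz
        · exact one_mem _
        · exact Algebra.subset_adjoin hz
      | zero => exact zero_mem _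
      | add a b _ _ ha hb => exact add_mem ha hb
      | smul r a _ ha => exact Subalgebra.smul_mem _ ha r

/-- Flatness of an adjunction, checked on local rings. -/
theorem flat_adjoin {A' L : Type u} [CommRing A'] [IsDomain A'] [Field L] [Algebra A' L]
    [FaithfulSMul A' L] (s : Set L) (hs : s.Finite) (d : ℕ)
    (H : ∀ (P : Ideal A') [P.IsMaximal] [Algebra (Localization.AtPrime P) L],
      IsScalarTower A' (Localization.AtPrime P) L → FaithfulSMul (Localization.AtPrime P) L →
      ∃ b : Fin d → L, LinearIndependent (Localization.AtPrime P) b ∧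
        span (Localization.AtPrime P) (Set.range b) =
          (span (Localization.AtPrime P) (insert (1 : L) s)) ^ d) :
    Module.Flat A' (Algebra.adjoin A' s) := by
  set G := insert (1 : L) s
  have h1 : (1 : L) ∈ G := Set.mem_insert _ _
  have hflat : ∀ e, d ≤ e → Module.Flat A' ↥((span A' G) ^ e) := by
    intro e he
    have hu : ∀ (P : Ideal A') [P.IsMaximal] (y : P.primeCompl), IsUnit (algebraMap A' L y) :=
      fun P _ y => Ne.isUnit ((map_ne_zero_iff _ (FaithfulSMul.algebraMap_injective A' L)).mpr
        fun h => y.2 (h ▸ P.zero_mem))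
    letI alg : ∀ (P : Ideal A') [P.IsMaximal], Algebra (Localization.AtPrime P) L := fun P _ =>
      (IsLocalization.lift (M := P.primeCompl) (hu P)).toAlgebra
    haveI tow : ∀ (P : Ideal A') [P.IsMaximal], IsScalarTower A' (Localization.AtPrime P) L :=
      fun P _ => IsScalarTower.of_algebraMap_eq fun r => (IsLocalization.lift_eq _ r).symm
    haveI fs : ∀ (P : Ideal A') [P.IsMaximal], FaithfulSMul (Localization.AtPrime P) L :=
      fun P _ => (faithfulSMul_iff_algebraMap_injective _ _).mpr
        ((IsLocalization.lift_injective_iff _).mpr fun x y => by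
          rw [(IsLocalization.injective (Localization.AtPrime P)
              P.primeCompl_le_nonZeroDivisors).eq_iff,
            (FaithfulSMul.algebraMap_injective A' L).eq_iff])
    haveI loc : ∀ (P : Ideal A') [P.IsMaximal],
        IsLocalizedModule P.primeCompl (LinearMap.id : L →ₗ[A'] L) := fun P _ =>
      isLocalizedModule_id P.primeCompl L (Localization.AtPrime P)
    refine flat_of_localized_maximal _ fun P hP => ?_
    obtain ⟨b, hli, hb⟩ := H P (tow P) (fs P)
    have hf := flat_pow (hs.insert 1) h1 b hli hb e he
    have heq : ((span A' G) ^ e).localized' (Localization.AtPrime P) P.primeCompl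
        (LinearMap.id : L →ₗ[A'] L) = (span (Localization.AtPrime P) G) ^ e := by
      rw [Submodule.span_pow, Submodule.localized'_span, Submodule.span_pow]
      simp
    haveI : Module.Flat A' (Localization.AtPrime P) := IsLocalization.flat _ P.primeCompl
    haveI : Module.Flat (Localization.AtPrime P) ↥(((span A' G) ^ e).localized'
        (Localization.AtPrime P) P.primeCompl (LinearMap.id : L →ₗ[A'] L)) :=
      Module.Flat.of_linearEquiv (LinearEquiv.ofEq _ _ heq)
    haveI : Module.Flat A' ↥(((span A' G) ^ e).localized' (Localization.AtPrime P) P.primeCompl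
        (LinearMap.id : L →ₗ[A'] L)) := Module.Flat.trans A' (Localization.AtPrime P) _
    exact Module.Flat.of_linearEquiv (IsLocalizedModule.iso P.primeCompl
      (((span A' G) ^ e).toLocalized' (Localization.AtPrime P) P.primeCompl
        (LinearMap.id : L →ₗ[A'] L)))
  have hmono : Monotone fun e => (span A' G) ^ e := fun a b hab =>
    pow_le_pow_right' (Submodule.one_le.mpr (subset_span h1)) hab
  have := flat_of_monotone _ hmono (Subalgebra.toSubmodule (Algebra.adjoin A' s))
    (adjoin_eq_iSup s) ⟨d, hflat⟩
  exact this

end Global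

section Flattening

variable {K L : Type u} [Field K] [Field L] [Algebra K L] [FiniteDimensional K L]

theorem span_pow_finrank_eq_top (s : Set L) (hs : Algebra.adjoin K s = ⊤) :
    (span K (insert (1 : L) s)) ^ finrank K L = ⊤ := by
  set V := span K (insert (1 : L) s)
  have h1 : (1 : Submodule K L) ≤ V := Submodule.one_le.mpr (subset_span (Set.mem_insert _ _))
  have hmono : ∀ {a b : ℕ}, a ≤ b → V ^ a ≤ V ^ b := fun h => pow_le_pow_right' h1 h
  have claim : ∀ m, m + 1 ≤ finrank K ↥(V ^ m) ∨ V ^ m = ⊤ := by
    intro m
    induction m with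
    | zero =>
      left
      refine Nat.one_le_iff_ne_zero.mpr fun h => ?_
      rw [Submodule.finrank_eq_zero, pow_zero] at h
      have h' : (1 : L) ∈ (1 : Submodule K L) := Submodule.one_le.mp le_rfl
      rw [h, Submodule.mem_bot] at h'
      exact one_ne_zero h'
    | succ m ih =>
      rcases ih with ih | ih
      · by_cases heq : V ^ (m + 1) = V ^ m
        · right
          have hstable : ∀ e, m ≤ e → V ^ e = V ^ m := by
            intro e he
            induction e, he using Nat.le_induction with
            | base => rfl
            | succ e _ ihe => rw [pow_succ, ihe, ← pow_succ, heq]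
          rw [heq, eq_top_iff, ← Algebra.top_toSubmodule, ← hs, adjoin_eq_iSup]
          refine iSup_le fun e => ?_
          rcases le_total e m with h | h
          · exact hmono h
          · exact (hstable e h).le
        · left
          have := Submodule.finrank_lt_finrank_of_lt
            (lt_of_le_of_ne (hmono (Nat.le_add_right m 1)) (Ne.symm heq))
          omega
      · right
        exact eq_top_iff.mpr (ih ▸ hmono (Nat.le_succ m))
  rcases claim (finrank K L) with h | h
  · have := Submodule.finrank_le (V ^ finrank K L)
    omega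
  · exact h

end Flattening

/-- An ideal of a local domain whose product with another is principal is itself principal on one
of the given generators. -/
theorem exists_span_eq_of_mul {R : Type u} [CommRing R] [IsDomain R] [IsLocalRing R]
    {ι : Type u} (x : ι → R) (I : Ideal R) {a : R} (ha : a ≠ 0)
    (h : Ideal.span (Set.range x) * I = Ideal.span {a}) :
    ∃ i, x i ≠ 0 ∧ ∀ j, ∃ r, x j = r * x i := by
  by_contra hc
  push Not at hc
  have hstep : ∀ z ∈ Ideal.span (Set.range x) * I, ∃ r ∈ IsLocalRing.maximalIdeal R, z = a * r := by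
    intro z hz
    induction hz using Submodule.mul_induction_on' with
    | mem_mul_mem y hy w hw =>
      induction hy using Submodule.span_induction with
      | mem y hy =>
        obtain ⟨i, rfl⟩ := hy
        have hm : x i * w ∈ Ideal.span {a} := h ▸ Ideal.mul_mem_mul
          (Ideal.subset_span ⟨i, rfl⟩) hw
        obtain ⟨r, hr⟩ := Ideal.mem_span_singleton.mp hm
        refine ⟨r, fun hu => ?_, hr⟩
        have hxi : x i ≠ 0 := fun h0 => by
          rw [h0, zero_mul, eq_comm, mul_eq_zero] at hr
          rcases hr with hr | hr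
          · exact ha hr
          · exact not_isUnit_zero (hr ▸ hu)
        obtain ⟨j, hj⟩ := hc i hxi
        obtain ⟨u, rfl⟩ := hu
        have hjm : x j * w ∈ Ideal.span {a} := h ▸ Ideal.mul_mem_mul
          (Ideal.subset_span ⟨j, rfl⟩) hw
        obtain ⟨t, ht⟩ := Ideal.mem_span_singleton.mp hjm
        refine hj (t * (↑u⁻¹ : R)) ?_
        have hw0 : w ≠ 0 := fun h0 => by
          rw [h0, mul_zero, eq_comm, mul_eq_zero] at hr
          rcases hr with hr | hr
          · exact ha hr
          · exact u.ne_zero hr
        refine mul_right_cancel₀ hw0 ?_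
        calc x j * w = a * t := ht
          _ = a * (↑u : R) * (t * ↑u⁻¹) := by rw [mul_comm t, mul_assoc a, ← mul_assoc (u : R),
              u.mul_inv, one_mul]
          _ = x i * w * (t * ↑u⁻¹) := by rw [hr]
          _ = t * ↑u⁻¹ * x i * w := by ring
      | zero => exact ⟨0, zero_mem _, by simp⟩
      | add y y' _ _ hy hy' =>
        obtain ⟨r, hr, e⟩ := hy; obtain ⟨r', hr', e'⟩ := hy'
        exact ⟨r + r', add_mem hr hr', by rw [add_mul, e, e', mul_add]⟩
      | smul c y _ hy =>
        obtain ⟨r, hr, e⟩ := hy
        exact ⟨c * r, Ideal.mul_mem_left _ _ hr, by rw [smul_eq_mul, mul_assoc, e]; ring⟩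
    | add y _ z _ hy hz =>
      obtain ⟨r, hr, e⟩ := hy; obtain ⟨r', hr', e'⟩ := hz
      exact ⟨r + r', add_mem hr hr', by rw [e, e', mul_add]⟩
  obtain ⟨r, hr, e⟩ := hstep a (h.symm ▸ Ideal.mem_span_singleton_self a)
  have hr1 : r = 1 := (mul_right_eq_self₀.mp e.symm).resolve_right ha
  exact (IsLocalRing.maximalIdeal.isMaximal R).ne_top ((Ideal.eq_top_iff_one _).mpr (hr1 ▸ hr))

/-- **Flattening**: finitely many finite generating sets of a finite extension `L` of the fraction
field of a domain `A` give flat algebras over every birational domain on which a suitable nonzero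
finitely generated ideal becomes principal. -/
theorem exists_flattening_ideal {A K L : Type u} [CommRing A] [IsDomain A] [Field K] [Algebra A K]
    [IsFractionRing A K] [Field L] [Algebra K L] [FiniteDimensional K L]
    {ι : Type u} [Finite ι] (s : ι → Finset L) (hs : ∀ i, Algebra.adjoin K (s i : Set L) = ⊤) :
    ∃ J : Ideal A, J.FG ∧ J ≠ ⊥ ∧ ∀ (A' : Type u) [CommRing A'] [IsDomain A'] [Algebra A A']
      [Algebra A' K] [IsScalarTower A A' K] [Algebra A' L] [IsScalarTower A' K L]
      [FaithfulSMul A' K], (∃ a : A', a ≠ 0 ∧ J.map (algebraMap A A') = Ideal.span {a}) →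
        ∀ i, Module.Flat A' (Algebra.adjoin A' (s i : Set L)) := by
  classical
  let d := finrank K L
  let b₀ : Basis (Fin d) K L := Module.finBasis K L
  let G : ι → Finset L := fun i => (insert 1 (s i)) ^ d
  have hG : ∀ i, ((G i : Finset L) : Set L) = (insert (1 : L) (s i : Set L)) ^ d := fun i => by
    simp only [G, Finset.coe_pow, Finset.coe_insert]
  have hT : ∀ i, span K (G i : Set L) = ⊤ := fun i => by
    rw [hG, ← Submodule.span_pow]
    exact span_pow_finrank_eq_top _ (hs i)
  have hden : ∀ i, ∃ (c : A) (j : (Fin d → G i) → A), c ≠ 0 ∧ (∀ σ, algebraMap A K (j σ) =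
      algebraMap A K c * b₀.det fun k => ((σ k : G i) : L)) ∧ ∃ σ, j σ ≠ 0 := by
    intro i
    obtain ⟨c, hc⟩ := IsLocalization.exist_integer_multiples_of_finite (nonZeroDivisors A)
      (fun σ : Fin d → G i => b₀.det fun k => ((σ k : G i) : L))
    choose j hj using hc
    have hjc : ∀ σ, algebraMap A K (j σ) =
        algebraMap A K (c : A) * b₀.det fun k => ((σ k : G i) : L) := fun σ => by
      rw [hj σ, Algebra.smul_def]
    refine ⟨c, j, nonZeroDivisors.ne_zero c.2, hjc, ?_⟩
    obtain ⟨t, hts, htspan, htli⟩ := exists_linearIndependent K (G i : Set L)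
    rw [hT i] at htspan
    let bt : Basis t K L := Basis.mk htli (by rw [Subtype.range_val, htspan])
    haveI : Finite t := (Finset.finite_toSet _).subset hts
    haveI := Fintype.ofFinite t
    let e : Fin d ≃ t := Fintype.equivOfCardEq
      (by rw [Fintype.card_fin]; exact finrank_eq_card_basis bt)
    refine ⟨fun k => ⟨(e k : L), hts (e k).2⟩, fun h0 => ?_⟩
    have h1 := hjc fun k => ⟨(e k : L), hts (e k).2⟩
    rw [h0, map_zero, eq_comm, mul_eq_zero] at h1
    rcases h1 with h1 | h1
    · exact nonZeroDivisors.ne_zero c.2 (IsFractionRing.injective A K (by rw [h1, map_zero]))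
    · have hb : IsUnit (b₀.det fun k => (e k : L)) := by
        rw [← Module.Basis.is_basis_iff_det]
        refine ⟨htli.comp _ e.injective, ?_⟩
        rw [show (Set.range fun k => (e k : L)) = Subtype.val '' Set.range e from
          (Set.range_comp Subtype.val e), e.range_eq_univ, Set.image_univ, Subtype.range_val,
          htspan]
      exact hb.ne_zero h1
  choose c j hc hjc hne using hden
  have := Fintype.ofFinite ι
  refine ⟨∏ i, Ideal.span (Set.range (j i)), ?_, ?_, ?_⟩
  · refine Finset.prod_induction _ Ideal.FG (fun I I' hI hI' => Submodule.FG.mul hI hI') ?_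
      fun i _ => Submodule.fg_span (Set.finite_range _)
    rw [Ideal.one_eq_top]
    exact ⟨{1}, by simp⟩
  · rw [← Ideal.zero_eq_bot, Finset.prod_ne_zero_iff]
    intro i _ h0
    obtain ⟨σ, hσ⟩ := hne i
    have : j i σ ∈ (0 : Ideal A) := h0 ▸ Ideal.subset_span ⟨σ, rfl⟩
    exact hσ (by simpa using this)
  intro A' _ _ _ _ _ _ _ _ hJ i
  haveI : FaithfulSMul A' L := (faithfulSMul_iff_algebraMap_injective _ _).mpr (by
    rw [IsScalarTower.algebraMap_eq A' K L]
    exact (algebraMap K L).injective.comp (FaithfulSMul.algebraMap_injective A' K))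
  refine flat_adjoin _ (s i).finite_toSet d ?_
  intro P _ _ _ _
  let R := Localization.AtPrime P
  obtain ⟨a, ha0, ha⟩ := hJ
  letI : Algebra A R := ((algebraMap A' R).comp (algebraMap A A')).toAlgebra
  have hu : ∀ y : P.primeCompl, IsUnit (algebraMap A' K y) := fun y =>
    Ne.isUnit ((map_ne_zero_iff _ (FaithfulSMul.algebraMap_injective A' K)).mpr
        fun h => y.2 (h ▸ P.zero_mem))
  letI : Algebra R K := (IsLocalization.lift (M := P.primeCompl) hu).toAlgebra
  have hR1 : ∀ r : A', algebraMap R K (algebraMap A' R r) = algebraMap A' K r := fun r =>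
    IsLocalization.lift_eq _ r
  have hR2 : ∀ r : R, algebraMap K L (algebraMap R K r) = algebraMap R L r := by
    refine fun r => DFunLike.congr_fun (IsLocalization.ringHom_ext P.primeCompl
      (j := (algebraMap K L).comp (algebraMap R K)) (k := algebraMap R L) ?_) r
    ext x
    simp only [RingHom.comp_apply, hR1, ← IsScalarTower.algebraMap_apply]
  have hRinj : Function.Injective (algebraMap R K) :=
    (IsLocalization.lift_injective_iff _).mpr fun x y => by
      rw [(IsLocalization.injective R P.primeCompl_le_nonZeroDivisors).eq_iff,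
        (FaithfulSMul.algebraMap_injective A' K).eq_iff]
  have hR3 : ∀ r : A, algebraMap R K (algebraMap A R r) = algebraMap A K r := fun r => by
    rw [show algebraMap A R = (algebraMap A' R).comp (algebraMap A A') from rfl, RingHom.comp_apply, hR1,
      ← IsScalarTower.algebraMap_apply]
  have hRd : IsDomain R := hRinj.isDomain _
  let ja : (Fin d → G i) → R := fun σ => algebraMap A R (j i σ)
  obtain ⟨σ₀, hσ₀, hdiv⟩ : ∃ σ, ja σ ≠ 0 ∧ ∀ τ, ∃ r, ja τ = r * ja σ := by
    refine exists_span_eq_of_mul ja
      ((∏ k ∈ Finset.univ.erase i, Ideal.span (Set.range (j k))).map (algebraMap A R))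
      (a := algebraMap A' R a) ?_ ?_
    · exact fun h => ha0 (IsLocalization.injective R P.primeCompl_le_nonZeroDivisors
        (by rw [h, map_zero]))
    · rw [show Ideal.span (Set.range ja) = (Ideal.span (Set.range (j i))).map (algebraMap A R) by
        rw [Ideal.map_span, ← Set.range_comp]; rfl, ← Ideal.map_mul,
        Finset.mul_prod_erase Finset.univ (fun k => Ideal.span (Set.range (j k)))
          (Finset.mem_univ i),
        show algebraMap A R = (algebraMap A' R).comp (algebraMap A A') from rfl, ← Ideal.map_map, ha, Ideal.map_span,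
        Set.image_singleton]
  let v : Fin d → L := fun k => ((σ₀ k : G i) : L)
  have hdet : b₀.det v ≠ 0 := fun h => hσ₀ (hRinj (by
    rw [map_zero, hR3, hjc, h, mul_zero]))
  obtain ⟨hvli, hvsp⟩ := (Module.Basis.is_basis_iff_det b₀).mpr (Ne.isUnit hdet)
  let bv : Basis (Fin d) K L := Basis.mk hvli hvsp.ge
  refine ⟨v, ?_, le_antisymm (Submodule.span_le.mpr ?_) ?_⟩
  · rw [Fintype.linearIndependent_iff]
    intro g hg k
    refine hRinj ?_
    rw [map_zero]
    refine Fintype.linearIndependent_iff.mp hvli (fun k => algebraMap R K (g k)) ?_ k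
    simpa [Algebra.smul_def, hR2] using hg
  · rintro _ ⟨k, rfl⟩
    rw [SetLike.mem_coe, Submodule.span_pow]
    exact subset_span (hG i ▸ (σ₀ k).2)
  · rw [Submodule.span_pow, ← hG i, Submodule.span_le]
    intro m hm
    have hcoef : ∀ k, ∃ r : R, bv.coord k m = algebraMap R K r := by
      intro k
      obtain ⟨r, hr⟩ := hdiv (Function.update σ₀ k ⟨m, hm⟩)
      refine ⟨r, ?_⟩
      have hupd : (fun k' => ((Function.update σ₀ k (⟨m, hm⟩ : G i) k' : G i) : L)) =
          Function.update v k m := by
        funext k'
        rcases eq_or_ne k' k with rfl | hk <;> simp [v, *]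
      have h1 := congrArg (algebraMap R K) hr
      rw [map_mul, hR3, hR3, hjc, hjc, hupd] at h1
      have h2 := DFunLike.congr_fun (Basis.det_smul_mk_coord_eq_det_update b₀ hvli hvsp.ge k) m
      rw [LinearMap.smul_apply, MultilinearMap.toLinearMap_apply, smul_eq_mul] at h2
      have hc0 : algebraMap A K (c i) ≠ 0 :=
        (map_ne_zero_iff _ (IsFractionRing.injective A K)).mpr (hc i)
      refine mul_left_cancel₀ hdet ?_
      refine h2.trans (mul_left_cancel₀ hc0 ?_)
      refine h1.trans ?_
      ring
    choose r hr using hcoef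
    have hm' : m = ∑ k, r k • v k := by
      conv_lhs => rw [← bv.sum_repr m]
      refine Finset.sum_congr rfl fun k _ => ?_
      rw [← Basis.coord_apply, hr, Algebra.smul_def, Algebra.smul_def, hR2, Basis.mk_apply]
    rw [SetLike.mem_coe, hm']
    exact sum_mem fun k _ => smul_mem _ _ (subset_span ⟨k, rfl⟩)

end Groth.HTopHyper.GenFlat
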