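import Mathlib.LinearAlgebra.Dimension.Finite
import Mathlib.LinearAlgebra.FiniteDimensional.Lemmas
import Mathlib.LinearAlgebra.Dimension.RankNullity
import Mathlib.RingTheory.Flat.EquationalCriterion

/-! # Growth of standard graded sequences; unions of flat submodules -/

set_option autoImplicit false

universe u v w

open Module

namespace Groth.HTopHyper.GenFlat

/-- If the degree `e` part of a standard graded sequence has dimension `≤ b ≤ e`, so has the next
part (the easy case of Macaulay's bound). -/
theorem finrank_succ_le {k : Type u} [Field k] {ι : Type w} (b : ℕ) :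
    ∀ (V : ℕ → Type v) [∀ e, AddCommGroup (V e)] [∀ e, Module k (V e)]
      [∀ e, FiniteDimensional k (V e)]
      (f : ι → ∀ e, V e →ₗ[k] V (e + 1)),
      (∀ i j e (v : V e), f i (e + 1) (f j e v) = f j (e + 1) (f i e v)) →
      (∀ e, ⨆ i, LinearMap.range (f i e) = ⊤) →
      ∀ e, finrank k (V e) ≤ b → b ≤ e → finrank k (V (e + 1)) ≤ b := by
  induction b using Nat.strong_induction_on with
  | _ b ih =>
    intro V _ _ _ f hcomm hgen e hb hbe
    by_cases h0 : finrank k (V e) = 0
    · haveI : Subsingleton (V e) := finrank_zero_iff.mp h0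
      have : (⊤ : Submodule k (V (e + 1))) = ⊥ := by
        rw [← hgen e, iSup_eq_bot]
        intro i
        rw [LinearMap.range_eq_bot]
        exact Subsingleton.elim _ _
      rw [← finrank_top k (V (e + 1)), this, finrank_bot]
      exact Nat.zero_le _
    obtain ⟨e', rfl⟩ : ∃ e', e = e' + 1 := ⟨e - 1, by omega⟩
    obtain ⟨x, hx⟩ : ∃ x, LinearMap.range (f x e') ≠ ⊥ := by
      by_contra hall
      push Not at hall
      apply h0
      rw [← finrank_top k (V (e' + 1)), ← hgen e', iSup_eq_bot.mpr hall, finrank_bot]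
    -- the image of multiplication by `x`
    let W : ℕ → Type v := fun m => LinearMap.range (f x m)
    let g : ι → ∀ m, W m →ₗ[k] W (m + 1) := fun i m =>
      LinearMap.codRestrict _ ((f i (m + 1)).comp (LinearMap.range (f x m)).subtype) (by
        rintro ⟨_, v, rfl⟩
        exact ⟨f i m v, (hcomm x i m v)⟩)
    have hgcomm : ∀ i j m (v : W m), g i (m + 1) (g j m v) = g j (m + 1) (g i m v) :=
      fun i j m v => Subtype.ext (hcomm i j (m + 1) v.1)
    have hggen : ∀ m, ⨆ i, LinearMap.range (g i m) = ⊤ := by
      intro m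
      refine Submodule.map_injective_of_injective (LinearMap.range (f x (m + 1))).subtype_injective ?_
      rw [Submodule.map_iSup, Submodule.map_top, Submodule.range_subtype]
      conv_rhs => rw [LinearMap.range_eq_map, ← hgen m, Submodule.map_iSup]
      refine iSup_congr fun i => ?_
      ext w
      constructor
      · rintro ⟨_, ⟨⟨_, v, rfl⟩, rfl⟩, rfl⟩
        exact ⟨f i m v, ⟨v, rfl⟩, hcomm x i m v⟩
      · rintro ⟨_, ⟨v, rfl⟩, rfl⟩
        exact ⟨_, ⟨⟨f x m v, v, rfl⟩, rfl⟩, hcomm i x m v⟩
    -- the quotient by the image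
    let P : ∀ m, Submodule k (V m) := fun m =>
      Nat.rec (motive := fun m => Submodule k (V m)) ⊥ (fun m _ => LinearMap.range (f x m)) m
    let Q : ℕ → Type v := fun m => V m ⧸ P m
    have hP : ∀ i m, P m ≤ (P (m + 1)).comap (f i m) := by
      intro i m
      cases m with
      | zero => exact bot_le
      | succ m =>
        rintro _ ⟨v, rfl⟩
        exact ⟨f i m v, hcomm x i m v⟩
    let q : ι → ∀ m, Q m →ₗ[k] Q (m + 1) := fun i m => Submodule.mapQ _ _ (f i m) (hP i m)
    have hqcomm : ∀ i j m (v : Q m), q i (m + 1) (q j m v) = q j (m + 1) (q i m v) := by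
      intro i j m v
      obtain ⟨v, rfl⟩ := Submodule.mkQ_surjective _ v
      exact congrArg (Submodule.mkQ _) (hcomm i j m v)
    have hqgen : ∀ m, ⨆ i, LinearMap.range (q i m) = ⊤ := by
      intro m
      rw [eq_top_iff, ← Submodule.range_mkQ, LinearMap.range_eq_map, ← hgen m, Submodule.map_iSup]
      refine iSup_mono fun i => ?_
      rintro _ ⟨_, ⟨v, rfl⟩, rfl⟩
      exact ⟨Submodule.Quotient.mk v, rfl⟩
    have hsplit : finrank k (Q (e' + 1)) + finrank k (W e') = finrank k (V (e' + 1)) :=
      Submodule.finrank_quotient_add_finrank (LinearMap.range (f x e'))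
    have hsplit' : finrank k (Q (e' + 1 + 1)) + finrank k (W (e' + 1)) =
        finrank k (V (e' + 1 + 1)) :=
      Submodule.finrank_quotient_add_finrank (LinearMap.range (f x (e' + 1)))
    have hWpos : 0 < finrank k (W e') :=
      Nat.pos_of_ne_zero fun h => hx (Submodule.finrank_eq_zero.mp h)
    by_cases hq0 : finrank k (Q (e' + 1)) = 0
    · have htop : LinearMap.range (f x e') = ⊤ :=
        Submodule.eq_top_of_finrank_eq (by
          change finrank k (W e') = _
          omega)
      have htop' : LinearMap.range (f x (e' + 1)) = ⊤ := by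
        rw [eq_top_iff, ← hgen (e' + 1)]
        refine iSup_le fun i => ?_
        rintro _ ⟨v, rfl⟩
        obtain ⟨w, rfl⟩ : v ∈ LinearMap.range (f x e') := htop ▸ trivial
        exact ⟨f i e' w, hcomm x i e' w⟩
      have h2 : finrank k (LinearMap.range (f x (e' + 1))) ≤ finrank k (V (e' + 1)) :=
        LinearMap.finrank_range_le _
      rw [htop', finrank_top] at h2
      exact h2.trans hb
    · have hW : finrank k (W (e' + 1)) ≤ finrank k (W e') :=
        ih _ (by omega) W g hgcomm hggen e' le_rfl (by omega)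
      have hQ : finrank k (Q (e' + 1 + 1)) ≤ finrank k (Q (e' + 1)) :=
        ih _ (by omega) Q q hqcomm hqgen (e' + 1) le_rfl (by omega)
      omega

/-- A submodule which is a directed union of flat submodules is flat. -/
theorem flat_of_monotone {R : Type u} {L : Type v} [CommRing R] [AddCommGroup L] [Module R L]
    (N : ℕ → Submodule R L) (hN : Monotone N) (C : Submodule R L) (hC : C = ⨆ e, N e)
    (hflat : ∃ e₀, ∀ e, e₀ ≤ e → Module.Flat R (N e)) : Module.Flat R C := by
  classical
  subst hC
  obtain ⟨e₀, he₀⟩ := hflat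
  refine Module.Flat.iff_forall_isTrivialRelation.mpr fun {l} f x hfx => ?_
  have hmem : ∀ i, ∃ e, (x i : L) ∈ N e := fun i =>
    (Submodule.mem_iSup_of_directed N hN.directed_le).mp (x i).2
  choose e he using hmem
  obtain ⟨E, hE⟩ := Finite.exists_le e
  let y : Fin l → N (max E e₀) := fun i => ⟨x i, hN ((hE i).trans (le_max_left _ _)) (he i)⟩
  haveI := he₀ _ (le_max_right E e₀)
  have hy : ∑ i, f i • y i = 0 := by
    apply Subtype.ext
    simpa [y] using congrArg Subtype.val hfx
  obtain ⟨m, a, z, hz, ha⟩ := Module.Flat.isTrivialRelation_of_sum_smul_eq_zero hy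
  refine ⟨m, a, fun j => ⟨z j, le_iSup N _ (z j).2⟩, fun i => Subtype.ext ?_, ha⟩
  simpa [y] using congrArg Subtype.val (hz i)

end Groth.HTopHyper.GenFlat
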