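import Groth.Agent.HTopHyper.VToPh2
import Groth.Agent.Limits.ProperApprox

/-! A proper surjective refinement of finite presentation of an h covering of an affine scheme. -/

set_option autoImplicit false
set_option backward.isDefEq.respectTransparency false

universe w u

open CategoryTheory CategoryTheory.Limits AlgebraicGeometry

namespace Groth.HTopHyper

/-- A finite affine cover of a limit with lifts to schemes of finite presentation descends. -/
theorem exists_stage_lift {I : Type u} [Category.{u} I] [IsCofiltered I] (D : I ⥤ Scheme.{u})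
    [∀ {i j} (f : i ⟶ j), IsAffineHom (D.map f)] [∀ i, CompactSpace (D.obj i)]
    [∀ i, QuasiSeparatedSpace (D.obj i)] (c : Cone D) (hc : IsLimit c) {S : Scheme.{u}}
    (st : D ⟶ (Functor.const I).obj S) {q : c.pt ⟶ S} (hq : ∀ i, c.π.app i ≫ st.app i = q)
    {J : Type u} [Finite J] (W : J → c.pt.Opens) (hW : TopologicalSpace.IsOpenCover W)
    (hWa : ∀ k, IsAffineOpen (W k)) (Y : J → Scheme.{u}) (g : ∀ k, Y k ⟶ S)
    [∀ k, LocallyOfFinitePresentation (g k)] (a : ∀ k, (W k : Scheme.{u}) ⟶ Y k)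
    (ha : ∀ k, a k ≫ g k = (W k).ι ≫ q) :
    ∃ (i : I) (V : J → (D.obj i).Opens), (∀ k, IsAffineOpen (V k)) ∧
      TopologicalSpace.IsOpenCover V ∧
      ∀ k, ∃ b : (V k : Scheme.{u}) ⟶ Y k, b ≫ g k = (V k).ι ≫ st.app i := by
  classical
  obtain ⟨i, V, hV, hVW⟩ := Scheme.exists_isOpenCover_and_isAffine_of_finite D c hc W hW hWa
  have step : ∀ k, ∃ (j : I) (φ : j ⟶ i) (b : (D.map φ ⁻¹ᵁ V k : Scheme.{u}) ⟶ Y k),
      b ≫ g k = (D.map φ ⁻¹ᵁ V k).ι ≫ st.app j := fun k => by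
    have : ∀ j : Over i, IsAffine ((opensDiagram D i (V k)).obj j) := fun j => (hVW k).1.preimage _
    have : ∀ j : Over i, CompactSpace ((opensDiagram D i (V k)).obj j) := fun j => inferInstance
    have : ∀ j : Over i, QuasiSeparatedSpace ((opensDiagram D i (V k)).obj j) := fun j =>
      inferInstance
    let t : opensDiagram D i (V k) ⟶ (Functor.const (Over i)).obj S :=
      opensDiagramι D i (V k) ≫ Functor.whiskerLeft (Over.forget i) st
    let e : (c.π.app i ⁻¹ᵁ V k : Scheme.{u}) ⟶ Y k := (c.pt.isoOfEq (hVW k).2.symm).hom ≫ a k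
    obtain ⟨j, b, -, hb⟩ := Scheme.exists_π_app_comp_eq_of_locallyOfFinitePresentation
      (opensDiagram D i (V k)) t (g k) (opensCone D c i (V k)) (isLimitOpensCone D c hc i (V k)) e
      (by
        ext j : 2
        show (c.π.app j.left).resLE _ _ _ ≫ (D.map j.hom ⁻¹ᵁ V k).ι ≫ st.app j.left = e ≫ g k
        rw [Scheme.Hom.resLE_comp_ι_assoc, hq, Category.assoc, ha,
          Scheme.isoOfEq_hom_ι_assoc])
    exact ⟨j.left, j.hom, b, hb⟩
  choose j φ b hb using step
  obtain ⟨m, ξ, ξ', hξ⟩ : ∃ (m : I) (ξ : m ⟶ i) (ξ' : ∀ k, m ⟶ j k), ∀ k, ξ' k ≫ φ k = ξ := by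
    obtain ⟨m, ξ, θ, hθ⟩ := IsCofiltered.wideCospan φ
    exact ⟨m, ξ, θ, hθ⟩
  refine ⟨m, fun k => D.map ξ ⁻¹ᵁ V k, fun k => (hVW k).1.preimage _, ?_, fun k => ?_⟩
  · show ⨆ k, D.map ξ ⁻¹ᵁ V k = ⊤
    rw [← Scheme.Hom.preimage_iSup, hV]; rfl
  · refine ⟨(D.map (ξ' k)).resLE (D.map (φ k) ⁻¹ᵁ V k) _ (by
      rw [← Scheme.Hom.comp_preimage, ← D.map_comp, hξ]) ≫ b k, ?_⟩
    rw [Category.assoc, hb, Scheme.Hom.resLE_comp_ι_assoc]
    exact congrArg _ ((st.naturality (ξ' k)).trans (Category.comp_id _))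

theorem exists_fp_refinement {X : Scheme.{u}} [IsAffine X] (E : PreZeroHypercover.{w} X)
    (hE : HTop.IsHCover E) :
    ∃ (Y : Scheme.{u}) (g : Y ⟶ X) (n : ℕ) (V : Fin n → Y.Opens), IsProper g ∧ Surjective g ∧
      LocallyOfFinitePresentation g ∧ (∀ j, IsAffineOpen (V j)) ∧ ⨆ j, V j = ⊤ ∧
      ∀ j, ∃ (i : E.I₀) (h : ((V j : Y.Opens) : Scheme.{u}) ⟶ E.X i),
        h ≫ E.f i = (V j).ι ≫ g := by
  classical
  obtain ⟨F, hF, hr⟩ := phRefinable_of_isVCover hE.1 hE.2 ⟨⊤, isAffineOpen_top X⟩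
  obtain ⟨P, p, ι, hp, hps, hι, hfac, hcov⟩ := hF.exists_proper
  have := hF.finite_index
  have := hp; have := hps
  choose i r hi using hr
  let c : P ⟶ X := p ≫ X.topIso.hom
  have : Surjective c := inferInstance
  obtain ⟨R, hcl, hπ, hpr⟩ := Groth.Limits.exists_properRelSystem c
  have : ∀ a b (f : a ⟶ b), IsAffineHom (R.left.map f) := R.affine
  have : ∀ a, CompactSpace (R.left.obj a) := R.compact
  have : ∀ a, QuasiSeparatedSpace (R.left.obj a) := fun a =>
    haveI := R.quasiSeparated a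
    quasiSeparatedSpace_of_quasiSeparated (R.D.obj a).hom
  let W : ULift.{u} F.I₀ → P.Opens := fun k => (haveI := hι k.down; (ι k.down).opensRange)
  have hWc : TopologicalSpace.IsOpenCover W := top_le_iff.mp fun x _ => by
    obtain ⟨k, hk⟩ := hcov x
    exact TopologicalSpace.Opens.mem_iSup.mpr ⟨⟨k⟩, hk⟩
  have hWa : ∀ k, IsAffineOpen (W k) := fun k => by
    have := hι k.down; have := hF.isAffine_obj k.down
    exact isAffineOpen_opensRange _
  let a : ∀ k, (W k : Scheme.{u}) ⟶ E.X (i k.down) := fun k =>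
    (haveI := hι k.down; (ι k.down).isoOpensRange.inv) ≫ r k.down
  have := hE.1
  obtain ⟨m, V, hVa, hVc, hV⟩ := exists_stage_lift R.left R.leftCone R.isLimitLeftCone
    R.structureMap (q := c) R.π_structureMap W hWc hWa (fun k => E.X (i k.down))
    (fun k => E.f (i k.down)) a (fun k => by
      have := hι k.down
      rw [Category.assoc, hi, ← hfac, Category.assoc, Scheme.Hom.isoOpensRange_inv_comp_assoc]
      rfl)
  obtain ⟨n, ⟨e⟩⟩ := Finite.exists_equiv_fin (ULift.{u} F.I₀)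
  refine ⟨R.left.obj m, (R.D.obj m).hom, n, fun k => V (e.symm k), hpr m,
    ⟨fun x => ?_⟩, R.locallyOfFinitePresentation m, fun k => hVa _, ?_, fun k => ⟨_, hV (e.symm k)⟩⟩
  · obtain ⟨z, rfl⟩ := c.surjective x
    exact ⟨(R.π.app m).left z, ((R.π.app m).left.comp_apply (R.D.obj m).hom z).symm.trans
      (congrArg (fun q : P ⟶ X => q z) (R.π_structureMap m))⟩
  · rw [← hVc]
    exact e.symm.surjective.iSup_comp V

end Groth.HTopHyper
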