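import Groth.Agent.HTopHyper.AlmostBlowUp2
import Groth.Agent.HTopHyper.BlowUpProper
import Groth.Agent.HTopHyper.DvrLiftGeom
import Groth.Agent.HTopHyper.SchemeBasic
import Groth.Agent.RaynaudGruson.Flattening.Core
import Groth.Agent.RaynaudGruson.Flattening.Subscheme
import Groth.Agent.AlgGrp1.GenericFlat
import Groth.Agent.LocImm.FppfDominate
import Groth.Agent.BlowUpBasics.Universal
import Groth.Agent.Divisors.BlowUpBasic
import Groth.Agent.RefRank.AdmBlowUp
import Groth.Agent.S0441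
import Groth.Agent.S19332

/-!
Universally submersive morphisms of finite type to a Noetherian scheme are refined by a blow-up of
the reduction followed by a finite surjective morphism and a Zariski covering.
-/

set_option autoImplicit false
set_option backward.isDefEq.respectTransparency false
set_option linter.style.haveILetI false

universe u

open CategoryTheory CategoryTheory.Limits AlgebraicGeometry

namespace Groth.HTopHyper.RefineBlowUp

theorem flat_restrict_image {X Y : Scheme.{u}} (f : X ⟶ Y) (U : Y.Opens) (V : U.toScheme.Opens) :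
    Flat ((f ∣_ U) ∣_ V) ↔ Flat (f ∣_ (U.ι ''ᵁ V)) :=
  MorphismProperty.arrow_mk_iso_iff @Flat (morphismRestrictRestrict f U V)

/-- On a reduced Noetherian scheme a morphism of finite type is flat over a dense open. -/
theorem exists_dense_flat {X Y : Scheme.{u}} [IsReduced Y] [IsNoetherian Y] (f : X ⟶ Y)
    [LocallyOfFiniteType f] [QuasiCompact f] :
    ∃ U : Y.Opens, Dense (U : Set Y) ∧ Flat (f ∣_ U) := by
  let U : Y.Opens := ⨆ V : {V : Y.Opens // Flat (f ∣_ V)}, V.1
  refine ⟨U, ?_, ?_⟩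
  · rw [dense_iff_closure_eq, Set.eq_univ_iff_forall]
    intro y
    by_contra hy
    let W : Y.Opens := ⟨(closure (U : Set Y))ᶜ, isClosed_closure.isOpen_compl⟩
    haveI : Nonempty (W : Scheme.{u}) := ⟨⟨y, hy⟩⟩
    haveI : CompactSpace (W : Scheme.{u}) :=
      isCompact_iff_compactSpace.mp (TopologicalSpace.NoetherianSpace.isCompact _)
    haveI : IsLocallyNoetherian (W : Scheme.{u}) := isLocallyNoetherian_of_isOpenImmersion W.ι
    haveI : IsNoetherian (W : Scheme.{u}) := ⟨⟩
    haveI : IsReduced (W : Scheme.{u}) := isReduced_of_isOpenImmersion W.ι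
    haveI : LocallyOfFiniteType (f ∣_ W) := IsZariskiLocalAtTarget.restrict ‹_› W
    haveI : QuasiCompact (f ∣_ W) := IsZariskiLocalAtTarget.restrict ‹_› W
    obtain ⟨V, ⟨v, hv⟩, hfl⟩ := Groth.AlgGrp1.exists_flat_restrict (f ∣_ W)
    have hle : W.ι ''ᵁ V ≤ U :=
      le_iSup (fun V : {V : Y.Opens // Flat (f ∣_ V)} => V.1)
        ⟨_, (flat_restrict_image f W V).mp hfl⟩
    exact v.2 (subset_closure (hle ⟨v, hv, rfl⟩))
  · refine IsZariskiLocalAtTarget.of_iSup_eq_top
      (fun V : {V : Y.Opens // Flat (f ∣_ V)} => U.ι ⁻¹ᵁ V.1) ?_ fun V => ?_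
    · rw [← Scheme.Hom.preimage_iSup, Scheme.Opens.ι_preimage_self]
    · rw [flat_restrict_image, Scheme.Hom.image_preimage_eq_opensRange_inf, Scheme.Opens.opensRange_ι,
        inf_eq_right.mpr (le_iSup (fun V : {V : Y.Opens // Flat (f ∣_ V)} => V.1) V)]
      exact V.2

/-- A flattened universally submersive morphism has surjective strict transform. -/
theorem range_supportedOn_eq_univ {X S : Scheme.{u}} [IsNoetherian S] (p : X ⟶ S)
    [LocallyOfFiniteType p] [QuasiCompact p] (hp : SGA1.UnivSubmersive p) {J : S.IdealSheafData}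
    (hJ : BlowUp.IsEffCartierIdeal J) (s : S) :
    ∃ x ∈ (HTop.supportedOn (J.comap p)).support, p x = s := by
  haveI : IsLocallyNoetherian X := LocallyOfFiniteType.isLocallyNoetherian p
  let A := HTop.awayFrom (J.comap p)
  have hsub : (A : Set X) ⊆ (HTop.supportedOn (J.comap p)).support := fun x hx => by
    have : x ∈ closure (Set.range A.ι) := subset_closure (by rw [Scheme.Opens.range_ι]; exact hx)
    rwa [← Scheme.Hom.support_ker] at this
  have hA : ∀ x : X, p x ∉ J.support → x ∈ A := fun x hx h => by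
    refine hx ?_
    have h' : x ∈ ((J.comap p).support : Set X) := h
    rw [Scheme.IdealSheafData.support_comap] at h'
    exact h'
  by_cases hs : s ∈ J.support
  swap
  · have hq : Topology.IsQuotientMap p :=
      hp (𝟙 X) (𝟙 S) p (IsPullback.of_vert_isIso ⟨by simp⟩)
    obtain ⟨x, rfl⟩ := hq.surjective s
    exact ⟨x, hsub (hA x hs), rfl⟩
  haveI := Groth.BlowUpBasics.isSchemeTheoreticallyDominant_compl hJ
  let U : S.Opens := J.support.compl
  haveI : IsSchemeTheoreticallyDominant U.ι := ‹_›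
  obtain ⟨η, hη⟩ := Groth.Limits.exists_specializes_of_denseRange U.ι U.ι.denseRange s
  have hne : s ≠ (𝟙 S : S ⟶ S) (U.ι η) := fun h => η.2 (show U.ι η ∈ J.support from h ▸ hs)
  obtain ⟨A', _, _, _, e, _, l, hl, hgen⟩ := Groth.Limits.exists_dvr_square (𝟙 S) (U.ι η) s hη hne
  obtain ⟨R', _, _, _, φ, h, hφ, hh⟩ := (univSubmersive_iff_dvr_lift p).mp hp A' l
  obtain ⟨w, hw⟩ := φ.surjective (genPt (CommRingCat.of A'))
  obtain ⟨w₀, hw₀⟩ := φ.surjective (clPt (CommRingCat.of A'))
  have hφg : φ (genPt (CommRingCat.of R')) = genPt (CommRingCat.of A') :=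
    ((hw ▸ (genPt_specializes w).map φ.continuous).antisymm (genPt_specializes _)).eq
  have hφc : φ (clPt (CommRingCat.of R')) = clPt (CommRingCat.of A') :=
    ((specializes_clPt (φ (clPt (CommRingCat.of R')))).antisymm
      (hw₀ ▸ (specializes_clPt w₀).map φ.continuous)).eq
  have hlg : l (genPt (CommRingCat.of A')) = U.ι η := by
    have h1 := congrArg (fun m : Spec (CommRingCat.of (FractionRing A')) ⟶ S =>
      m (IsLocalRing.closedPoint (FractionRing A'))) hgen
    simp only [Scheme.Hom.comp_apply, Scheme.fromSpecResidueField_apply] at h1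
    refine Eq.trans ?_ h1
    refine congrArg l (PrimeSpectrum.ext ?_)
    exact (Ideal.comap_bot_of_injective _ (IsFractionRing.injective A' (FractionRing A'))).symm.trans
      (by rw [← IsLocalRing.isField_iff_maximalIdeal_eq.mp (Field.toIsField _)]; rfl)
  have hg : p (h (genPt (CommRingCat.of R'))) = U.ι η := by
    rw [← Scheme.Hom.comp_apply, hh, Scheme.Hom.comp_apply, hφg, hlg]
  refine ⟨h (clPt (CommRingCat.of R')), ?_, ?_⟩
  · refine ((genPt_specializes (clPt (CommRingCat.of R'))).map h.continuous).mem_closed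
      (HTop.supportedOn (J.comap p)).support.isClosed (hsub (hA _ ?_))
    rw [hg]; exact η.2
  · rw [← Scheme.Hom.comp_apply, hh, Scheme.Hom.comp_apply, hφc]
    exact hl

theorem exists_refinement {Y : Scheme.{u}} [IsNoetherian Y] (E : PreZeroHypercover.{u} Y) [Finite E.I₀]
    [∀ j, LocallyOfFiniteType (E.f j)] [∀ j, QuasiCompact (E.f j)]
    (hE : SGA1.UnivSubmersive (Sigma.desc E.f)) :
    ∃ (Yr Y'' Y' : Scheme.{u}) (ι : Yr ⟶ Y) (𝓘 : Yr.IdealSheafData) (b : Y'' ⟶ Yr) (q : Y' ⟶ Y'')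
      (n : ℕ) (V : Fin n → Y'.Opens), IsClosedImmersion ι ∧ Surjective ι ∧ IsReduced Yr ∧
      BlowUp.IsBlowUp b 𝓘 ∧ Surjective b ∧ IsFinite q ∧ Surjective q ∧ IsProper (q ≫ b ≫ ι) ∧
      Surjective (q ≫ b ≫ ι) ∧ ⨆ i, V i = ⊤ ∧
      ∀ i, ∃ (j : E.I₀) (h : (↑(V i) : Scheme.{u}) ⟶ E.X j), h ≫ E.f j = (V i).ι ≫ q ≫ b ≫ ι := by
  let F := Sigma.desc E.f
  haveI : QuasiCompact F := quasiCompact_sigmaDesc E
  haveI : LocallyOfFiniteType F := by
    rw [IsZariskiLocalAtSource.iff_of_openCover (P := @LocallyOfFiniteType) (sigmaOpenCover E.X)]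
    intro i
    show LocallyOfFiniteType (Sigma.ι E.X i ≫ F)
    rw [Sigma.ι_desc]; infer_instance
  let Yr := Y.nilradical.subscheme
  let ι : Yr ⟶ Y := Y.nilradical.subschemeι
  haveI : Surjective ι := ⟨fun y => by
    have : y ∈ Set.range ι := by
      rw [Scheme.IdealSheafData.range_subschemeι, Scheme.support_nilradical]; trivial
    exact this⟩
  haveI : IsLocallyNoetherian Yr := LocallyOfFiniteType.isLocallyNoetherian ι
  haveI : CompactSpace Yr := QuasiCompact.compactSpace_of_compactSpace ι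
  haveI : IsNoetherian Yr := ⟨⟩
  let f := pullback.snd F ι
  have hf : SGA1.UnivSubmersive f := by
    haveI : SGA1.UnivSubmersive.{u}.IsStableUnderBaseChange :=
      inferInstanceAs (MorphismProperty.universally _).IsStableUnderBaseChange
    exact MorphismProperty.pullback_snd _ _ hE
  obtain ⟨U, hUd, hUf⟩ := exists_dense_flat f
  haveI := hUf
  have hUc : IsCompact (U : Set Yr) := TopologicalSpace.NoetherianSpace.isCompact _
  haveI : LocallyOfFinitePresentation f :=
    LocallyOfFinitePresentation.iff_locallyOfFiniteType.mpr inferInstance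
  haveI : LocallyOfFinitePresentation (f ∣_ U) := IsZariskiLocalAtTarget.restrict ‹_› U
  obtain ⟨𝓘, S', b, hb, hadm, hsupp, hmain⟩ :=
    Groth.RaynaudGruson.Flattening.exists_blowUp_subscheme f
      Groth.RaynaudGruson.Flattening.principalFlattening U hUc
  haveI : IsProper b := isProper_of_isBlowUp hb hadm.1
  haveI : IsLocallyNoetherian S' := LocallyOfFiniteType.isLocallyNoetherian b
  haveI : CompactSpace S' := QuasiCompact.compactSpace_of_compactSpace b
  haveI : IsNoetherian S' := ⟨⟩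
  haveI hbs : Surjective b := ⟨fun y => by
    have hrange : (U : Set Yr) ⊆ Set.range b := fun z hz => by
      haveI := Groth.Divisors.isIso_morphismRestrict_compl hb
      have hz' : z ∈ (Groth.Divisors.complOpens 𝓘 : Set Yr) := by
        show z ∈ (𝓘.support : Set Yr)ᶜ
        rw [hsupp, compl_compl]; exact hz
      obtain ⟨w, hw⟩ := (b ∣_ Groth.Divisors.complOpens 𝓘).surjective ⟨z, hz'⟩
      refine ⟨w.1, ?_⟩
      have h1 := congr($(morphismRestrict_ι b (Groth.Divisors.complOpens 𝓘)) w)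
      rw [Scheme.Hom.comp_apply, Scheme.Hom.comp_apply, hw] at h1
      exact h1.symm
    have h1 := (hUd.mono hrange).closure_eq
    rw [b.isClosedMap.isClosed_range.closure_eq] at h1
    exact Set.eq_univ_iff_forall.mp h1 y⟩
  let p₁ := pullback.fst f b
  let p₂ := pullback.snd f b
  have hp₂ : SGA1.UnivSubmersive p₂ := by
    haveI : SGA1.UnivSubmersive.{u}.IsStableUnderBaseChange :=
      inferInstanceAs (MorphismProperty.universally _).IsStableUnderBaseChange
    exact MorphismProperty.pullback_snd _ _ hf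
  let 𝓔 := (𝓘.comap f).comap p₁
  have h𝓔eq : 𝓔 = (𝓘.comap b).comap p₂ := by
    simp only [𝓔, ← Scheme.IdealSheafData.comap_comp]
    exact congrArg _ pullback.condition
  have h𝓔ft : BlowUp.IsFiniteTypeIdeal 𝓔 :=
    Groth.RefRank.isFiniteTypeIdeal_comap p₁ (Groth.RefRank.isFiniteTypeIdeal_comap f hadm.1)
  have h𝓔lp : HTop.IsLocPrincipal 𝓔 := by
    rw [h𝓔eq]
    refine isLocPrincipal_comap p₂ fun s => ?_
    obtain ⟨W, hW, g, -, hg⟩ := hb.1 s
    exact ⟨W, hW, g, hg⟩
  haveI := isAffineHom_awayFrom h𝓔lp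
  let 𝒥 := HTop.supportedOn 𝓔
  obtain ⟨hflat, hlfp⟩ := hmain _ p₁ p₂ (IsPullback.of_hasPullback f b) 𝒥
    (fun W s => Groth.Agent.S19332.mem_ker_ι_iff_killed 𝓔 h𝓔ft (HTop.awayFrom 𝓔) rfl W s)
  let g := 𝒥.subschemeι ≫ p₂
  haveI : Flat g := hflat
  haveI : LocallyOfFinitePresentation g := hlfp
  haveI : Surjective g := ⟨fun s => by
    obtain ⟨x, hx, hxs⟩ := range_supportedOn_eq_univ p₂ hp₂ hb.1 s
    rw [← h𝓔eq] at hx
    obtain ⟨z, hz⟩ : x ∈ Set.range 𝒥.subschemeι := by
      rw [Scheme.IdealSheafData.range_subschemeι]; exact hx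
    exact ⟨z, by rw [Scheme.Hom.comp_apply, hz, hxs]⟩⟩
  obtain ⟨Y', q, hq, hqf, -, hloc⟩ := Groth.Agent.S0441.result g
  haveI := hq; haveI := hqf
  have hlift : ∀ y : Y', ∃ (V : Y'.Opens) (j : E.I₀) (h : (V : Scheme.{u}) ⟶ E.X j),
      y ∈ V ∧ h ≫ E.f j = V.ι ≫ q ≫ b ≫ ι := fun y => by
    obtain ⟨V, h, hy, hh⟩ := hloc y
    let h' : (V : Scheme.{u}) ⟶ ∐ E.X := h ≫ 𝒥.subschemeι ≫ p₁ ≫ pullback.fst F ι
    have hh' : h' ≫ F = V.ι ≫ q ≫ b ≫ ι := by
      simp only [h', Category.assoc]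
      rw [pullback.condition, pullback.condition_assoc]
      have h1 : h ≫ 𝒥.subschemeι ≫ pullback.snd f b = V.ι ≫ q := hh
      rw [reassoc_of% h1]
    obtain ⟨j, z, hz⟩ := (sigmaOpenCover E.X).exists_eq (h' ⟨y, hy⟩)
    haveI : IsOpenImmersion (Sigma.ι E.X j) := inferInstance
    let V₀ : (V : Scheme.{u}).Opens := h' ⁻¹ᵁ (Sigma.ι E.X j).opensRange
    let V' : Y'.Opens := V.ι ''ᵁ V₀
    let m : (V' : Scheme.{u}) ⟶ (V : Scheme.{u}) := (V.ι.isoImage V₀).inv ≫ V₀.ι
    have hm : m ≫ V.ι = V'.ι := by simp [m, V', Scheme.Hom.isoImage_inv_ι]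
    have hr : Set.range (m ≫ h') ⊆ Set.range (Sigma.ι E.X j) := by
      rintro _ ⟨w, rfl⟩
      exact ((V.ι.isoImage V₀).inv w).2
    refine ⟨V', j, IsOpenImmersion.lift (Sigma.ι E.X j) (m ≫ h') hr, ⟨⟨y, hy⟩, ⟨z, hz⟩, rfl⟩, ?_⟩
    rw [← Sigma.ι_desc E.f j, IsOpenImmersion.lift_fac_assoc, Category.assoc]
    show m ≫ h' ≫ F = _
    rw [hh', reassoc_of% hm]
  choose V j h hy hh using hlift
  haveI : CompactSpace Y' := QuasiCompact.compactSpace_of_compactSpace q
  obtain ⟨s, hs⟩ := isCompact_univ.elim_finite_subcover (fun y => (V y : Set Y'))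
    (fun y => (V y).isOpen) fun y _ => Set.mem_iUnion.mpr ⟨y, hy y⟩
  refine ⟨Yr, S', Y', ι, 𝓘, b, q, s.card, fun i => V (s.equivFin.symm i).1, inferInstance, inferInstance,
    inferInstance, hb, hbs, hqf, hq, inferInstance, inferInstance, ?_, fun i => ⟨_, _, hh _⟩⟩
  refine top_le_iff.mp fun y _ => ?_
  obtain ⟨y₀, hy₀, hyV⟩ := Set.mem_iUnion₂.mp (hs (Set.mem_univ y))
  exact TopologicalSpace.Opens.mem_iSup.mpr ⟨s.equivFin ⟨y₀, hy₀⟩, by simpa using hyV⟩

end Groth.HTopHyper.RefineBlowUp
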