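import Groth.Agent.HTopHyper.AWN
import Mathlib.AlgebraicGeometry.Properties
import Mathlib.RingTheory.Localization.Away.Basic
import Mathlib.RingTheory.Nilpotent.Basic
import Mathlib.FieldTheory.Perfect
import Mathlib.RingTheory.LocalProperties.Reduced
import Mathlib.Algebra.CharP.Invertible

/-!
Locality of seminormality / absolute weak normality; characterization of weak normalizations.
-/

universe u

open CategoryTheory AlgebraicGeometry

namespace Groth.HTopHyper

variable {A B C : Type u} [CommRing A] [CommRing B] [CommRing C]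

theorem isUnivHomeo_cancel {X Y Z : Scheme.{u}} (f : X ⟶ Y) (g : Y ⟶ Z)
    (h : FlatMor.IsUnivHomeo (f ≫ g)) (hg : FlatMor.IsUnivHomeo g) : FlatMor.IsUnivHomeo f := by
  obtain ⟨h1, h2, h3⟩ := isUnivHomeo_iff.mp h
  have := isIntegralHom_of_isUnivHomeo hg
  have hgi := (universallyInjective_of_isUnivHomeo hg)
  have : IsIntegralHom f := IsIntegralHom.of_comp f g
  have : UniversallyInjective f := by
    have e := (tfae_universallyInjective (f ≫ g)).out 0 1
    refine ((tfae_universallyInjective f).out 0 1).mpr ?_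
    intro K _ a b hab
    refine e.mp h2 K ?_
    simpa [Category.assoc] using congrArg (· ≫ g) hab
  refine isUnivHomeo_iff.mpr ⟨inferInstance, inferInstance, ⟨fun y => ?_⟩⟩
  obtain ⟨x, hx⟩ := (f ≫ g).surjective (g y)
  exact ⟨x, g.injective (by simpa using hx)⟩

theorem eq_of_sq_cube' [IsReduced A] {x y : A} {a b : A} (ha : x = a ^ 2 ∧ y = a ^ 3)
    (hb : x = b ^ 2 ∧ y = b ^ 3) : a = b :=
  eq_of_sq_cube (ha.1.symm.trans hb.1) (ha.2.symm.trans hb.2)

theorem eq_of_pow_mul' [IsReduced A] {p : ℕ} (hp : p.Prime) {x y : A} {a b : A}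
    (ha : x = a ^ p ∧ y = (p : A) * a) (hb : x = b ^ p ∧ y = (p : A) * b) : a = b :=
  eq_of_pow_mul hp (ha.1.symm.trans hb.1) (ha.2.symm.trans hb.2)

section localization

variable (M : Submonoid A) [Algebra A B] [IsLocalization M B]

include M in
theorem isSeminormalRing_localization (hA : HTop.IsSeminormalRing A) : HTop.IsSeminormalRing B := by
  have := isReduced_of_seminormal hA
  have : _root_.IsReduced B := isReduced_localizationPreserves.{u} M B inferInstance
  intro x y hxy
  obtain ⟨⟨X, s⟩, hX⟩ := IsLocalization.surj M x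
  obtain ⟨⟨Y, t⟩, hY⟩ := IsLocalization.surj M y
  dsimp at hX hY
  -- common denominators: `x = X₁ / d²`, `y = Y₁ / d³`
  let d : A := s * t
  have h1 : algebraMap A B (X * s * t ^ 2) = x * algebraMap A B d ^ 2 := by
    simp only [map_mul, map_pow, ← hX, d]; ring
  have h2 : algebraMap A B (Y * t ^ 2 * s ^ 3) = y * algebraMap A B d ^ 3 := by
    simp only [map_mul, map_pow, ← hY, d]; ring
  obtain ⟨w, hw⟩ := (IsLocalization.eq_iff_exists M B).mp
    (show algebraMap A B ((X * s * t ^ 2) ^ 3) = algebraMap A B ((Y * t ^ 2 * s ^ 3) ^ 2) by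
      rw [map_pow _ _ 3, map_pow _ _ 2, h1, h2, mul_pow, mul_pow, ← hxy]; ring)
  obtain ⟨a, ⟨ha1, ha2⟩, -⟩ := hA (w ^ 2 * (X * s * t ^ 2)) (w ^ 3 * (Y * t ^ 2 * s ^ 3)) (by
    calc ((w : A) ^ 2 * (X * s * t ^ 2)) ^ 3 = (w : A) ^ 5 * (w * (X * s * t ^ 2) ^ 3) := by ring
      _ = (w : A) ^ 5 * (w * (Y * t ^ 2 * s ^ 3) ^ 2) := by rw [hw]
      _ = _ := by ring)
  obtain ⟨u, hu⟩ := IsLocalization.map_units B (w * (s * t))
  have hu' : (u : B) = algebraMap A B w * algebraMap A B d := by rw [hu]; simp [d]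
  have key1 : algebraMap A B a ^ 2 = x * (u : B) ^ 2 := by
    rw [← map_pow, ← ha1, map_mul, h1, map_pow, hu']; ring
  have key2 : algebraMap A B a ^ 3 = y * (u : B) ^ 3 := by
    rw [← map_pow, ← ha2, map_mul, h2, map_pow, hu']; ring
  refine ⟨algebraMap A B a * (↑u⁻¹ : B), ⟨?_, ?_⟩, fun b hb => eq_of_sq_cube' hb ⟨?_, ?_⟩⟩
  all_goals first
    | rw [mul_pow, key1, mul_assoc, ← mul_pow, Units.mul_inv, one_pow, mul_one]
    | rw [mul_pow, key2, mul_assoc, ← mul_pow, Units.mul_inv, one_pow, mul_one]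

include M in
theorem isAWNRing_localization (hA : HTop.IsAWNRing A) : HTop.IsAWNRing B := by
  have := isReduced_of_seminormal hA.1
  have : _root_.IsReduced B := isReduced_localizationPreserves.{u} M B inferInstance
  refine ⟨isSeminormalRing_localization M hA.1, fun p hp x y hxy => ?_⟩
  obtain ⟨⟨X, s⟩, hX⟩ := IsLocalization.surj M x
  obtain ⟨⟨Y, t⟩, hY⟩ := IsLocalization.surj M y
  dsimp at hX hY
  obtain ⟨k, hk⟩ := Nat.exists_eq_succ_of_ne_zero hp.ne_zero
  let d : A := s * t
  have h1 : algebraMap A B (X * s ^ k * t ^ p) = x * algebraMap A B d ^ p := by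
    simp only [map_mul, map_pow, ← hX, d, hk, Nat.succ_eq_add_one]; ring
  have h2 : algebraMap A B (Y * s) = y * algebraMap A B d := by
    simp only [map_mul, ← hY, d]; ring
  obtain ⟨w, hw⟩ := (IsLocalization.eq_iff_exists M B).mp
    (show algebraMap A B ((p : A) ^ p * (X * s ^ k * t ^ p)) = algebraMap A B ((Y * s) ^ p) by
      rw [map_mul _ _ (X * s ^ k * t ^ p), h1, map_pow _ _ p, map_pow _ _ p, h2, map_natCast,
        mul_pow, ← hxy, mul_assoc])
  obtain ⟨a, ⟨ha1, ha2⟩, -⟩ := hA.2 p hp (w ^ p * (X * s ^ k * t ^ p)) (w * (Y * s)) (by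
    calc (p : A) ^ p * ((w : A) ^ p * (X * s ^ k * t ^ p))
        = (w : A) ^ k * (w * ((p : A) ^ p * (X * s ^ k * t ^ p))) := by
          rw [hk, Nat.succ_eq_add_one]; ring
      _ = (w : A) ^ k * (w * (Y * s) ^ p) := by rw [hw]
      _ = _ := by rw [mul_pow (w : A), hk, Nat.succ_eq_add_one]; ring)
  obtain ⟨u, hu⟩ := IsLocalization.map_units B (w * (s * t))
  have hu' : (u : B) = algebraMap A B w * algebraMap A B d := by rw [hu]; simp [d]
  have key1 : algebraMap A B a ^ p = x * (u : B) ^ p := by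
    rw [← map_pow, ← ha1, map_mul, h1, map_pow, hu', mul_pow]; ring
  have key2 : (p : B) * algebraMap A B a = y * (u : B) := by
    rw [← map_natCast (algebraMap A B), ← map_mul, ← ha2, map_mul, h2, hu']; ring
  refine ⟨algebraMap A B a * (↑u⁻¹ : B), ⟨?_, ?_⟩, fun b hb => eq_of_pow_mul' hp hb ⟨?_, ?_⟩⟩
  all_goals first
    | rw [mul_pow, key1, mul_assoc, ← mul_pow, Units.mul_inv, one_pow, mul_one]
    | rw [← mul_assoc, key2, mul_assoc, Units.mul_inv, mul_one]

end localization

/-- An element of the product of geometric points which is, near each point, in the image of `A`,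
is in the image of `A`. -/
theorem mem_range_of_local (s : Set A) (hs : Ideal.span s = ⊤) (a : PtProd A)
    (h : ∀ f ∈ s, ∃ (n : ℕ) (c : A), ∀ i : PrimeSpectrum A, f ∉ i.asIdeal →
      algebraMap A (PtProd A) (f ^ n) i * a i = algebraMap A (PtProd A) c i) :
    a ∈ (algebraMap A (PtProd A)).range := by
  let J : Ideal A :=
    { carrier := {g | algebraMap A (PtProd A) g * a ∈ (algebraMap A (PtProd A)).range}
      add_mem' := fun {g g'} hg hg' => by
        rw [Set.mem_ofPred_eq] at hg hg' ⊢
        rw [map_add, add_mul]; exact add_mem hg hg'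
      zero_mem' := by
        rw [Set.mem_ofPred_eq, map_zero, zero_mul]; exact zero_mem _
      smul_mem' := fun c g hg => by
        rw [Set.mem_ofPred_eq] at hg ⊢
        rw [smul_eq_mul, map_mul, mul_assoc]; exact mul_mem (RingHom.mem_range_self _ c) hg }
  suffices hJ : (1 : A) ∈ J by
    have : algebraMap A (PtProd A) 1 * a ∈ (algebraMap A (PtProd A)).range := hJ
    rwa [map_one, one_mul] at this
  have : J.radical = ⊤ := by
    rw [eq_top_iff, ← hs, Ideal.span_le]
    intro f hf
    obtain ⟨n, c, hc⟩ := h f hf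
    refine ⟨n + 1, f * c, funext fun i => ?_⟩
    have key : algebraMap A (PtProd A) (f ^ (n + 1)) i =
        algebraMap A (PtProd A) f i * algebraMap A (PtProd A) (f ^ n) i := by
      rw [pow_succ']; simp only [Pi.algebraMap_apply, map_mul]
    change algebraMap A (PtProd A) (f * c) i = algebraMap A (PtProd A) (f ^ (n + 1)) i * a i
    rw [key, mul_assoc]
    simp only [Pi.algebraMap_apply, map_mul]
    by_cases hfi : f ∈ i.asIdeal
    · have : algebraMap A (AlgebraicClosure i.asIdeal.ResidueField) f = 0 := by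
        rw [IsScalarTower.algebraMap_apply A i.asIdeal.ResidueField,
          Ideal.algebraMap_residueField_eq_zero.mpr hfi, map_zero]
      rw [this, zero_mul, zero_mul]
    · have := hc i hfi
      simp only [Pi.algebraMap_apply] at this
      rw [this]
  rw [Ideal.radical_eq_top] at this
  rw [this]; trivial

theorem algebraMap_ptProd_injective [IsReduced A] :
    Function.Injective (algebraMap A (PtProd A)) := by
  rw [RingHom.injective_iff_ker_eq_bot, ← le_bot_iff]
  exact ker_algebraMap_ptProd.trans_eq (nilradical_eq_zero A)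

theorem isReduced_of_span (s : Set A) (hs : Ideal.span s = ⊤)
    (h : ∀ f ∈ s, _root_.IsReduced (Localization.Away f)) : _root_.IsReduced A := by
  refine ⟨fun x hx => ?_⟩
  suffices hh : (1 : A) ∈ (Ideal.span {x}).annihilator by
    simpa using Submodule.mem_annihilator.mp hh x (Ideal.mem_span_singleton_self x)
  suffices (Ideal.span {x}).annihilator.radical = ⊤ by
    rw [Ideal.radical_eq_top] at this; rw [this]; trivial
  rw [eq_top_iff, ← hs, Ideal.span_le]
  intro f hf
  have := h f hf
  have h0 : algebraMap A (Localization.Away f) x = 0 := (hx.map _).eq_zero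
  obtain ⟨⟨_, n, rfl⟩, hn⟩ := (IsLocalization.map_eq_zero_iff (Submonoid.powers f) _ x).mp h0
  exact ⟨n, (Submodule.mem_annihilator_span_singleton _ _).mpr hn⟩

/-- a point of `PtProd A` lifted to a localization -/
theorem exists_lift_away {f : A} (i : PrimeSpectrum A) (hf : f ∉ i.asIdeal) :
    ∃ g : Localization.Away f →+* AlgebraicClosure i.asIdeal.ResidueField,
      ∀ a, g (algebraMap A _ a) = algebraMap A (PtProd A) a i := by
  refine ⟨IsLocalization.Away.lift f (g := algebraMap A (AlgebraicClosure i.asIdeal.ResidueField))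
    (isUnit_iff_ne_zero.mpr ?_), fun a => IsLocalization.Away.lift_eq _ _ a⟩
  rw [IsScalarTower.algebraMap_apply A i.asIdeal.ResidueField, map_ne_zero, Ne,
    Ideal.algebraMap_residueField_eq_zero]
  exact hf

theorem isSeminormalRing_of_span (s : Set A) (hs : Ideal.span s = ⊤)
    (h : ∀ f ∈ s, HTop.IsSeminormalRing (Localization.Away f)) : HTop.IsSeminormalRing A := by
  have := isReduced_of_span s hs fun f hf => isReduced_of_seminormal (h f hf)
  intro x y hxy
  let X := algebraMap A (PtProd A) x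
  let Y := algebraMap A (PtProd A) y
  let b : PtProd A := fun i => Y i / X i
  have hXY : X ^ 3 = Y ^ 2 := by simp only [X, Y, ← map_pow, hxy]
  have hb2 : b ^ 2 = X := funext fun i => by
    have := congrFun hXY i
    simp only [Pi.pow_apply, b] at this ⊢
    by_cases hx : X i = 0
    · rw [hx, div_zero, zero_pow two_ne_zero]
    · rw [div_pow, ← this]; field_simp
  have hb3 : b ^ 3 = Y := funext fun i => by
    have := congrFun hXY i
    simp only [Pi.pow_apply, b] at this ⊢
    by_cases hx : X i = 0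
    · rw [hx, zero_pow three_ne_zero] at this
      rw [(pow_eq_zero_iff two_ne_zero).mp this.symm, zero_div, zero_pow three_ne_zero]
    · rw [div_pow, this]; field_simp
  obtain ⟨a, ha⟩ := mem_range_of_local s hs b fun f hf => by
    obtain ⟨z, ⟨hz1, hz2⟩, -⟩ := h f hf (algebraMap A _ x) (algebraMap A _ y)
      (by rw [← map_pow, hxy, map_pow])
    obtain ⟨n, c, hc⟩ := IsLocalization.Away.surj f z
    refine ⟨n, c, fun i hi => ?_⟩
    obtain ⟨g, hg⟩ := exists_lift_away i hi
    have : g z = b i := eq_of_sq_cube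
      (by rw [← map_pow, ← hz1, hg]; exact (congrFun hb2 i).symm)
      (by rw [← map_pow, ← hz2, hg]; exact (congrFun hb3 i).symm)
    rw [← this, ← hg, ← hg, ← hc, map_mul, map_pow, mul_comm]
  refine ⟨a, ⟨algebraMap_ptProd_injective ?_, algebraMap_ptProd_injective ?_⟩, fun c hc => ?_⟩
  · rw [map_pow, ha, hb2]
  · rw [map_pow, ha, hb3]
  · refine algebraMap_ptProd_injective (eq_of_sq_cube ?_ ?_)
    · rw [← map_pow, ← hc.1, ha, hb2]
    · rw [← map_pow, ← hc.2, ha, hb3]

theorem isAWNRing_of_span (s : Set A) (hs : Ideal.span s = ⊤)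
    (h : ∀ f ∈ s, HTop.IsAWNRing (Localization.Away f)) : HTop.IsAWNRing A := by
  have := isReduced_of_span s hs fun f hf => isReduced_of_seminormal (h f hf).1
  refine ⟨isSeminormalRing_of_span s hs fun f hf => (h f hf).1, fun p hp x y hxy => ?_⟩
  let X := algebraMap A (PtProd A) x
  let Y := algebraMap A (PtProd A) y
  have hXY : (p : PtProd A) ^ p * X = Y ^ p := by
    simp only [X, Y, ← map_natCast (algebraMap A (PtProd A)), ← map_pow, ← map_mul, hxy]
  have hex : ∀ i : PrimeSpectrum A, ∃ c : AlgebraicClosure i.asIdeal.ResidueField,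
      c ^ p = X i ∧ (p : AlgebraicClosure i.asIdeal.ResidueField) * c = Y i := fun i => by
    have h : (p : AlgebraicClosure i.asIdeal.ResidueField) ^ p * X i = Y i ^ p := congrFun hXY i
    by_cases hK : (p : AlgebraicClosure i.asIdeal.ResidueField) = 0
    · obtain ⟨c, hc⟩ := IsAlgClosed.exists_pow_nat_eq (X i) hp.pos
      refine ⟨c, hc, ?_⟩
      rw [hK, zero_pow hp.ne_zero, zero_mul] at h
      rw [hK, zero_mul, (pow_eq_zero_iff hp.ne_zero).mp h.symm]
    · refine ⟨Y i / (p : AlgebraicClosure i.asIdeal.ResidueField), ?_, mul_div_cancel₀ _ hK⟩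
      rw [div_pow, ← h]
      field_simp
  choose b hb using hex
  have hb1 : b ^ p = X := funext fun i => (hb i).1
  have hb2 : (p : PtProd A) * b = Y := funext fun i => (hb i).2
  obtain ⟨a, ha⟩ := mem_range_of_local s hs b fun f hf => by
    obtain ⟨z, ⟨hz1, hz2⟩, -⟩ := (h f hf).2 p hp (algebraMap A _ x) (algebraMap A _ y)
      (by rw [← map_natCast (algebraMap A (Localization.Away f)), ← map_pow, ← map_mul, hxy, map_pow])
    obtain ⟨n, c, hc⟩ := IsLocalization.Away.surj f z
    refine ⟨n, c, fun i hi => ?_⟩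
    obtain ⟨g, hg⟩ := exists_lift_away i hi
    have : g z = b i := eq_of_pow_mul hp
      (by rw [← map_pow, ← hz1, hg]; exact (congrFun hb1 i).symm)
      (by rw [← map_natCast g, ← map_mul, ← hz2, hg, map_natCast]; exact (congrFun hb2 i).symm)
    rw [← this, ← hg, ← hg, ← hc, map_mul, map_pow, mul_comm]
  refine ⟨a, ⟨algebraMap_ptProd_injective ?_, algebraMap_ptProd_injective ?_⟩, fun c hc => ?_⟩
  · rw [map_pow, ha, hb1]
  · rw [map_mul, map_natCast, ha, hb2]
  · refine algebraMap_ptProd_injective (eq_of_pow_mul hp ?_ ?_)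
    · rw [← map_pow, ← hc.1, ha, hb1]
    · rw [← map_natCast (algebraMap A (PtProd A)), ← map_mul, ← hc.2, map_natCast, ha, hb2]

theorem isSeminormalRing_of_equiv (e : A ≃+* B) (h : HTop.IsSeminormalRing A) :
    HTop.IsSeminormalRing B := by
  let := e.toRingHom.toAlgebra
  have : IsLocalization.Away (1 : A) B :=
    IsLocalization.away_of_isUnit_of_bijective B isUnit_one e.bijective
  exact isSeminormalRing_localization (Submonoid.powers (1 : A)) h

theorem isSeminormalRing_away (f : A) [Algebra A B] [IsLocalization.Away f B] :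
    HTop.IsSeminormalRing B ↔ HTop.IsSeminormalRing (Localization.Away f) :=
  ⟨isSeminormalRing_of_equiv (IsLocalization.algEquiv (Submonoid.powers f) B (Localization.Away f)).toRingEquiv,
   isSeminormalRing_of_equiv (IsLocalization.algEquiv (Submonoid.powers f) (Localization.Away f) B).toRingEquiv⟩

theorem isAWNRing_away (f : A) [Algebra A B] [IsLocalization.Away f B] :
    HTop.IsAWNRing B ↔ HTop.IsAWNRing (Localization.Away f) :=
  ⟨isAWNRing_of_equiv (IsLocalization.algEquiv (Submonoid.powers f) (Localization.Away f) B).toRingEquiv,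
   isAWNRing_of_equiv (IsLocalization.algEquiv (Submonoid.powers f) B (Localization.Away f)).toRingEquiv⟩

theorem forall_affine_of_isSeminormal {X : Scheme.{u}} (h : HTop.IsSeminormal X) (V : X.affineOpens) :
    HTop.IsSeminormalRing Γ(X, V) := by
  choose U hxU hU using h
  refine of_affine_open_cover (P := fun V : X.affineOpens => HTop.IsSeminormalRing Γ(X, V)) U ?_ V
    (fun W f hW => ?_) (fun W s hs hW => ?_) hU
  · exact top_le_iff.mp fun x _ => TopologicalSpace.Opens.mem_iSup.mpr ⟨x, hxU x⟩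
  · have := W.2.isLocalization_basicOpen f
    exact isSeminormalRing_localization (B := Γ(X, X.basicOpen f)) (Submonoid.powers f) hW
  · refine isSeminormalRing_of_span _ hs fun f hf => ?_
    have := W.2.isLocalization_basicOpen f
    exact (isSeminormalRing_away (B := Γ(X, X.basicOpen f)) f).mp (hW ⟨f, hf⟩)

theorem forall_affine_of_isAWN {X : Scheme.{u}} (h : HTop.IsAWN X) (V : X.affineOpens) :
    HTop.IsAWNRing Γ(X, V) := by
  choose U hxU hU using h
  refine of_affine_open_cover (P := fun V : X.affineOpens => HTop.IsAWNRing Γ(X, V)) U ?_ V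
    (fun W f hW => ?_) (fun W s hs hW => ?_) hU
  · exact top_le_iff.mp fun x _ => TopologicalSpace.Opens.mem_iSup.mpr ⟨x, hxU x⟩
  · have := W.2.isLocalization_basicOpen f
    exact isAWNRing_localization (B := Γ(X, X.basicOpen f)) (Submonoid.powers f) hW
  · refine isAWNRing_of_span _ hs fun f hf => ?_
    have := W.2.isLocalization_basicOpen f
    exact (isAWNRing_away (B := Γ(X, X.basicOpen f)) f).mp (hW ⟨f, hf⟩)

/-- An absolutely weakly normal universally homeomorphic algebra is the weak normalization. -/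
theorem isRingAWN_of_isAWNRing (ψ : A →+* B) (hψ : FlatMor.IsUnivHomeo (Spec.map (CommRingCat.ofHom ψ)))
    (hB : HTop.IsAWNRing B) : HTop.IsRingAWN ψ := by
  obtain ⟨χ, hχ, -⟩ := exists_hom_awnSub ψ hψ
  have hχu : FlatMor.IsUnivHomeo (Spec.map (CommRingCat.ofHom χ)) := by
    refine isUnivHomeo_cancel _ (Spec.map (CommRingCat.ofHom ψ)) ?_ hψ
    rw [← Spec.map_comp, ← CommRingCat.ofHom_comp, hχ]
    exact isRingAWN_awnSub.1
  let e := RingEquiv.ofBijective χ (surjective_of_univHomeo χ hB.1 hχu (Or.inl hB))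
  refine ⟨hψ, fun D _ θ hθ => ?_⟩
  obtain ⟨δ, hδ, hδu⟩ := exists_hom_awnSub θ hθ
  refine ⟨e.symm.toRingHom.comp δ, RingHom.ext fun a => ?_, fun δ' hδ' => RingHom.ext fun d => ?_⟩
  · change e.symm (δ (θ a)) = ψ a
    rw [show δ (θ a) = e (ψ a) from (RingHom.congr_fun hδ a).trans (RingHom.congr_fun hχ a).symm,
      e.symm_apply_apply]
  · have := hδu (χ.comp δ') (show (χ.comp δ').comp θ = _ by rw [RingHom.comp_assoc, show δ'.comp θ = ψ from hδ', hχ])
    exact (e.symm_apply_apply (δ' d)).symm.trans (congrArg e.symm (RingHom.congr_fun this d))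

theorem isAWNRing_of_perfect {p : ℕ} [Fact p.Prime] [CharP A p] [PerfectRing A p] :
    HTop.IsAWNRing A := by
  have hp : p.Prime := Fact.out
  have inj : Function.Injective (frobenius A p) := (PerfectRing.bijective_frobenius (R := A)).1
  have : _root_.IsReduced A := by
    refine (isReduced_iff_pow_one_lt p hp.one_lt).mpr fun x hx => inj ?_
    simp only [frobenius_def, hx, zero_pow hp.ne_zero]
  refine ⟨fun x y hxy => ?_, fun q hq x y hxy => ?_⟩
  · rcases hp.eq_two_or_odd' with rfl | ⟨k, hk⟩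
    · obtain ⟨a, ha⟩ := (PerfectRing.bijective_frobenius (R := A) (p := 2)).2 x
      replace ha : a ^ _ = _ := ha
      refine ⟨a, ⟨ha.symm, inj ?_⟩, fun b hb => eq_of_sq_cube' hb ⟨ha.symm, inj ?_⟩⟩
      all_goals simp only [frobenius_def]; rw [← hxy, ← ha]; ring
    · obtain ⟨j, rfl⟩ : ∃ j, k = j + 1 := Nat.exists_eq_add_one.mpr (by
        rcases Nat.eq_zero_or_pos k with rfl | h
        · exact absurd (by omega : p = 1) hp.ne_one
        · exact h)
      obtain ⟨a, ha⟩ := (PerfectRing.bijective_frobenius (R := A) (p := p)).2 (y * x ^ j)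
      replace ha : a ^ _ = _ := ha
      have h2 : x = a ^ 2 := inj (by
        simp only [frobenius_def]
        rw [← pow_mul, mul_comm 2, pow_mul, ha, hk, mul_pow, ← hxy]; ring)
      have h3 : y = a ^ 3 := inj (by
        simp only [frobenius_def]
        rw [← pow_mul, mul_comm 3, pow_mul, ha, hk]
        calc y ^ (2 * (j + 1) + 1) = y ^ 3 * (y ^ 2) ^ j := by ring
          _ = _ := by rw [← hxy]; ring)
      exact ⟨a, ⟨h2, h3⟩, fun b hb => eq_of_sq_cube' hb ⟨h2, h3⟩⟩
  · rcases eq_or_ne q p with rfl | hne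
    · obtain ⟨a, ha⟩ := (PerfectRing.bijective_frobenius (R := A) (p := q)).2 x
      replace ha : a ^ _ = _ := ha
      rw [CharP.cast_eq_zero, zero_pow hq.ne_zero, zero_mul] at hxy
      have hy : y = (q : A) * a := by
        rw [CharP.cast_eq_zero, zero_mul]; exact IsReduced.eq_zero _ ⟨q, hxy.symm⟩
      exact ⟨a, ⟨ha.symm, hy⟩, fun b hb => eq_of_pow_mul' hq hb ⟨ha.symm, hy⟩⟩
    · obtain ⟨v, hv⟩ : IsUnit (q : A) :=
        ((CharP.isUnit_natCast_iff hp).mpr fun hd => hne ((Nat.prime_dvd_prime_iff_eq hp hq).mp hd).symm)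
      have h2 : y = (q : A) * (↑v⁻¹ * y) := by rw [← mul_assoc, ← hv, Units.mul_inv, one_mul]
      have h1 : x = (↑v⁻¹ * y) ^ q := by
        rw [mul_pow, ← hxy, ← hv, ← mul_assoc, ← mul_pow, Units.inv_mul, one_pow, one_mul]
      exact ⟨_, ⟨h1, h2⟩, fun b hb => eq_of_pow_mul' hq hb ⟨h1, h2⟩⟩

end Groth.HTopHyper
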