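import Groth.Agent.HTopHyper.RingCore
import Mathlib.RingTheory.TensorProduct.Basic

universe u

open scoped TensorProduct

namespace Groth.HTopHyper

variable (A B : Type u) [CommRing A] [CommRing B] [Algebra A B]

/-- elements with the same value under every two points with the same image -/
def eqLocusPoints : Subalgebra A B :=
  AlgHom.equalizer ((Ideal.Quotient.mkₐ A (nilradical (B ⊗[A] B))).comp Algebra.TensorProduct.includeLeft)
    ((Ideal.Quotient.mkₐ A (nilradical (B ⊗[A] B))).comp Algebra.TensorProduct.includeRight)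

variable {A B}

theorem mem_eqLocusPoints {b : B} :
    b ∈ eqLocusPoints A B ↔ IsNilpotent (b ⊗ₜ[A] (1 : B) - (1 : B) ⊗ₜ[A] b) :=
  Ideal.Quotient.eq.trans mem_nilradical

theorem eq_of_mem_eqLocusPoints {b : B} (hb : b ∈ eqLocusPoints A B) {K : Type u} [Field K]
    (d₁ d₂ : B →+* K) (e : d₁.comp (algebraMap A B) = d₂.comp (algebraMap A B)) : d₁ b = d₂ b := by
  let := (d₁.comp (algebraMap A B)).toAlgebra
  let e₁ : B →ₐ[A] K := { d₁ with commutes' := fun _ => rfl }
  let e₂ : B →ₐ[A] K := { d₂ with commutes' := fun a => (RingHom.congr_fun e a).symm }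
  have := ((mem_eqLocusPoints.mp hb).map
    (Algebra.TensorProduct.lift e₁ e₂ fun _ _ => Commute.all _ _)).eq_zero
  rw [map_sub, Algebra.TensorProduct.lift_tmul, Algebra.TensorProduct.lift_tmul, map_one, map_one,
    mul_one, one_mul, sub_eq_zero] at this
  exact this

theorem pointsInj_eqLocusPoints [Algebra.IsIntegral A B] :
    PointsInj (algebraMap A (eqLocusPoints A B)) := by
  intro K _ d₁ d₂ e
  let E := eqLocusPoints A B
  have hint : E.val.toRingHom.IsIntegral := fun b => by
    obtain ⟨g, hg, hg'⟩ := Algebra.IsIntegral.isIntegral (R := A) b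
    exact ⟨g.map (algebraMap A E), hg.map _, by rwa [Polynomial.eval₂_map]⟩
  let i := algebraMap K (AlgebraicClosure K)
  have key : ∀ d : E →+* AlgebraicClosure K, ∃ d' : B →+* AlgebraicClosure K, d'.comp E.val.toRingHom = d :=
    fun d => exists_extend _ hint d (by
      rw [(RingHom.injective_iff_ker_eq_bot _).mp Subtype.val_injective]; exact bot_le)
  obtain ⟨e₁, he₁⟩ := key (i.comp d₁)
  obtain ⟨e₂, he₂⟩ := key (i.comp d₂)
  refine RingHom.ext fun x => i.injective ?_
  refine (RingHom.congr_fun he₁ x).symm.trans ((eq_of_mem_eqLocusPoints x.2 e₁ e₂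
    (RingHom.ext fun a => ?_)).trans (RingHom.congr_fun he₂ x))
  exact (RingHom.congr_fun he₁ (algebraMap A E a)).trans
    ((congrArg i (RingHom.congr_fun e a)).trans (RingHom.congr_fun he₂ (algebraMap A E a)).symm)

end Groth.HTopHyper
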