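import Groth.Agent.HTopHyper.SchemeBasic
import Groth.Prelude.Def_Pi1
import Mathlib.RingTheory.LocalProperties.Reduced

/-!
Normal schemes are seminormal.
-/

universe u

open CategoryTheory AlgebraicGeometry

namespace Groth.HTopHyper

theorem isSeminormalRing_of_isIntegrallyClosed (A : Type u) [CommRing A] [IsDomain A]
    [IsIntegrallyClosed A] : HTop.IsSeminormalRing A := by
  intro x y hxy
  have inj := IsFractionRing.injective A (FractionRing A)
  set i := algebraMap A (FractionRing A)
  have e : i x ^ 3 = i y ^ 2 := by rw [← map_pow, hxy, map_pow]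
  have h2 : (i y / i x) ^ 2 = i x := by
    by_cases hx : i x = 0
    · rw [hx, div_zero, zero_pow two_ne_zero]
    · rw [div_pow, ← e]; field_simp
  have h3 : (i y / i x) ^ 3 = i y := by
    by_cases hx : i x = 0
    · rw [hx, zero_pow three_ne_zero] at e
      rw [(pow_eq_zero_iff two_ne_zero).mp e.symm, zero_div, zero_pow three_ne_zero]
    · rw [div_pow, e]; field_simp
  obtain ⟨a, ha⟩ := IsIntegrallyClosed.algebraMap_eq_of_integral
    (IsIntegral.of_pow (n := 2) (x := i y / i x) (R := A) (by omega) (by rw [h2]; exact isIntegral_algebraMap))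
  have e2 : x = a ^ 2 := inj (by rw [map_pow]; exact (ha.symm ▸ h2 : _).symm)
  have e3 : y = a ^ 3 := inj (by rw [map_pow]; exact (ha.symm ▸ h3 : _).symm)
  exact ⟨a, ⟨e2, e3⟩, fun b hb => eq_of_sq_cube' hb ⟨e2, e3⟩⟩

/-- Seminormality can be checked on the localizations at all primes. -/
theorem isSeminormalRing_of_atPrime {A : Type u} [CommRing A]
    (h : ∀ (p : Ideal A) [p.IsPrime], HTop.IsSeminormalRing (Localization.AtPrime p)) :
    HTop.IsSeminormalRing A := by
  have : _root_.IsReduced A := isReduced_ofLocalizationMaximal A fun p hp => by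
    exact isReduced_of_seminormal (h p)
  intro x y hxy
  let X := algebraMap A (PtProd A) x
  let Y := algebraMap A (PtProd A) y
  let b : PtProd A := fun i => Y i / X i
  have hXY : X ^ 3 = Y ^ 2 := by simp only [X, Y, ← map_pow, hxy]
  have hb2 : b ^ 2 = X := funext fun i => by
    have := congrFun hXY i
    simp only [Pi.pow_apply, b] at this ⊢
    by_cases hx : X i = 0
    · rw [hx, div_zero, zero_pow two_ne_zero]
    · rw [div_pow, ← this]; field_simp
  have hb3 : b ^ 3 = Y := funext fun i => by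
    have := congrFun hXY i
    simp only [Pi.pow_apply, b] at this ⊢
    by_cases hx : X i = 0
    · rw [hx, zero_pow three_ne_zero] at this
      rw [(pow_eq_zero_iff two_ne_zero).mp this.symm, zero_div, zero_pow three_ne_zero]
    · rw [div_pow, this]; field_simp
  let s : Set A := {f | ∃ c, c ^ 2 = x * f ^ 2 ∧ c ^ 3 = y * f ^ 3}
  have hs : Ideal.span s = ⊤ := by
    by_contra hne
    obtain ⟨m, hm, hsm⟩ := Ideal.exists_le_maximal _ hne
    obtain ⟨z, ⟨hz1, hz2⟩, -⟩ := h m (algebraMap A _ x) (algebraMap A _ y)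
      (by rw [← map_pow, hxy, map_pow])
    obtain ⟨⟨c, f⟩, hc⟩ := IsLocalization.surj m.primeCompl z
    dsimp at hc
    obtain ⟨w, hw⟩ := (IsLocalization.eq_iff_exists m.primeCompl (Localization.AtPrime m)).mp
      (show algebraMap A (Localization.AtPrime m) (c ^ 2) = algebraMap A _ (x * f ^ 2) by
        simp only [map_mul, map_pow, ← hc, hz1]; ring)
    obtain ⟨v, hv⟩ := (IsLocalization.eq_iff_exists m.primeCompl (Localization.AtPrime m)).mp
      (show algebraMap A (Localization.AtPrime m) (c ^ 3) = algebraMap A _ (y * f ^ 3) by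
        simp only [map_mul, map_pow, ← hc, hz2]; ring)
    have hmem : (w * v * f : A) ∈ Ideal.span s := Ideal.subset_span ⟨w * v * c, by
      calc ((w : A) * v * c) ^ 2 = (w : A) * (v : A) ^ 2 * (w * c ^ 2) := by ring
        _ = _ := by rw [hw]; ring,
      by
      calc ((w : A) * v * c) ^ 3 = (w : A) ^ 3 * (v : A) ^ 2 * (v * c ^ 3) := by ring
        _ = _ := by rw [hv]; ring⟩
    exact (w * v * f).2 (hsm hmem)
  obtain ⟨a, ha⟩ := mem_range_of_local s hs b fun f ⟨c, hc1, hc2⟩ => by
    refine ⟨1, c, fun i _ => ?_⟩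
    have : algebraMap A (PtProd A) f * b = algebraMap A (PtProd A) c := eq_of_sq_cube
      (by rw [mul_pow, hb2, ← map_pow, ← map_pow, hc1, map_mul, mul_comm])
      (by rw [mul_pow, hb3, ← map_pow, ← map_pow, hc2, map_mul, mul_comm])
    rw [pow_one]
    exact congrFun this i
  refine ⟨a, ⟨algebraMap_ptProd_injective ?_, algebraMap_ptProd_injective ?_⟩, fun c hc => ?_⟩
  · rw [map_pow, ha, hb2]
  · rw [map_pow, ha, hb3]
  · refine algebraMap_ptProd_injective (eq_of_sq_cube ?_ ?_)
    · rw [← map_pow, ← hc.1, ha, hb2]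
    · rw [← map_pow, ← hc.2, ha, hb3]

theorem isSeminormal_of_isNormalScheme {X : Scheme.{u}} (h : Pi1.IsNormalScheme X) :
    HTop.IsSeminormal X := by
  intro x
  obtain ⟨_, ⟨U, hU, rfl⟩, hx, -⟩ :=
    X.isBasis_affineOpens.exists_subset_of_mem_open (Set.mem_univ x) isOpen_univ
  refine ⟨⟨U, hU⟩, hx, isSeminormalRing_of_atPrime fun p hp => ?_⟩
  let q : Spec Γ(X, U) := ⟨p, hp⟩
  let y := hU.fromSpec q
  have hy : y ∈ U := by
    have : y ∈ Set.range hU.fromSpec := ⟨q, rfl⟩
    rwa [hU.range_fromSpec] at this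
  let := TopCat.Presheaf.algebra_section_stalk X.presheaf ⟨y, hy⟩
  have : IsLocalization.AtPrime (X.presheaf.stalk y) p := hU.isLocalization_stalk' q hy
  obtain ⟨hd, hc⟩ := h y
  exact isSeminormalRing_of_equiv
    (IsLocalization.algEquiv p.primeCompl (X.presheaf.stalk y) (Localization.AtPrime p)).toRingEquiv
    (isSeminormalRing_of_isIntegrallyClosed _)

end Groth.HTopHyper
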