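import Groth.Agent.HTopHyper.RingCore
import Mathlib.RingTheory.Finiteness.Basic
import Mathlib.RingTheory.IntegralClosure.IsIntegralClosure.Basic

/-!
Seminormal and absolutely weakly normal rings: the conductor argument showing that they have no
nontrivial reduced universally homeomorphic extensions (with trivial residue extensions in the first case).
-/

universe u

open CategoryTheory AlgebraicGeometry

namespace Groth.HTopHyper

variable {A B : Type u} [CommRing A] [CommRing B]

theorem isReduced_of_seminormal (hA : HTop.IsSeminormalRing A) : IsReduced A := by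
  rw [isReduced_iff_pow_one_lt 2 one_lt_two]
  intro x hx
  have h3 : x ^ 3 = 0 := by rw [pow_succ, hx, zero_mul]
  obtain ⟨a, -, ha⟩ := hA 0 0 (by simp)
  exact (ha x ⟨hx.symm, h3.symm⟩).trans (ha 0 ⟨by simp, by simp⟩).symm

/-- two elements of a reduced ring with equal squares and cubes are equal -/
theorem eq_of_sq_cube [IsReduced B] {u v : B} (h2 : u ^ 2 = v ^ 2) (h3 : u ^ 3 = v ^ 3) : u = v :=
  eq_of_forall_points fun K _ d => by
    have e2 : d u ^ 2 = d v ^ 2 := by rw [← map_pow, h2, map_pow]
    have e3 : d u ^ 3 = d v ^ 3 := by rw [← map_pow, h3, map_pow]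
    by_cases hv : d v = 0
    · rw [hv] at e2 ⊢; simpa using e2
    · exact mul_right_cancel₀ (pow_ne_zero 2 hv) (by
        calc d u * d v ^ 2 = d u ^ 3 := by rw [← e2]; ring
          _ = d v * d v ^ 2 := by rw [e3]; ring)

/-- two elements of a reduced ring with equal `p`th powers and `p`-multiples are equal -/
theorem eq_of_pow_mul [IsReduced B] {p : ℕ} (hp : p.Prime) {u v : B} (h1 : u ^ p = v ^ p)
    (h2 : (p : B) * u = (p : B) * v) : u = v :=
  eq_of_forall_points fun K _ d => by
    have e1 : d u ^ p = d v ^ p := by rw [← map_pow, h1, map_pow]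
    have e2 : (p : K) * d u = (p : K) * d v := by simpa using congrArg d h2
    by_cases hK : (p : K) = 0
    · have : Fact p.Prime := ⟨hp⟩
      have : CharP K p := (CharP.charP_iff_prime_eq_zero hp).mpr hK
      exact frobenius_inj K p e1
    · exact mul_left_cancel₀ hK e2

theorem mem_range_of_sq_cube [IsReduced B] (φ : A →+* B) (hinj : Function.Injective φ)
    (hA : HTop.IsSeminormalRing A) {b : B} (h2 : b ^ 2 ∈ φ.range) (h3 : b ^ 3 ∈ φ.range) :
    b ∈ φ.range := by
  obtain ⟨x, hx⟩ := h2
  obtain ⟨y, hy⟩ := h3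
  obtain ⟨a, ⟨ha1, ha2⟩, -⟩ := hA x y (hinj (by rw [map_pow, map_pow, hx, hy]; ring))
  refine ⟨a, eq_of_sq_cube ?_ ?_⟩
  · rw [← map_pow, ← ha1, hx]
  · rw [← map_pow, ← ha2, hy]

theorem mem_range_of_pow_mul [IsReduced B] (φ : A →+* B) (hinj : Function.Injective φ)
    (hA : HTop.IsAWNRing A) {p : ℕ} (hp : p.Prime) {b : B} (h1 : b ^ p ∈ φ.range)
    (h2 : (p : B) * b ∈ φ.range) : b ∈ φ.range := by
  obtain ⟨x, hx⟩ := h1
  obtain ⟨y, hy⟩ := h2
  obtain ⟨a, ⟨ha1, ha2⟩, -⟩ := hA.2 p hp x y (hinj (by
    rw [map_mul, map_pow, map_pow, map_natCast, hx, hy]; ring))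
  refine ⟨a, eq_of_pow_mul hp ?_ ?_⟩
  · rw [← map_pow, ← ha1, hx]
  · rw [← map_natCast φ, ← map_mul, ← ha2, hy, map_natCast]

theorem mem_range_of_pow_mem [IsReduced B] (φ : A →+* B) (hinj : Function.Injective φ)
    (hA : HTop.IsSeminormalRing A) {b : B} (n : ℕ) (h : ∀ m, n ≤ m → b ^ m ∈ φ.range) :
    b ∈ φ.range := by
  induction n with
  | zero => simpa using h 1 (Nat.zero_le _)
  | succ n ih =>
    rcases Nat.eq_zero_or_pos n with rfl | hn
    · simpa using h 1 le_rfl
    refine ih fun m hm => ?_
    rcases hm.eq_or_lt with rfl | hlt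
    · refine mem_range_of_sq_cube φ hinj hA ?_ ?_ <;> rw [← pow_mul] <;> exact h _ (by omega)
    · exact h m hlt

theorem expChar_cases (F : Type u) [Field F] (ℓ : ℕ) [h : ExpChar F ℓ] :
    ℓ = 1 ∨ (ℓ.Prime ∧ (ℓ : F) = 0) := by
  cases h with
  | zero => exact Or.inl rfl
  | prime hp => exact Or.inr ⟨hp, CharP.cast_eq_zero F ℓ⟩

section conductor

variable (φ : A →+* B)

/-- elements of `B` multiplying all of `B` into the image of `A` -/
def condIdeal : Ideal B where
  carrier := {x | ∀ y, x * y ∈ φ.range}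
  add_mem' hx hy z := by rw [add_mul]; exact add_mem (hx z) (hy z)
  zero_mem' z := by rw [zero_mul]; exact zero_mem _
  smul_mem' c x hx z := by
    change c * x * z ∈ φ.range
    rw [mul_comm c, mul_assoc]; exact hx _

theorem mem_range_of_mem_condIdeal {x : B} (hx : x ∈ condIdeal φ) : x ∈ φ.range := by
  simpa using hx 1

theorem condIdeal_radical [IsReduced B] (hinj : Function.Injective φ)
    (hA : HTop.IsSeminormalRing A) : (condIdeal φ).radical ≤ condIdeal φ := by
  intro x hx y
  obtain ⟨n, hn⟩ := hx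
  refine mem_range_of_pow_mem φ hinj hA n fun m hm => ?_
  obtain ⟨k, rfl⟩ := Nat.exists_eq_add_of_le hm
  rw [mul_pow, pow_add, mul_assoc]
  exact hn _

/-- Finite case of the main theorem. -/
theorem surjective_of_finite [IsReduced B] (hfin : φ.Finite) (hinj : Function.Injective φ)
    (hA : HTop.IsSeminormalRing A) (hUI : PointsInj φ)
    (hres : HTop.IsAWNRing A ∨ ResSurj φ) : Function.Surjective φ := by
  classical
  let := φ.toAlgebra
  have hint : φ.IsIntegral := hfin.to_isIntegral
  by_contra hs
  let I : Ideal A := (condIdeal φ).comap φ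
  have hI : I ≠ ⊤ := fun h => hs fun b => by
    have h1 : φ 1 ∈ condIdeal φ := (h ▸ Submodule.mem_top : (1 : A) ∈ I)
    simpa using h1 b
  obtain ⟨m, hm, hIm⟩ := Ideal.exists_le_maximal I hI
  obtain ⟨p, hp, -⟩ := Ideal.exists_minimalPrimes_le (J := m) hIm
  have hpp : p.IsPrime := hp.1.1
  have hIp : I ≤ p := hp.1.2
  let := φ.toAlgebra
  have : Algebra.IsIntegral A B := ⟨hint⟩
  obtain ⟨q, -, hq, hqp⟩ := Ideal.exists_ideal_over_prime_of_isIntegral p (⊥ : Ideal B)
    (by rw [← RingHom.ker_eq_comap_bot, RingHom.algebraMap_toAlgebra, (RingHom.injective_iff_ker_eq_bot _).mp hinj]; exact bot_le)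
  replace hqp : q.comap φ = p := hqp
  -- every element of `q` is pushed into the conductor by an element outside `p`
  have hq_key : ∀ x ∈ q, ∃ t : A, t ∉ p ∧ φ t * x ∈ condIdeal φ := by
    intro x hx
    by_contra H
    push Not at H
    let S : Submonoid B := Submonoid.map (φ : A →* B) p.primeCompl ⊔ Submonoid.powers x
    have hdisj : Disjoint (condIdeal φ : Set B) (S : Set B) := by
      rw [Set.disjoint_left]
      rintro y hy hyS
      obtain ⟨_, ⟨t, ht, rfl⟩, _, ⟨k, rfl⟩, rfl⟩ := Submonoid.mem_sup.mp hyS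
      refine H t ht (condIdeal_radical φ hinj hA ⟨k + 1, ?_⟩)
      have : (φ t * x) ^ (k + 1) = (φ t ^ k * x) * (φ t * x ^ k) := by ring
      rw [this]
      exact Ideal.mul_mem_left _ _ hy
    obtain ⟨Q, hQ, hQ1, hQ2⟩ := Ideal.exists_le_prime_disjoint _ S hdisj
    have hQp : Q.comap φ = p := by
      refine le_antisymm (fun a ha => by_contra fun hap => ?_) ?_
      · exact Set.disjoint_left.mp hQ2 ha
          (Submonoid.mem_sup_left ⟨a, hap, rfl⟩)
      · refine hp.2 ⟨hQ.comap φ, Ideal.comap_mono hQ1⟩ (fun a ha => by_contra fun hap => ?_)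
        exact Set.disjoint_left.mp hQ2 ha (Submonoid.mem_sup_left ⟨a, hap, rfl⟩)
    have hQq : Q = q := hUI.eq_of_comap_eq hint (hQp.trans hqp.symm)
    exact Set.disjoint_left.mp hQ2 (hQq ▸ hx : x ∈ Q)
      (Submonoid.mem_sup_right ⟨1, pow_one x⟩)
  let P : B → Prop := fun b => ∃ w : A, w ∉ p ∧ φ w * b ∈ φ.range
  have base : ∀ b : B, ∀ a s : A, s ∉ p → φ s * b - φ a ∈ q → P b := by
    intro b a s hs' hmem
    obtain ⟨t, ht, htm⟩ := hq_key _ hmem
    refine ⟨t * s, hpp.mul_notMem ht hs', ?_⟩
    have h1 := add_mem (mem_range_of_mem_condIdeal φ htm) (φ.mem_range_self (t * a))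
    rw [map_mul] at h1 ⊢
    convert h1 using 1
    ring
  have hP : ∀ b : B, P b := by
    rcases hres with hawn | hres
    · intro b
      obtain ⟨n, a, s, hs', hmem⟩ := hUI.pow_mem q b
      replace hs' : s ∉ p := by rw [← hqp]; exact hs'
      set ℓ := ringExpChar (q.comap φ).ResidueField
      have hch : ExpChar (q.comap φ).ResidueField ℓ := inferInstance
      rcases expChar_cases (q.comap φ).ResidueField ℓ with h1 | ⟨hℓ, hℓ0⟩
      · rw [h1, one_pow, pow_one] at hmem
        exact base b a s hs' hmem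
      have hℓq : (ℓ : B) ∈ q := by
        have : (ℓ : A) ∈ q.comap φ := by
          rw [← Ideal.algebraMap_residueField_eq_zero, map_natCast]; exact hℓ0
        simpa using this
      clear hs
      induction n generalizing b a s with
      | zero => rw [pow_zero, pow_one] at hmem; exact base b a s hs' hmem
      | succ n ih =>
        rw [pow_succ, Nat.mul_comm, pow_mul] at hmem
        obtain ⟨w, hw, hwb⟩ := ih (b ^ ℓ) a s hs' hmem
        obtain ⟨t, ht, htℓ⟩ := hq_key _ hℓq
        refine ⟨w * t, hpp.mul_notMem hw ht, ?_⟩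
        refine mem_range_of_pow_mul φ hinj hawn hℓ ?_ ?_
        · rw [mul_pow, map_mul, mul_pow]
          obtain ⟨k, hk⟩ := Nat.exists_eq_succ_of_ne_zero hℓ.ne_zero
          have : φ w ^ ℓ * φ t ^ ℓ * b ^ ℓ = φ (w ^ k * t ^ ℓ) * (φ w * b ^ ℓ) := by
            rw [map_mul, map_pow, map_pow, hk, Nat.succ_eq_add_one]; ring
          rw [this]
          exact mul_mem (φ.mem_range_self _) hwb
        · have := htℓ (φ w * b)
          convert this using 1
          rw [map_mul]; ring
    · intro b
      obtain ⟨a, s, hs', hmem⟩ := hres q hq b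
      exact base b a s (by rw [← hqp]; exact hs') hmem
  have : Module.Finite A B := hfin
  obtain ⟨gen, hgen⟩ := Module.finite_def.mp this
  choose w hw hwb using hP
  let W : A := ∏ b ∈ gen, w b
  have hW : W ∉ p := fun h => by
    obtain ⟨b, -, hb⟩ := hpp.prod_mem_iff.mp h
    exact hw b hb
  refine hW (hIp ?_)
  intro y
  change φ W * y ∈ φ.range
  have hy : y ∈ Submodule.span A (gen : Set B) := hgen ▸ Submodule.mem_top
  induction hy using Submodule.span_induction with
  | mem b hb =>
    have : W = (∏ c ∈ gen.erase b, w c) * w b := (Finset.prod_erase_mul _ _ hb).symm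
    rw [this, map_mul, mul_assoc]
    exact mul_mem (φ.mem_range_self _) (hwb b)
  | zero => rw [mul_zero]; exact zero_mem _
  | add _ _ _ _ h₁ h₂ => rw [mul_add]; exact add_mem h₁ h₂
  | smul a b _ h =>
    rw [Algebra.smul_def, mul_left_comm]
    exact mul_mem (φ.mem_range_self a) h

end conductor

/-- A seminormal ring has no nontrivial reduced extension inducing a universal homeomorphism with
trivial residue extensions; an absolutely weakly normal one none inducing a universal homeomorphism. -/
theorem surjective_of_univHomeo [IsReduced B] (φ : A →+* B)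
    (hA : HTop.IsSeminormalRing A) (h : FlatMor.IsUnivHomeo (Spec.map (CommRingCat.ofHom φ)))
    (hres : HTop.IsAWNRing A ∨ ResSurj φ) : Function.Bijective φ := by
  obtain ⟨hint, hker, hUI⟩ := (specUnivHomeo_iff φ).mp h
  have := isReduced_of_seminormal hA
  have hinj : Function.Injective φ := by
    rw [RingHom.injective_iff_ker_eq_bot, ← le_bot_iff]
    exact hker.trans_eq (nilradical_eq_zero A)
  refine ⟨hinj, fun b => ?_⟩
  let := φ.toAlgebra
  have : Algebra.IsIntegral A B := ⟨hint⟩
  let C := Algebra.adjoin A ({b} : Set B)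
  have hfin : (algebraMap A C).Finite := RingHom.finite_algebraMap.mpr
    (Module.Finite.iff_fg.mpr (Algebra.IsIntegral.isIntegral b).fg_adjoin_singleton)
  have hCint : C.val.toRingHom.IsIntegral := fun x => by
    obtain ⟨g, hg, hg'⟩ := hint x
    exact ⟨g.map (algebraMap A C), hg.map _, by rwa [Polynomial.eval₂_map]⟩
  have hUIC : PointsInj (algebraMap A C) := PointsInj.of_comp (ψ := C.val.toRingHom) hUI hCint
    (by rw [(RingHom.injective_iff_ker_eq_bot _).mp Subtype.val_injective]; exact bot_le)
  have : IsReduced C := isReduced_of_injective C.val Subtype.val_injective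
  obtain ⟨a, ha⟩ := surjective_of_finite (algebraMap A C) hfin
    (fun x y e => hinj (congrArg Subtype.val e)) hA hUIC (hres.imp_right fun hR q hq c => by
      let := C.val.toRingHom.toAlgebra
      have : Algebra.IsIntegral C B := ⟨hCint⟩
      obtain ⟨Q, -, hQ, hQq⟩ := Ideal.exists_ideal_over_prime_of_isIntegral q (⊥ : Ideal B) (by
        rw [← RingHom.ker_eq_comap_bot,
          (RingHom.injective_iff_ker_eq_bot _).mp (show Function.Injective (algebraMap C B) from
            Subtype.val_injective)]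
        exact bot_le)
      obtain ⟨a, s, h1, h2⟩ := hR Q hQ c.1
      exact ⟨a, s, fun h => h1 (show algebraMap A C s ∈ Q.comap (algebraMap C B) from hQq ▸ h),
        hQq ▸ (show algebraMap A C s * c - algebraMap A C a ∈ Q.comap (algebraMap C B) from h2)⟩)
    ⟨b, Algebra.subset_adjoin rfl⟩
  exact ⟨a, congrArg Subtype.val ha⟩

end Groth.HTopHyper
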