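import Groth.Prelude.Def_W4c1hilbchowincPtFun
import Groth.Agent.HTopHyper.DvrLift
import Groth.Agent.ReducedNormal.Basic
import Groth.Agent.RefRank.Algebra
import Groth.Agent.Calg1.CompletionLocal
import Groth.Agent.HTopHyper.Seminormal

/-! Pointwise functions varying algebraically along complete discrete valuation rings. -/

set_option autoImplicit false
set_option backward.isDefEq.respectTransparency false

universe u

open CategoryTheory AlgebraicGeometry W4c1hilbchowinc IsLocalRing

namespace Groth.HTopHyper.PtFunDVR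

variable {A : Type u} [CommRing A]

/-- The value of a ring element at a point. -/
noncomputable def ev (A : Type u) [CommRing A] (x : Spec (CommRingCat.of A)) (a : A) :
    (Spec (CommRingCat.of A)).residueField x :=
  (Spec (CommRingCat.of A)).Γevaluation x ((Scheme.ΓSpecIso (CommRingCat.of A)).inv a)

theorem ev_eq_zero_iff (x : Spec (CommRingCat.of A)) (a : A) : ev A x a = 0 ↔ a ∈ x.asIdeal := by
  rw [ev, Scheme.evaluation_eq_zero_iff_notMem_basicOpen, basicOpen_eq_of_affine]
  exact not_not

theorem ev_eq_iff (x : Spec (CommRingCat.of A)) (a b : A) :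
    ev A x a = ev A x b ↔ a - b ∈ x.asIdeal := by
  rw [← ev_eq_zero_iff, ← sub_eq_zero]
  simp only [ev, map_sub]

theorem exists_frac (x : Spec (CommRingCat.of A))
    (z : (Spec (CommRingCat.of A)).residueField x) :
    ∃ a b : A, b ∉ x.asIdeal ∧ z * ev A x b = ev A x a := by
  let R := CommRingCat.of A
  obtain ⟨u, v, hv, huv⟩ := IsFractionRing.div_surjective (A := A ⧸ x.asIdeal)
    ((Scheme.Spec.residueFieldIso R x).hom z)
  obtain ⟨a, rfl⟩ := Ideal.Quotient.mk_surjective u
  obtain ⟨b, rfl⟩ := Ideal.Quotient.mk_surjective v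
  have hb : b ∉ x.asIdeal := fun h =>
    nonZeroDivisors.ne_zero hv (Ideal.Quotient.eq_zero_iff_mem.mpr h)
  have key : ∀ c : A, (Scheme.Spec.residueFieldIso R x).hom (ev A x c) =
      algebraMap A x.asIdeal.ResidueField c := fun c => by
    have h := congr($(Scheme.Spec.algebraMap_residueFieldIso_inv R x) c)
    have h' : ev A x c = (Scheme.Spec.residueFieldIso R x).inv
        (algebraMap A x.asIdeal.ResidueField c) := h.symm
    rw [h']
    exact Iso.inv_hom_id_apply (Scheme.Spec.residueFieldIso R x) _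
  refine ⟨a, b, hb, (Scheme.Spec.residueFieldIso R x).commRingCatIsoToRingEquiv.injective ?_⟩
  show (Scheme.Spec.residueFieldIso R x).hom _ = (Scheme.Spec.residueFieldIso R x).hom _
  have hb' : algebraMap A x.asIdeal.ResidueField b ≠ 0 := by
    rwa [Ne, Ideal.algebraMap_residueField_eq_zero]
  rw [map_mul, key, key, ← huv]
  exact div_mul_cancel₀ (algebraMap A x.asIdeal.ResidueField a) hb'

theorem map_ev {B : Type u} [CommRing B] (θ : A →+* B) (y : Spec (CommRingCat.of B)) (a : A) :
    (Spec.map (CommRingCat.ofHom θ)).residueFieldMap y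
      (ev A (Spec.map (CommRingCat.ofHom θ) y) a) = ev B y (θ a) := by
  rw [ev, Scheme.Γevaluation_naturality_apply]
  exact congrArg _ (congr($(Scheme.ΓSpecIso_inv_naturality (CommRingCat.ofHom θ)) a)).symm

theorem eq_of_forall_ev [IsReduced A] {a b : A} (h : ∀ x, ev A x a = ev A x b) : a = b := by
  rw [← sub_eq_zero]
  refine IsNilpotent.eq_zero ?_
  rw [← mem_nilradical, nilradical_eq_sInf, Submodule.mem_sInf]
  intro J hJ
  exact (ev_eq_iff _ _ _).mp (h ⟨J, hJ⟩)

theorem ofSection_apply (a : A) (x : Spec (CommRingCat.of A)) :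
    PtFun.ofSection (Spec (CommRingCat.of A)) ((Scheme.ΓSpecIso (CommRingCat.of A)).inv a) x =
      ev A x a := rfl

theorem existsUnique_section [IsReduced A] {f : PtFun (Spec (CommRingCat.of A))} (a : A)
    (ha : ∀ x, f x = ev A x a) :
    ∃! s : Γ(Spec (CommRingCat.of A), ⊤), PtFun.ofSection (Spec (CommRingCat.of A)) s = f := by
  refine ⟨(Scheme.ΓSpecIso (CommRingCat.of A)).inv a,
    funext fun x => (ofSection_apply a x).trans (ha x).symm, fun s hs => ?_⟩
  have : (Scheme.ΓSpecIso (CommRingCat.of A)).hom s = a := eq_of_forall_ev fun x => by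
    rw [← ha x, ← hs, ev, Iso.hom_inv_id_apply]
    rfl
  rw [← this, Iso.hom_inv_id_apply]

theorem variesAlongCompleteDVR_of_dvr {X : Scheme.{u}} {f : PtFun X} (hf : f.VariesAlongDVR) :
    f.VariesAlongCompleteDVR := fun R _ _ _ _ g => hf R g

theorem variesAlongCompleteDVR_pullback {X Y : Scheme.{u}} {f : PtFun X}
    (hf : f.VariesAlongCompleteDVR) (k : Y ⟶ X) : (f.pullback k).VariesAlongCompleteDVR :=
  fun R _ _ _ _ g => by
    obtain ⟨s, hs⟩ := hf R (g ≫ k)
    refine ⟨s, hs.trans (funext fun y => ?_)⟩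
    show (g ≫ k).residueFieldMap y (f ((g ≫ k) y)) = g.residueFieldMap y (k.residueFieldMap (g y) (f (k (g y))))
    rw [Scheme.residueFieldMap_comp]
    rfl

theorem exists_dvr_value {f : PtFun (Spec (CommRingCat.of A))} (hf : f.VariesAlongCompleteDVR)
    {D : Type u} [CommRing D] [IsDomain D] [IsDiscreteValuationRing D]
    [IsAdicComplete (maximalIdeal D) D] (θ : A →+* D) :
    ∃ r : D, ∀ y : Spec (CommRingCat.of D), (Spec.map (CommRingCat.ofHom θ)).residueFieldMap y
      (f (Spec.map (CommRingCat.ofHom θ) y)) = ev D y r := by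
  obtain ⟨s, hs⟩ := hf D (Spec.map (CommRingCat.ofHom θ))
  refine ⟨(Scheme.ΓSpecIso (CommRingCat.of D)).hom s, fun y => ?_⟩
  rw [ev, Iso.hom_inv_id_apply]
  exact (congrFun hs y).symm

/-- The completion of a discrete valuation ring. -/
theorem exists_complete_dvr (D : Type u) [CommRing D] [IsDomain D] [IsDiscreteValuationRing D] :
    ∃ (D' : Type u) (_ : CommRing D') (_ : IsDomain D') (_ : IsDiscreteValuationRing D')
      (_ : IsAdicComplete (maximalIdeal D') D') (ι : D →+* D'),
      Function.Injective ι ∧ IsLocalHom ι := by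
  obtain ⟨h1, h2⟩ := (Groth.Calg1.isDVR_iff_adicCompletion D).mp ⟨inferInstance, inferInstance⟩
  exact ⟨_, inferInstance, h1, h2, inferInstance,
    algebraMap D (AdicCompletion (maximalIdeal D) D),
    AdicCompletion.of_injective (maximalIdeal D) D, inferInstance⟩

theorem exists_completeDVR_chain [IsNoetherianRing A] {p P : Ideal A} [p.IsPrime] [P.IsPrime]
    (h : p ≤ P) :
    ∃ (D : Type u) (_ : CommRing D) (_ : IsDomain D) (_ : IsDiscreteValuationRing D)
      (_ : IsAdicComplete (maximalIdeal D) D) (θ : A →+* D),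
      RingHom.ker θ = p ∧ (maximalIdeal D).comap θ = P := by
  let π := Ideal.Quotient.mk p
  let Pb := P.map π
  have hPb : Pb.IsPrime :=
    Ideal.map_isPrime_of_surjective Ideal.Quotient.mk_surjective (by rwa [Ideal.mk_ker])
  have hcP : Pb.comap π = P := by
    rw [Ideal.comap_map_of_surjective _ Ideal.Quotient.mk_surjective, ← RingHom.ker_eq_comap_bot,
      Ideal.mk_ker, sup_eq_left.mpr h]
  let L := Localization.AtPrime Pb
  obtain ⟨D, _, _, _, θ₀, hθ, hθl⟩ := exists_dvr_of_local L
  obtain ⟨D', _, _, _, _, ι, hι, hιl⟩ := exists_complete_dvr D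
  refine ⟨D', inferInstance, inferInstance, inferInstance, inferInstance,
    (ι.comp θ₀).comp ((algebraMap (A ⧸ p) L).comp π), ?_, ?_⟩
  · rw [RingHom.ker_comp_of_injective _ (show Function.Injective (ι.comp θ₀) from hι.comp hθ), RingHom.ker_comp_of_injective _
      (IsLocalization.injective L Pb.primeCompl_le_nonZeroDivisors), Ideal.mk_ker]
  · rw [← Ideal.comap_comap, ← Ideal.comap_comap θ₀ ι, ← Ideal.comap_comap π, maximalIdeal_comap,
      maximalIdeal_comap]
    exact (congrArg (Ideal.comap π) (IsLocalization.AtPrime.comap_maximalIdeal L Pb)).trans hcP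

/-- An algebraic value propagates to specialisations. -/
theorem eq_ev_of_le [IsNoetherianRing A] {f : PtFun (Spec (CommRingCat.of A))}
    (hf : f.VariesAlongCompleteDVR) {p P : Spec (CommRingCat.of A)} (h : p.asIdeal ≤ P.asIdeal)
    {a : A} (ha : f p = ev A p a) : f P = ev A P a := by
  obtain ⟨D, _, _, _, _, θ, hker, hm⟩ := exists_completeDVR_chain h
  obtain ⟨r, hr⟩ := exists_dvr_value hf θ
  let g := Spec.map (CommRingCat.ofHom θ)
  let η : Spec (CommRingCat.of D) := ⟨⊥, Ideal.isPrime_bot⟩
  let c : Spec (CommRingCat.of D) := ⟨maximalIdeal D, inferInstance⟩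
  have hη : g η = p := PrimeSpectrum.ext hker
  have hc : g c = P := PrimeSpectrum.ext hm
  subst hη hc
  have hra : r = θ a := by
    have h1 := hr η
    rw [ha, map_ev, ev_eq_iff] at h1
    exact (sub_eq_zero.mp (Ideal.mem_bot.mp h1)).symm
  have h2 := hr c
  rw [hra, ← map_ev θ c a] at h2
  exact RingHom.injective _ h2

/-- On a normal Noetherian domain such a function is algebraic. -/
theorem exists_ev_domain [IsDomain A] [IsNoetherianRing A] [IsIntegrallyClosed A]
    {f : PtFun (Spec (CommRingCat.of A))} (hf : f.VariesAlongCompleteDVR) :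
    ∃ a : A, ∀ x, f x = ev A x a := by
  let η : Spec (CommRingCat.of A) := ⟨⊥, Ideal.isPrime_bot⟩
  obtain ⟨a, b, hb, hab⟩ := exists_frac η (f η)
  have hb0 : b ≠ 0 := fun e => hb (e ▸ η.asIdeal.zero_mem)
  obtain ⟨c, rfl⟩ : b ∣ a := by
    refine Groth.RefRank.dvd_of_height_one hb0 fun p hp hp1 => ?_
    let L := Localization.AtPrime p
    have : IsIntegrallyClosed L := isIntegrallyClosed_of_isLocalization L p.primeCompl
      p.primeCompl_le_nonZeroDivisors
    have hdim : ringKrullDim L = 1 := by
      rw [IsLocalization.AtPrime.ringKrullDim_eq_height p L, hp1]; rfl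
    have hfld : ¬ IsField L := fun hf => by
      rw [ringKrullDim_eq_zero_of_isField hf] at hdim; simp at hdim
    have : IsDiscreteValuationRing L := by
      refine ((IsDiscreteValuationRing.TFAE L hfld).out 3 0).mp ?_
      refine ⟨inferInstance, maximalIdeal L,
        ⟨isField_iff_maximalIdeal_eq.not.mp hfld, inferInstance⟩, ?_⟩
      rintro Q ⟨hQ, hQp⟩
      by_contra hne
      have hlt : Q < maximalIdeal L := lt_of_le_of_ne (le_maximalIdeal hQp.ne_top) hne
      have h1 : Q.height < (maximalIdeal L).height := Ideal.height_strict_mono_of_isPrime_of_isPrime hlt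
      have h2 : (⊥ : Ideal L).height < Q.height :=
        Ideal.height_strict_mono_of_isPrime_of_isPrime (bot_lt_iff_ne_bot.mpr hQ)
      have h3 : (maximalIdeal L).height = 1 := by
        have := maximalIdeal_height_eq_ringKrullDim (R := L)
        rw [hdim] at this
        exact_mod_cast this
      rw [h3] at h1
      rw [Ideal.height_bot, ENat.lt_one_iff_eq_zero.mp h1] at h2
      exact lt_irrefl 0 h2
    obtain ⟨D, _, _, _, _, ι, hι, hιl⟩ := exists_complete_dvr L
    let θ := ι.comp (algebraMap A L)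
    obtain ⟨r, hr⟩ := exists_dvr_value hf θ
    have hinj : Function.Injective θ :=
      hι.comp (IsLocalization.injective L p.primeCompl_le_nonZeroDivisors)
    let η' : Spec (CommRingCat.of D) := ⟨⊥, Ideal.isPrime_bot⟩
    have hη : Spec.map (CommRingCat.ofHom θ) η' = η :=
      PrimeSpectrum.ext ((RingHom.injective_iff_ker_eq_bot θ).mp hinj)
    clear_value η
    subst hη
    have h1 := congrArg ((Spec.map (CommRingCat.ofHom θ)).residueFieldMap η') hab
    rw [map_mul, hr η', map_ev, map_ev] at h1
    have h2 : r * θ b = θ a := by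
      have h1' : ev D η' (r * θ b) = ev D η' (θ a) := by
        rw [← h1]; simp only [ev, map_mul]
      exact sub_eq_zero.mp (Ideal.mem_bot.mp ((ev_eq_iff _ _ _).mp h1'))
    have hdvd : algebraMap A L b ∣ algebraMap A L a := by
      rcases ValuationRing.dvd_total (algebraMap A L b) (algebraMap A L a) with h | ⟨d, hd⟩
      · exact h
      · by_cases ha0 : algebraMap A L a = 0
        · rw [ha0]; exact dvd_zero _
        · have hu : IsUnit (ι d) := by
            have h3 : θ a * (r * ι d) = θ a * 1 := by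
              rw [mul_one]
              conv_rhs => rw [← h2]
              simp only [θ, RingHom.comp_apply, hd, map_mul]; ring
            have := mul_left_cancel₀ (fun e => ha0 (hι (e.trans (map_zero ι).symm))) h3
            exact IsUnit.of_mul_eq_one r (by rw [mul_comm]; exact this)
          obtain ⟨w, hw⟩ := (isUnit_map_iff ι d).mp hu
          refine ⟨↑w⁻¹, ?_⟩
          rw [hd, ← hw, mul_assoc, Units.mul_inv, mul_one]
    obtain ⟨e, he⟩ := hdvd
    obtain ⟨e₁, s, rfl⟩ := IsLocalization.exists_mk'_eq p.primeCompl e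
    refine ⟨s, s.2, e₁, IsLocalization.injective L p.primeCompl_le_nonZeroDivisors ?_⟩
    rw [map_mul, map_mul, he, ← IsLocalization.mk'_spec' L e₁ s]
    ring
  refine ⟨c, fun x => eq_ev_of_le hf (show η.asIdeal ≤ x.asIdeal from bot_le) ?_⟩
  refine mul_right_cancel₀ (mt (ev_eq_zero_iff η b).mp hb) (hab.trans ?_)
  simp only [ev, map_mul]; ring

theorem exists_idem_lift [IsReduced A] [IsNoetherianRing A] [IsIntegrallyClosed A] :
    ∃ e : minimalPrimes A → A, (∀ P, e P - 1 ∈ P.1) ∧ ∀ P Q, P ≠ Q → e P ∈ Q.1 := by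
  obtain ⟨e, hint, he1, he0⟩ := Groth.ReducedNormal.exists_idem A
  choose e' he' using fun P => IsIntegrallyClosed.algebraMap_eq_of_integral (hint P)
  refine ⟨e', fun P => ?_, fun P Q hPQ => ?_⟩
  · refine (Groth.ReducedNormal.proj_eq_zero_iff A P _).mp ?_
    have := Ideal.minimalPrimes_isPrime P.2
    rw [map_sub, ← AlgHom.commutes (Groth.ReducedNormal.proj A P) (e' P), he', he1, map_one,
      sub_self]
  · refine (Groth.ReducedNormal.proj_eq_zero_iff A Q _).mp ?_
    rw [← AlgHom.commutes (Groth.ReducedNormal.proj A Q) (e' P), he', he0 P Q hPQ]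

theorem isIntegrallyClosed_quotient_minimal [IsReduced A] [IsNoetherianRing A]
    [IsIntegrallyClosed A] (P : minimalPrimes A) : IsIntegrallyClosed (A ⧸ P.1) := by
  have := Ideal.minimalPrimes_isPrime P.2
  refine (isIntegrallyClosed_iff (FractionRing (A ⧸ P.1))).mpr fun {z} hz => ?_
  have hz' : IsIntegral A z := isIntegral_trans z hz
  obtain ⟨w, hw⟩ := Groth.ReducedNormal.projClosure_surjective A P ⟨z, hz'⟩
  obtain ⟨a, ha⟩ := IsIntegrallyClosed.algebraMap_eq_of_integral w.2
  refine ⟨Ideal.Quotient.mk _ a, ?_⟩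
  have hw' : Groth.ReducedNormal.proj A P w.1 = z := congrArg Subtype.val hw
  rw [← hw', ← ha, AlgHom.commutes]
  rfl

/-- On a reduced Noetherian ring integrally closed in its total fraction ring such a function is
algebraic. -/
theorem exists_ev_normal [IsReduced A] [IsNoetherianRing A] [IsIntegrallyClosed A]
    {f : PtFun (Spec (CommRingCat.of A))} (hf : f.VariesAlongCompleteDVR) :
    ∃ a : A, ∀ x, f x = ev A x a := by
  classical
  have := (minimalPrimes.finite_of_isNoetherianRing A).to_subtype
  have := Fintype.ofFinite (minimalPrimes A)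
  have key : ∀ P : minimalPrimes A, ∃ a : A,
      f ⟨P.1, Ideal.minimalPrimes_isPrime P.2⟩ = ev A _ a := fun P => by
    have := Ideal.minimalPrimes_isPrime P.2
    have := isIntegrallyClosed_quotient_minimal P
    obtain ⟨b, hb⟩ := exists_ev_domain
      (variesAlongCompleteDVR_pullback hf (Spec.map (CommRingCat.ofHom (Ideal.Quotient.mk P.1))))
    obtain ⟨a, rfl⟩ := Ideal.Quotient.mk_surjective b
    refine ⟨a, ?_⟩
    let η : Spec (CommRingCat.of (A ⧸ P.1)) := ⟨⊥, Ideal.isPrime_bot⟩
    have h1 : Spec.map (CommRingCat.ofHom (Ideal.Quotient.mk P.1)) η =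
        ⟨P.1, Ideal.minimalPrimes_isPrime P.2⟩ := PrimeSpectrum.ext Ideal.mk_ker
    rw [← h1]
    refine RingHom.injective _ ((hb η).trans ?_)
    exact (map_ev _ η a).symm
  choose a ha using key
  obtain ⟨e, he1, he0⟩ := exists_idem_lift (A := A)
  refine ⟨∑ P, e P * a P, fun x => ?_⟩
  obtain ⟨p, hp, hpx⟩ := Ideal.exists_minimalPrimes_le (bot_le : (⊥ : Ideal A) ≤ x.asIdeal)
  refine eq_ev_of_le hf (p := ⟨p, hp.1.1⟩) hpx ?_
  let P : minimalPrimes A := ⟨p, hp⟩
  rw [ha P, ev_eq_iff]
  show a P - ∑ Q, e Q * a Q ∈ p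
  rw [← Finset.add_sum_erase _ _ (Finset.mem_univ P), ← sub_sub]
  refine p.sub_mem ?_ (p.sum_mem fun Q hQ => p.mul_mem_right _ (he0 Q P (Finset.mem_erase.mp hQ).1))
  rw [show a P - e P * a P = -((e P - 1) * a P) by ring]
  exact p.neg_mem (p.mul_mem_right _ (he1 P))

end Groth.HTopHyper.PtFunDVR

namespace Groth.HTopHyper.PtFunDVR

variable {A : Type u} [CommRing A] [IsNoetherianRing A] [IsReduced A]

theorem isReduced_fractionRing : IsReduced (FractionRing A) := by
  refine ⟨fun z hz => Groth.ReducedNormal.eq_zero_of_forall_proj A z fun P => ?_⟩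
  have := Ideal.minimalPrimes_isPrime P.2
  exact (hz.map (Groth.ReducedNormal.proj A P)).eq_zero

/-- A function varying algebraically along complete DVRs becomes algebraic on a finite
normalisation. -/
theorem exists_ev_closure [Module.Finite A (integralClosure A (FractionRing A))]
    {f : PtFun (Spec (CommRingCat.of A))} (hf : f.VariesAlongCompleteDVR) :
    ∃ w : integralClosure A (FractionRing A), ∀ y, f.pullback
      (Spec.map (CommRingCat.ofHom (algebraMap A (integralClosure A (FractionRing A))))) y =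
        ev (integralClosure A (FractionRing A)) y w := by
  classical
  have := (minimalPrimes.finite_of_isNoetherianRing A).to_subtype
  have := Fintype.ofFinite (minimalPrimes A)
  let B := integralClosure A (FractionRing A)
  have : IsNoetherianRing B := IsNoetherianRing.of_finite A B
  have hf' := variesAlongCompleteDVR_pullback hf
    (Spec.map (CommRingCat.ofHom (algebraMap A B)))
  have piece : ∀ P : minimalPrimes A, ∃ w : B, ∀ y : Spec (CommRingCat.of B),
      RingHom.ker (Groth.ReducedNormal.projClosure A P).toRingHom ≤ y.asIdeal →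
        f.pullback (Spec.map (CommRingCat.ofHom (algebraMap A B))) y = ev B y w := fun P => by
    have := Ideal.minimalPrimes_isPrime P.2
    let K := FractionRing (A ⧸ P.1)
    let C := integralClosure (A ⧸ P.1) K
    have : IsFractionRing C K := integralClosure.isFractionRing_of_finite_extension K K
    have : IsIntegrallyClosed C := integralClosure.isIntegrallyClosedOfFiniteExtension K
    let π : B →+* C :=
      ((Groth.ReducedNormal.proj A P).toRingHom.comp B.subtype).codRestrict C.toSubring fun z =>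
        (z.2.map (Groth.ReducedNormal.proj A P)).tower_top
    have hπ : Function.Surjective π := fun z => by
      obtain ⟨w, hw⟩ := Groth.ReducedNormal.projClosure_surjective A P
        ⟨z.1, isIntegral_trans z.1 z.2⟩
      exact ⟨w, Subtype.ext (congrArg Subtype.val hw :)⟩
    have : IsNoetherianRing C := isNoetherianRing_of_surjective B C π hπ
    obtain ⟨b, hb⟩ := exists_ev_domain
      (variesAlongCompleteDVR_pullback hf' (Spec.map (CommRingCat.ofHom π)))
    obtain ⟨w, rfl⟩ := hπ b
    refine ⟨w, fun y hy => ?_⟩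
    have hker : RingHom.ker π ≤ y.asIdeal := fun z hz =>
      hy (Subtype.ext (congrArg Subtype.val (RingHom.mem_ker.mp hz) :))
    let z : Spec (CommRingCat.of C) :=
      ⟨y.asIdeal.map π, Ideal.map_isPrime_of_surjective hπ hker⟩
    have hz : Spec.map (CommRingCat.ofHom π) z = y := PrimeSpectrum.ext (by
      show (y.asIdeal.map π).comap π = y.asIdeal
      rw [Ideal.comap_map_of_surjective π hπ, ← RingHom.ker_eq_comap_bot, sup_eq_left.mpr hker])
    rw [← hz]
    exact RingHom.injective _ ((hb z).trans (map_ev π z w).symm)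
  choose w hw using piece
  obtain ⟨e, hint, he1, he0⟩ := Groth.ReducedNormal.exists_idem A
  let e' : minimalPrimes A → B := fun P => ⟨e P, hint P⟩
  refine ⟨∑ P, e' P * w P, fun y => ?_⟩
  obtain ⟨P, hP⟩ : ∃ P, RingHom.ker (Groth.ReducedNormal.projClosure A P).toRingHom ≤ y.asIdeal := by
    have h0 : Finset.univ.inf (fun P => RingHom.ker (Groth.ReducedNormal.projClosure A P).toRingHom)
        ≤ y.asIdeal := fun z hz => by
      have : z = 0 := Subtype.ext (Groth.ReducedNormal.eq_zero_of_forall_proj A z.1 fun P =>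
        congrArg Subtype.val (RingHom.mem_ker.mp
          (Finset.inf_le (f := fun P => RingHom.ker
            (Groth.ReducedNormal.projClosure A P).toRingHom) (Finset.mem_univ P) hz)))
      exact this ▸ y.asIdeal.zero_mem
    obtain ⟨P, -, hP⟩ := (Ideal.IsPrime.inf_le' y.2).mp h0
    exact ⟨P, hP⟩
  rw [hw P y hP, ev_eq_iff]
  refine hP ?_
  rw [RingHom.mem_ker]
  refine Subtype.ext ?_
  simp only [map_sub, map_sum, map_mul]
  have : ∀ Q, ((Groth.ReducedNormal.projClosure A P) (e' Q)).1 =
      if Q = P then 1 else 0 := fun Q => by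
    split_ifs with h
    · subst h; exact he1 Q
    · exact he0 Q P h
  simp [AddSubmonoidClass.coe_finsetSum, this]

theorem exists_ev_descend {A : Type u} [CommRing A] (hA : HTop.IsSeminormalRing A)
    (f : PtFun (Spec (CommRingCat.of A))) {B : Type u} [CommRing B] [IsReduced B] [Algebra A B]
    (hinj : Function.Injective (algebraMap A B)) (hint : (algebraMap A B).IsIntegral) (w : B)
    (hw : ∀ y, f.pullback (Spec.map (CommRingCat.ofHom (algebraMap A B))) y = ev B y w) :
    ∃ a : A, ∀ x, f x = ev A x a := by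
  let ψ := algebraMap A B
  have : Algebra.IsIntegral A B := ⟨hint⟩
  have frac : ∀ y : Spec (CommRingCat.of B), ∃ a s : A, ψ s ∉ y.asIdeal ∧
      ψ s * w - ψ a ∈ y.asIdeal := fun y => by
    obtain ⟨a, s, hs, h⟩ := exists_frac _ (f (Spec.map (CommRingCat.ofHom ψ) y))
    refine ⟨a, s, hs, ?_⟩
    have h' := congrArg ((Spec.map (CommRingCat.ofHom ψ)).residueFieldMap y) h
    rw [map_mul, map_ev, map_ev] at h'
    have hy := hw y
    rw [PtFun.pullback] at hy
    rw [hy] at h'
    rw [← ev_eq_iff, mul_comm]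
    refine Eq.trans ?_ h'
    simp only [ev, map_mul]
  let C := Algebra.adjoin A ({w} : Set B)
  let φ : A →+* C := algebraMap A C
  have : IsReduced C := isReduced_of_injective C.val Subtype.val_injective
  have hfin : φ.Finite := by
    refine RingHom.finite_algebraMap.mpr ?_
    exact Module.Finite.iff_fg.mpr (Algebra.IsIntegral.isIntegral w).fg_adjoin_singleton
  have hCint : C.val.toRingHom.IsIntegral := fun x => by
    obtain ⟨g, hg, hg'⟩ := hint x
    exact ⟨g.map φ, hg.map _, by rwa [Polynomial.eval₂_map]⟩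
  have hCker : ∀ (K : Type u) [Field K] (d : C →+* K), RingHom.ker C.val.toRingHom ≤ RingHom.ker d :=
    fun K _ d => by rw [(RingHom.injective_iff_ker_eq_bot _).mp Subtype.val_injective]; exact bot_le
  have hPI : PointsInj φ := fun K _ d₁ d₂ h => by
    let i := algebraMap K (AlgebraicClosure K)
    obtain ⟨D₁, hD₁⟩ := exists_extend C.val.toRingHom hCint (i.comp d₁) (hCker _ _)
    obtain ⟨D₂, hD₂⟩ := exists_extend C.val.toRingHom hCint (i.comp d₂) (hCker _ _)
    have hh : ∀ a, D₁ (ψ a) = D₂ (ψ a) := fun a => by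
      show D₁.comp C.val.toRingHom (φ a) = D₂.comp C.val.toRingHom (φ a)
      rw [hD₁, hD₂]
      exact congrArg i (congr($h a))
    let y₁ : Spec (CommRingCat.of B) := ⟨RingHom.ker D₁, RingHom.ker_isPrime D₁⟩
    let y₂ : Spec (CommRingCat.of B) := ⟨RingHom.ker D₂, RingHom.ker_isPrime D₂⟩
    have hy : Spec.map (CommRingCat.ofHom ψ) y₁ = Spec.map (CommRingCat.ofHom ψ) y₂ :=
      PrimeSpectrum.ext (Ideal.ext fun a => by
        show D₁ (ψ a) = 0 ↔ D₂ (ψ a) = 0
        rw [hh])
    obtain ⟨a, s, hs, h⟩ := exists_frac _ (f (Spec.map (CommRingCat.ofHom ψ) y₁))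
    have key : ∀ y : Spec (CommRingCat.of B),
        Spec.map (CommRingCat.ofHom ψ) y = Spec.map (CommRingCat.ofHom ψ) y₁ →
          w * ψ s - ψ a ∈ y.asIdeal := fun y e => by
      rw [← e] at h
      have h' := congrArg ((Spec.map (CommRingCat.ofHom ψ)).residueFieldMap y) h
      rw [map_mul, map_ev, map_ev] at h'
      have hy := hw y
      rw [PtFun.pullback] at hy
      rw [hy] at h'
      rw [← ev_eq_iff]
      refine Eq.trans ?_ h'
      simp only [ev, map_mul]
    have h₁ : D₁ (w * ψ s - ψ a) = 0 := key y₁ rfl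
    have h₂ : D₂ (w * ψ s - ψ a) = 0 := key y₂ hy.symm
    rw [map_sub, map_mul, sub_eq_zero] at h₁ h₂
    have hw12 : D₁ w = D₂ w := mul_right_cancel₀ (b := D₁ (ψ s)) hs (by rw [h₁, hh s, h₂, hh a])
    refine RingHom.ext fun c => i.injective ?_
    have hval : ∀ b ∈ C, D₁ b = D₂ b := fun b hb => by
      induction hb using Algebra.adjoin_induction with
      | mem x hx => rw [Set.mem_singleton_iff.mp hx]; exact hw12
      | algebraMap r => exact hh r
      | add x y _ _ hx hy => rw [map_add, map_add, hx, hy]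
      | mul x y _ _ hx hy => rw [map_mul, map_mul, hx, hy]
    show i.comp d₁ c = i.comp d₂ c
    rw [← hD₁, ← hD₂]
    exact hval c.1 c.2
  have hRS : ResSurj φ := fun q hq c => by
    let := C.val.toRingHom.toAlgebra
    have : Algebra.IsIntegral C B := ⟨hCint⟩
    obtain ⟨Q, -, hQ, hQq⟩ := Ideal.exists_ideal_over_prime_of_isIntegral q (⊥ : Ideal B) (by
      rw [← RingHom.ker_eq_comap_bot,
        (RingHom.injective_iff_ker_eq_bot _).mp (show Function.Injective (algebraMap C B) from
          Subtype.val_injective)]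
      exact bot_le)
    obtain ⟨a, s, hs, h⟩ := frac ⟨Q, hQ⟩
    have hqQ : ∀ z : C, z ∈ q ↔ (z : B) ∈ Q := fun z => by rw [← hQq]; exact Iff.rfl
    obtain ⟨c, hc⟩ := c
    suffices ∃ a' s' : A, ψ s' ∉ Q ∧ ψ s' * c - ψ a' ∈ Q by
      obtain ⟨a', s', h1, h2⟩ := this
      exact ⟨a', s', fun e => h1 ((hqQ _).mp e), (hqQ _).mpr h2⟩
    induction hc using Algebra.adjoin_induction with
    | mem x hx => rw [Set.mem_singleton_iff.mp hx]; exact ⟨a, s, hs, h⟩
    | algebraMap r =>
      refine ⟨r, 1, by rw [map_one]; exact hQ.one_notMem, ?_⟩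
      rw [map_one, one_mul, sub_self]; exact Q.zero_mem
    | add x y _ _ hx hy =>
      obtain ⟨a₁, s₁, h₁, k₁⟩ := hx
      obtain ⟨a₂, s₂, h₂, k₂⟩ := hy
      refine ⟨a₁ * s₂ + a₂ * s₁, s₁ * s₂, by rw [map_mul]; exact hQ.mul_notMem h₁ h₂, ?_⟩
      have := Q.add_mem (Q.mul_mem_left (ψ s₂) k₁) (Q.mul_mem_left (ψ s₁) k₂)
      convert this using 1
      simp only [map_add, map_mul]; ring
    | mul x y _ _ hx hy =>
      obtain ⟨a₁, s₁, h₁, k₁⟩ := hx
      obtain ⟨a₂, s₂, h₂, k₂⟩ := hy
      refine ⟨a₁ * a₂, s₁ * s₂, by rw [map_mul]; exact hQ.mul_notMem h₁ h₂, ?_⟩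
      have := Q.add_mem (Q.mul_mem_left (ψ s₂ * y) k₁) (Q.mul_mem_left (ψ a₁) k₂)
      convert this using 1
      simp only [map_mul]; ring
  obtain ⟨a, ha⟩ := surjective_of_finite φ hfin
    (fun x y e => hinj (congrArg Subtype.val e)) hA hPI (Or.inr hRS) ⟨w, Algebra.subset_adjoin rfl⟩
  replace ha : ψ a = w := congrArg Subtype.val ha
  refine ⟨a, fun x => ?_⟩
  obtain ⟨Q, -, hQ, hQx⟩ := Ideal.exists_ideal_over_prime_of_isIntegral x.asIdeal (⊥ : Ideal B) (by
    rw [← RingHom.ker_eq_comap_bot, (RingHom.injective_iff_ker_eq_bot _).mp hinj]; exact bot_le)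
  let y : Spec (CommRingCat.of B) := ⟨Q, hQ⟩
  rw [show x = Spec.map (CommRingCat.ofHom ψ) y from (PrimeSpectrum.ext hQx).symm]
  refine RingHom.injective _ ((hw y).trans ?_)
  rw [← ha]
  exact (map_ev ψ y a).symm

/-- On a seminormal ring with finite normalisation such a function is algebraic. -/
theorem exists_ev_seminormal [Module.Finite A (integralClosure A (FractionRing A))]
    (hA : HTop.IsSeminormalRing A)
    {f : PtFun (Spec (CommRingCat.of A))} (hf : f.VariesAlongCompleteDVR) :
    ∃ a : A, ∀ x, f x = ev A x a := by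
  obtain ⟨w, hw⟩ := exists_ev_closure hf
  have := isReduced_fractionRing (A := A)
  have : IsReduced (integralClosure A (FractionRing A)) :=
    isReduced_of_injective (integralClosure A (FractionRing A)).val Subtype.val_injective
  exact exists_ev_descend hA f (fun a b h =>
    IsFractionRing.injective A (FractionRing A) (congrArg Subtype.val h))
    Algebra.IsIntegral.isIntegral w hw

end Groth.HTopHyper.PtFunDVR
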