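import Groth.Agent.HTopHyper.SchemeBasic
import Mathlib.AlgebraicGeometry.Sites.SmallAffineZariski
import Mathlib.AlgebraicGeometry.RelativeGluing
import Mathlib.AlgebraicGeometry.Morphisms.Integral

/-!
Existence of the absolute weak normalization of a scheme.
-/

universe u

open CategoryTheory CategoryTheory.Limits AlgebraicGeometry Opposite

namespace Groth.HTopHyper

section map

variable {A B C : Type u} [CommRing A] [CommRing B] [CommRing C]

theorem existsUnique_awnMap (f : A →+* B) :
    ∃! χ : awnSub A →+* awnSub B, χ.comp (algebraMap A _) = (algebraMap B _).comp f := by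
  have hex : ∀ j : PrimeSpectrum B, ∃ d : awnSub A →+* AlgebraicClosure j.asIdeal.ResidueField,
      d.comp (algebraMap A _) = (algebraMap B _).comp f := fun j =>
    exists_extend _ isGood_awnSub.1 _
      ((ker_algebraMap_sub _).trans (@nilradical_le_prime _ _ _ (RingHom.ker_isPrime _)))
  choose d hd using hex
  let g : awnSub A →+* PtProd B := RingHom.pi d
  have hg : g.comp (algebraMap A _) = (algebraMap B (PtProd B)).comp f :=
    RingHom.ext fun a => funext fun j => RingHom.congr_fun (hd j) a
  let S := Algebra.adjoin B (Set.range g)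
  have hS : IsGoodSub S := by
    refine ⟨fun x => ?_, pointsInj_adjoin _ ?_⟩
    · have : S ≤ integralClosure B (PtProd B) := by
        refine Algebra.adjoin_le ?_
        rintro _ ⟨w, rfl⟩
        obtain ⟨p, hp, hp'⟩ := (isGood_awnSub (A := A)).1 w
        exact ⟨p.map f, hp.map _, by
          rw [Polynomial.eval₂_map, ← hg, ← Polynomial.hom_eval₂, hp', map_zero]⟩
      exact (isIntegral_algHom_iff S.val Subtype.val_injective).mp (this x.2)
    · rintro K _ d₁ d₂ e _ ⟨w, rfl⟩
      let gS : awnSub A →+* S := g.codRestrict S.toSubring fun w => Algebra.subset_adjoin ⟨w, rfl⟩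
      exact RingHom.congr_fun (isGood_awnSub.2 K (d₁.comp gS) (d₂.comp gS) (RingHom.ext fun a => by
        have : gS (algebraMap A _ a) = algebraMap B S (f a) := Subtype.ext (RingHom.congr_fun hg a)
        change d₁ (gS _) = d₂ (gS _)
        rw [this]; exact RingHom.congr_fun e (f a))) w
  refine ⟨g.codRestrict (awnSub B).toSubring fun w => le_awnSub hS (Algebra.subset_adjoin ⟨w, rfl⟩),
    RingHom.ext fun a => Subtype.ext (RingHom.congr_fun hg a), fun χ hχ => ?_⟩
  refine RingHom.ext fun w => Subtype.ext (funext fun j => ?_)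
  exact RingHom.congr_fun (isGood_awnSub.2 _
    ((Pi.evalRingHom _ j).comp ((awnSub B).val.toRingHom.comp χ)) (d j) (RingHom.ext fun a =>
      (congrFun (congrArg Subtype.val (RingHom.congr_fun hχ a)) j).trans
        (RingHom.congr_fun (hd j) a).symm)) w

/-- functoriality of the weak normalization -/
noncomputable def awnMap (f : A →+* B) : awnSub A →+* awnSub B := (existsUnique_awnMap f).choose

theorem awnMap_spec (f : A →+* B) :
    (awnMap f).comp (algebraMap A _) = (algebraMap B _).comp f :=
  (existsUnique_awnMap f).choose_spec.1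

theorem awnMap_ext {f : A →+* B} {χ : awnSub A →+* awnSub B}
    (h : χ.comp (algebraMap A _) = (algebraMap B _).comp f) : χ = awnMap f :=
  (existsUnique_awnMap f).choose_spec.2 χ h

/-- The weak normalization commutes with localization away from an element. -/
theorem isLocalization_awnMap [Algebra A B] (r : A) [IsLocalization.Away r B] :
    letI := (awnMap (algebraMap A B)).toAlgebra
    IsLocalization.Away (algebraMap A (awnSub A) r) (awnSub B) := by
  let W := awnSub A
  let := (awnMap (algebraMap A B)).toAlgebra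
  let r' := algebraMap A W r
  let L := Localization.Away r'
  have hunit : IsUnit ((algebraMap W L).comp (algebraMap A W) r) :=
    IsLocalization.Away.algebraMap_isUnit r'
  let ψ : B →+* L := IsLocalization.Away.lift r hunit
  have hψ : ∀ a, ψ (algebraMap A B a) = algebraMap W L (algebraMap A W a) :=
    fun a => IsLocalization.Away.lift_eq r hunit a
  obtain ⟨hWi, hWk, hWu⟩ := (specUnivHomeo_iff _).mp (isUnivHomeo_sub (isGood_awnSub (A := A)))
  have huh : FlatMor.IsUnivHomeo (Spec.map (CommRingCat.ofHom ψ)) := by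
    refine (specUnivHomeo_iff ψ).mpr ⟨fun z => ?_, fun b hb => ?_, fun K _ d₁ d₂ e => ?_⟩
    · obtain ⟨n, w, hw⟩ := IsLocalization.Away.surj r' z
      have hwi : ψ.IsIntegralElem (algebraMap W L w) := by
        obtain ⟨p, hp, hp'⟩ := hWi w
        refine ⟨p.map (algebraMap A B), hp.map _, ?_⟩
        rw [Polynomial.eval₂_map, show ψ.comp (algebraMap A B) = (algebraMap W L).comp (algebraMap A W) from RingHom.ext hψ,
          ← Polynomial.hom_eval₂, hp', map_zero]
      obtain ⟨v, hv⟩ := (IsLocalization.Away.algebraMap_isUnit (S := B) r).pow n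
      have : z = algebraMap W L w * ψ (↑v⁻¹ : B) := by
        rw [← hw, mul_assoc]
        have : algebraMap W L r' ^ n = ψ (v : B) := by rw [hv, map_pow, hψ]
        rw [this, ← map_mul, Units.mul_inv, map_one, mul_one]
      rw [this]
      exact RingHom.IsIntegralElem.mul ψ hwi (RingHom.isIntegralElem_map _)
    · obtain ⟨n, a, ha⟩ := IsLocalization.Away.surj r b
      have h0 : algebraMap W L (algebraMap A W a) = 0 := by
        rw [← hψ, ← ha, map_mul, RingHom.mem_ker.mp hb, zero_mul]
      obtain ⟨⟨_, m, rfl⟩, hm⟩ := (IsLocalization.map_eq_zero_iff (Submonoid.powers r') L _).mp h0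
      have hnil : IsNilpotent (r ^ m * a) := hWk (by
        rw [RingHom.mem_ker, map_mul, map_pow]; exact hm)
      have h1 := hnil.map (algebraMap A B)
      rw [map_mul, map_pow, ← ha, ← mul_assoc, mul_comm _ b, mul_assoc, ← pow_add] at h1
      obtain ⟨v, hv⟩ := (IsLocalization.Away.algebraMap_isUnit (S := B) r).pow (m + n)
      rw [← hv] at h1
      have h2 := (Commute.all (b * v) (↑v⁻¹ : B)).isNilpotent_mul_right h1
      rw [mul_assoc, Units.mul_inv, mul_one] at h2
      exact h2
    · refine IsLocalization.ringHom_ext (Submonoid.powers r') (hWu K _ _ (RingHom.ext fun a => ?_))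
      simpa [hψ] using RingHom.congr_fun e (algebraMap A B a)
  have hL : HTop.IsRingAWN ψ := isRingAWN_of_isAWNRing ψ huh
    (isAWNRing_localization (Submonoid.powers r') isAWNRing_awnSub)
  obtain ⟨e, he⟩ := isRingAWN_unique hL (isRingAWN_awnSub (A := B))
  have hcomm : (e : L →+* awnSub B).comp (algebraMap W L) = awnMap (algebraMap A B) :=
    awnMap_ext (RingHom.ext fun a => by
      change e (algebraMap W L (algebraMap A W a)) = _
      rw [← hψ]; exact RingHom.congr_fun he _)
  exact IsLocalization.isLocalization_of_algEquiv (Submonoid.powers r')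
    (AlgEquiv.ofRingEquiv (f := e) fun w => RingHom.congr_fun hcomm w)

end map

section scheme

open Scheme.AffineZariskiSite

variable (X : Scheme.{u})

/-- the weak normalization as a functor -/
noncomputable def awnFunctor : CommRingCat.{u} ⥤ CommRingCat.{u} where
  obj R := .of (awnSub R)
  map f := CommRingCat.ofHom (awnMap f.hom)
  map_id R := (CommRingCat.hom_ext (awnMap_ext (f := RingHom.id R) (χ := RingHom.id (awnSub R)) rfl)).symm
  map_comp f g := by
    refine (CommRingCat.hom_ext (awnMap_ext ?_)).symm
    simp only [CommRingCat.hom_comp, CommRingCat.hom_ofHom]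
    rw [RingHom.comp_assoc, awnMap_spec, ← RingHom.comp_assoc, awnMap_spec, RingHom.comp_assoc]

/-- the unit of the weak normalization -/
noncomputable def awnUnit : 𝟭 CommRingCat.{u} ⟶ awnFunctor where
  app R := CommRingCat.ofHom (algebraMap R (awnSub R))
  naturality _ _ f := CommRingCat.hom_ext (awnMap_spec f.hom).symm

/-- weak normalizations of all affine opens -/
noncomputable abbrev awnPresheaf : X.AffineZariskiSiteᵒᵖ ⥤ CommRingCat.{u} :=
  ((toOpensFunctor X).op ⋙ X.presheaf) ⋙ awnFunctor

/-- the structure map -/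
noncomputable def awnPresheafMap : (toOpensFunctor X).op ⋙ X.presheaf ⟶ awnPresheaf X where
  app U := awnUnit.app (((toOpensFunctor X).op ⋙ X.presheaf).obj U)
  naturality _ _ i := awnUnit.naturality (((toOpensFunctor X).op ⋙ X.presheaf).map i)

theorem coequifibered_awnPresheafMap : (awnPresheafMap X).Coequifibered := by
  rw [coequifibered_iff_forall_isLocalizationAway]
  intro U f
  let := (X.presheaf.map (homOfLE (X.basicOpen_le f)).op).hom.toAlgebra
  have : IsLocalization.Away f Γ(X, X.basicOpen f) := U.2.isLocalization_basicOpen f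
  exact isLocalization_awnMap (A := Γ(X, U.toOpens)) (B := Γ(X, X.basicOpen f)) f

/-- gluing datum of the weak normalization -/
noncomputable def awnGlueData := relativeGluingData (coequifibered_awnPresheafMap X)

instance : ((awnGlueData X).functor ⋙ Scheme.forget).IsLocallyDirected :=
  Scheme.Cover.RelativeGluingData.instIsLocallyDirectedI₀CompFunctorForgetOfIsThin ..

/-- the weak normalization of a scheme -/
noncomputable def awnScheme : Scheme.{u} := (awnGlueData X).glued

/-- its structure morphism -/
noncomputable def awnToBase : awnScheme X ⟶ X := (awnGlueData X).toBase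

/-- its affine charts -/
noncomputable def awnChart : (awnScheme X).OpenCover := (awnGlueData X).cover

theorem awnChart_toBase (U : X.affineOpens) :
    (awnChart X).f U ≫ awnToBase X =
      Spec.map ((awnPresheafMap X).app (op U)) ≫ U.2.fromSpec :=
  colimit.ι_desc _ _

instance isOpenImmersion_awnChart (U : X.affineOpens) : IsOpenImmersion ((awnChart X).f U) :=
  (awnChart X).map_prop U

theorem awnToBase_preimage (U : X.affineOpens) :
    awnToBase X ⁻¹ᵁ U = ((awnChart X).f U).opensRange := by
  simpa using! (awnGlueData X).toBase_preimage_eq_opensRange_ι U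

set_option backward.isDefEq.respectTransparency false in
theorem isUnivHomeo_awnToBase : FlatMor.IsUnivHomeo (awnToBase X) := by
  have h : ∀ U : X.affineOpens, FlatMor.IsUnivHomeo (awnToBase X ∣_ U.1) := by
    intro U
    have : IsOpenImmersion ((awnChart X).f U) := (awnChart X).map_prop U
    let e := IsOpenImmersion.isoOfRangeEq (awnToBase X ⁻¹ᵁ U.1).ι ((awnChart X).f U)
      (by simpa using congr($(awnToBase_preimage X U).1))
    rw [← MorphismProperty.cancel_left_of_respectsIso FlatMor.IsUnivHomeo e.inv,
      ← MorphismProperty.cancel_right_of_respectsIso FlatMor.IsUnivHomeo _ U.2.isoSpec.hom]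
    convert! isUnivHomeo_sub (isGood_awnSub (A := Γ(X, U.1)))
    rw [← cancel_mono U.2.fromSpec]
    simp only [IsAffineOpen.isoSpec_hom, Category.assoc, IsAffineOpen.toSpecΓ_fromSpec,
      morphismRestrict_ι]
    rw [IsOpenImmersion.isoOfRangeEq_inv_fac_assoc]
    exact awnChart_toBase X U
  rw [isUnivHomeo_iff]
  refine ⟨?_, ?_, ?_⟩
  · exact (IsZariskiLocalAtTarget.iff_of_iSup_eq_top (P := @IsIntegralHom) _
      (iSup_affineOpens_eq_top X)).mpr fun U => isIntegralHom_of_isUnivHomeo (h U)
  · exact (IsZariskiLocalAtTarget.iff_of_iSup_eq_top (P := @UniversallyInjective) _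
      (iSup_affineOpens_eq_top X)).mpr fun U => universallyInjective_of_isUnivHomeo (h U)
  · exact (IsZariskiLocalAtTarget.iff_of_iSup_eq_top (P := @Surjective) _
      (iSup_affineOpens_eq_top X)).mpr fun U => surjective_of_isUnivHomeo (h U)

theorem isAWN_awnScheme : HTop.IsAWN (awnScheme X) := by
  intro x
  obtain ⟨U, y, rfl⟩ := (awnChart X).exists_eq x
  let c : Spec (CommRingCat.of (awnSub Γ(X, U.1))) ⟶ awnScheme X := (awnChart X).f U
  have : IsOpenImmersion c := (awnChart X).map_prop U
  refine ⟨⟨c ''ᵁ ⊤, (isAffineOpen_top _).image_of_isOpenImmersion c⟩, ⟨y, trivial, rfl⟩, ?_⟩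
  exact isAWNRing_of_equiv (c.appIso ⊤ ≪≫ Scheme.ΓSpecIso _).commRingCatIsoToRingEquiv isAWNRing_awnSub

theorem isAWNormalization_awnToBase : HTop.IsAWNormalization (awnToBase X) :=
  isAWNormalization_of_isAWN _ (isUnivHomeo_awnToBase X) (isAWN_awnScheme X)

end scheme

/-- Two absolute weak normalizations are isomorphic. -/
theorem isAWNormalization_unique {X X₁ X₂ : Scheme.{u}} {ν₁ : X₁ ⟶ X} {ν₂ : X₂ ⟶ X}
    (h₁ : HTop.IsAWNormalization ν₁) (h₂ : HTop.IsAWNormalization ν₂) :
    ∃ e : X₁ ≅ X₂, e.hom ≫ ν₂ = ν₁ := by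
  obtain ⟨f, hf, -⟩ := h₁.2 X₂ ν₂ h₂.1
  obtain ⟨g, hg, -⟩ := h₂.2 X₁ ν₁ h₁.1
  exact ⟨⟨f, g, (h₁.2 X₁ ν₁ h₁.1).unique (by rw [Category.assoc, hg, hf]) (Category.id_comp _),
    (h₂.2 X₂ ν₂ h₂.1).unique (by rw [Category.assoc, hf, hg]) (Category.id_comp _)⟩, hf⟩

theorem isAWN_of_isAWNormalization {X X' : Scheme.{u}} {ν : X' ⟶ X} (h : HTop.IsAWNormalization ν) :
    HTop.IsAWN X' := by
  obtain ⟨e, -⟩ := isAWNormalization_unique h (isAWNormalization_awnToBase X)
  exact isAWN_of_isOpenImmersion e.hom (isAWN_awnScheme X)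

end Groth.HTopHyper
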