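import Groth.Agent.HTopHyper.Coverings
import Mathlib.AlgebraicGeometry.Sites.BigZariski

/-! Sheaf conditions for V and ph coverings from standard coverings and the Zariski topology. -/

set_option autoImplicit false

universe w w' v u

open CategoryTheory CategoryTheory.Limits AlgebraicGeometry Opposite

namespace Groth.HTopHyper

variable {F : Scheme.{u}ᵒᵖ ⥤ Type v}

theorem map_comp' {A B C : Scheme.{u}} (a : A ⟶ B) (b : B ⟶ C) (s : F.obj (op C)) :
    F.map (a ≫ b).op s = F.map a.op (F.map b.op s) := by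
  rw [op_comp, F.map_comp]; rfl

variable (hF : Presieve.IsSheaf Scheme.zariskiTopology F)

include hF in
theorem isSheafFor_openCover {X : Scheme.{u}} (𝒰 : X.OpenCover) :
    Presieve.IsSheafFor F 𝒰.presieve₀ :=
  hF.isSheafFor _ 𝒰.mem_grothendieckTopology

include hF in
theorem eq_of_openCover {X : Scheme.{u}} (𝒰 : X.OpenCover) {s t : F.obj (op X)}
    (h : ∀ i, F.map (𝒰.f i).op s = F.map (𝒰.f i).op t) : s = t :=
  (isSheafFor_openCover hF 𝒰).isSeparatedFor.ext fun _ _ ⟨i⟩ => h i

include hF in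
theorem eq_of_opens {X : Scheme.{u}} {α : Type w} (U : α → X.Opens)
    (hU : ∀ x : X, ∃ a, x ∈ U a) {s t : F.obj (op X)}
    (h : ∀ a, F.map (U a).ι.op s = F.map (U a).ι.op t) : s = t := by
  choose a ha using hU
  exact eq_of_openCover hF (X.openCoverOfIsOpenCover (fun x => U (a x))
    (TopologicalSpace.Opens.ext <| Set.eq_univ_of_forall fun x => by
      simp only [TopologicalSpace.Opens.coe_iSup, Set.mem_iUnion]; exact ⟨x, ha x⟩)) fun x => h (a x)

include hF in
/-- If `F` has the sheaf property for `f : P ⟶ T`, it has it for the restrictions of `f` to an open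
cover of `P`. -/
theorem isSheafFor_of_openCover_source {T P : Scheme.{u}} (f : P ⟶ T)
    (E : PreZeroHypercover.{u} T) (ι : ∀ j, E.X j ⟶ P) [∀ j, IsOpenImmersion (ι j)]
    (hfac : ∀ j, ι j ≫ f = E.f j) (hcov : ∀ x : P, ∃ j, x ∈ Set.range (ι j).base)
    (hf : Presieve.IsSheafFor F (Presieve.singleton f)) : Presieve.IsSheafFor F E.presieve₀ := by
  choose c hc using hcov
  let 𝒰 : P.OpenCover :=
    ⟨⟨E.I₀, E.X, ι⟩, by
      rw [Scheme.presieve₀_mem_precoverage_iff]
      exact ⟨fun x => ⟨c x, hc x⟩, fun j => inferInstanceAs (IsOpenImmersion (ι j))⟩⟩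
  rw [Presieve.isSheafFor_arrows_iff]
  intro x hx
  obtain ⟨s, hs, -⟩ := (Presieve.isSheafFor_arrows_iff F ι).mp (isSheafFor_openCover hF 𝒰) x
    fun i j Z gi gj h => hx i j Z gi gj (by rw [← hfac, ← hfac, reassoc_of% h])
  have key : ∀ (Z : Scheme.{u}) (a b : Z ⟶ P), a ≫ f = b ≫ f → F.map a.op s = F.map b.op s := by
    intro Z a b hab
    refine eq_of_opens hF (fun jk : E.I₀ × E.I₀ => a ⁻¹ᵁ (ι jk.1).opensRange ⊓
      b ⁻¹ᵁ (ι jk.2).opensRange) (fun z => ⟨(c (a z), c (b z)), hc (a z), hc (b z)⟩) fun jk => ?_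
    let o := (a ⁻¹ᵁ (ι jk.1).opensRange ⊓ b ⁻¹ᵁ (ι jk.2).opensRange).ι
    have ha : Set.range (o ≫ a) ⊆ Set.range (ι jk.1) := by
      rintro _ ⟨z, rfl⟩; exact z.2.1
    have hb : Set.range (o ≫ b) ⊆ Set.range (ι jk.2) := by
      rintro _ ⟨z, rfl⟩; exact z.2.2
    change F.map o.op (F.map a.op s) = F.map o.op (F.map b.op s)
    rw [← map_comp', ← map_comp', ← IsOpenImmersion.lift_fac _ _ ha, ← IsOpenImmersion.lift_fac _ _ hb,
      map_comp', map_comp', hs, hs]
    refine hx _ _ _ _ _ ?_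
    rw [← hfac, ← hfac, IsOpenImmersion.lift_fac_assoc, IsOpenImmersion.lift_fac_assoc,
      Category.assoc, Category.assoc, hab]
  have hf' : Presieve.IsSheafFor F (Presieve.ofArrows (fun _ : PUnit.{1} => P) fun _ => f) := by
    rw [Presieve.ofArrows_pUnit]; exact hf
  rw [Presieve.isSheafFor_arrows_iff] at hf'
  obtain ⟨t, ht, huniq⟩ := hf' (fun _ => s) fun _ _ Z a b h => key Z a b h
  refine ⟨t, fun j => ?_, fun t' ht' => huniq t' fun _ => eq_of_openCover hF 𝒰 fun j => ?_⟩
  · rw [← hfac, map_comp', ht PUnit.unit, hs]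
  · change F.map (ι j).op (F.map f.op t') = F.map (ι j).op s
    rw [← map_comp', hfac, ht', hs]

include hF in
/-- Gluing: if over every affine open a family refining `E` has the sheaf property, stably under
base change to affine schemes, then `E` has the sheaf property. -/
theorem isSheafFor_of_refinements {X : Scheme.{u}} (E : PreZeroHypercover.{w} X)
    (G : ∀ U : X.affineOpens, PreZeroHypercover.{w'} ((U : X.Opens) : Scheme.{u}))
    (href : ∀ U : X.affineOpens, HTop.RefinesOver (U : X.Opens).ι (G U) E)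
    (hG : ∀ U : X.affineOpens, Presieve.IsSheafFor F (G U).presieve₀)
    (hsep : ∀ (U : X.affineOpens) (Y : Scheme.{u}) [IsAffine Y] (h : Y ⟶ (U : X.Opens)),
      Presieve.IsSheafFor F ((G U).pullback₁ h).presieve₀) :
    Presieve.IsSheafFor F E.presieve₀ := by
  -- equality of sections over a scheme mapping to an affine open, tested on the refinement
  have eq_test : ∀ (U : X.affineOpens) (Z : Scheme.{u}) (b : Z ⟶ (U : X.Opens))
      (s t : F.obj (op Z)), (∀ k (Q : Scheme.{u}) (q : Q ⟶ Z) (r : Q ⟶ (G U).X k),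
        r ≫ (G U).f k = q ≫ b → F.map q.op s = F.map q.op t) → s = t := by
    intro U Z b s t h
    refine eq_of_openCover hF Z.affineCover fun i => ?_
    have : IsAffine (Z.affineCover.X i) := inferInstance
    refine (hsep U _ (Z.affineCover.f i ≫ b)).isSeparatedFor.ext ?_
    rintro Q g ⟨k⟩
    rw [← map_comp', ← map_comp']
    exact h k _ _ (pullback.snd (Z.affineCover.f i ≫ b) ((G U).f k))
      (pullback.condition.symm.trans (Category.assoc _ _ _).symm)
  rw [Presieve.isSheafFor_arrows_iff]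
  intro x hx
  choose i r hr using href
  have loc : ∀ U : X.affineOpens, ∃! t : F.obj (op ((U : X.Opens) : Scheme.{u})),
      ∀ k, F.map ((G U).f k).op t = F.map (r U k).op (x (i U k)) := fun U =>
    (Presieve.isSheafFor_arrows_iff F (G U).f).mp (hG U) _ fun k l Z a b h => by
      rw [← map_comp', ← map_comp']
      exact hx _ _ _ _ _ (by rw [Category.assoc, hr, Category.assoc, hr, reassoc_of% h])
  choose t ht htu using loc
  have claim : ∀ (U : X.affineOpens) (j : E.I₀) (Z : Scheme.{u}) (a : Z ⟶ E.X j)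
      (b : Z ⟶ (U : X.Opens)), a ≫ E.f j = b ≫ (U : X.Opens).ι →
      F.map a.op (x j) = F.map b.op (t U) := by
    intro U j Z a b hab
    refine eq_test U Z b _ _ fun k Q q r' hq => ?_
    rw [← map_comp' q b, ← hq, map_comp' r', ht, ← map_comp', ← map_comp']
    refine hx _ _ _ _ _ ?_
    rw [Category.assoc, hab, Category.assoc, hr, reassoc_of% hq]
  let 𝒰 : X.OpenCover := X.openCoverOfIsOpenCover (fun U : X.affineOpens => (U : X.Opens))
    (TopologicalSpace.Opens.ext <| Set.eq_univ_of_forall fun y => by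
      obtain ⟨U, hU, hy, -⟩ := X.isBasis_affineOpens.exists_subset_of_mem_open
        (Set.mem_univ y) isOpen_univ
      obtain ⟨U', hU', rfl⟩ := hU
      simp only [TopologicalSpace.Opens.coe_iSup, Set.mem_iUnion]
      exact ⟨⟨U', hU'⟩, hy⟩)
  obtain ⟨T, hT, hTu⟩ := (Presieve.isSheafFor_arrows_iff F 𝒰.f).mp
    (isSheafFor_openCover hF 𝒰) t fun (U V : X.affineOpens) (Z : Scheme.{u}) (a : Z ⟶ ((U : X.Opens) : Scheme.{u}))
      (b : Z ⟶ ((V : X.Opens) : Scheme.{u})) (h : a ≫ (U : X.Opens).ι = b ≫ (V : X.Opens).ι) => by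
      refine eq_test U Z a _ _ fun k Q q r' hq => ?_
      show F.map q.op (F.map a.op (t U)) = F.map q.op (F.map b.op (t V))
      rw [← map_comp' q a, ← hq, map_comp' r', ht, ← map_comp', ← map_comp']
      refine claim V _ _ _ _ ?_
      rw [Category.assoc, hr, reassoc_of% hq, Category.assoc]
      exact congrArg (q ≫ ·) h
  refine ⟨T, fun j => eq_of_opens hF (fun U : X.affineOpens => E.f j ⁻¹ᵁ (U : X.Opens))
    (fun y => ?_) fun U => ?_, fun T' hT' => hTu T' fun U : X.affineOpens => htu U _ fun k => ?_⟩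
  · obtain ⟨U, hU, hy, -⟩ := X.isBasis_affineOpens.exists_subset_of_mem_open
      (Set.mem_univ (E.f j y)) isOpen_univ
    obtain ⟨U', hU', rfl⟩ := hU
    exact ⟨⟨U', hU'⟩, hy⟩
  · have h := claim U j _ (E.f j ⁻¹ᵁ (U : X.Opens)).ι (E.f j ∣_ (U : X.Opens))
      (morphismRestrict_ι _ _).symm
    rw [h, ← map_comp', ← morphismRestrict_ι, map_comp']
    exact congrArg _ (hT U)
  · change F.map ((G U).f k).op (F.map (U : X.Opens).ι.op T') = _
    rw [← map_comp', ← hr, map_comp', hT']

theorem presieve_eq_of_mem {X : Scheme.{u}} (R : Presieve X) :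
    R = R.preZeroHypercover.presieve₀ := R.presieve₀_preZeroHypercover.symm

theorem isStandardV_reindex {T : Scheme.{u}} {E : PreZeroHypercover.{w} T}
    (hE : HTop.IsStandardV E) {ι : Type w'} (e : ι ≃ E.I₀) : HTop.IsStandardV (E.reindex e) := by
  have := hE.finite_index
  refine ⟨hE.isAffine, Finite.of_equiv _ e.symm, fun j => hE.isAffine_obj (e j), ?_⟩
  intro V _ _ g
  obtain ⟨W, hW, hW', φ, hφ, j, g', hg'⟩ := hE.lift V g
  obtain ⟨k, rfl⟩ := e.surjective j
  exact ⟨W, hW, hW', φ, hφ, k, g', hg'⟩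

theorem isVSheaf_iff_family (F : Scheme.{u}ᵒᵖ ⥤ Type v) : HTop.IsVSheaf F ↔
    ∀ (X : Scheme.{u}) (E : PreZeroHypercover.{u + 1} X), HTop.IsVCover E →
      Presieve.IsSheafFor F E.presieve₀ := by
  constructor
  · intro h X E hE
    exact h _ ((HTop.presieve₀_mem_vPrecoverage_iff E).mpr hE)
  · intro h X R hR
    rw [presieve_eq_of_mem R] at hR ⊢
    exact h _ _ ((HTop.presieve₀_mem_vPrecoverage_iff _).mp hR)

theorem isVSheaf_zariski {F : Scheme.{u}ᵒᵖ ⥤ Type v} (h : HTop.IsVSheaf F) :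
    Presieve.IsSheaf Scheme.zariskiTopology F := by
  rw [Scheme.zariskiTopology, Scheme.grothendieckTopology,
    Precoverage.isSheaf_toGrothendieck_iff_of_isStableUnderBaseChange]
  intro X R hR
  obtain ⟨(𝒰 : X.OpenCover), rfl⟩ := Scheme.exists_cover_of_mem_pretopology hR
  exact h _ ((HTop.presieve₀_mem_vPrecoverage_iff _).mpr (isVCover_openCover 𝒰))

theorem isVSheaf_of_standard {F : Scheme.{u}ᵒᵖ ⥤ Type v}
    (hF : Presieve.IsSheaf Scheme.zariskiTopology F)
    (h : ∀ (T : Scheme.{u}) (E : PreZeroHypercover.{u} T), HTop.IsStandardV E →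
      Presieve.IsSheafFor F E.presieve₀) : HTop.IsVSheaf F := by
  rw [isVSheaf_iff_family]
  intro X E hE
  choose G hG hGE using hE
  let G' : ∀ U : X.affineOpens, PreZeroHypercover.{u} ((U : X.Opens) : Scheme.{u}) :=
    fun U : X.affineOpens => (G U).reindex Equiv.ulift.{u}
  have hG' : ∀ U : X.affineOpens, HTop.IsStandardV (G' U) := fun U => isStandardV_reindex (hG U) _
  refine isSheafFor_of_refinements hF E G' (fun U k => hGE U (Equiv.ulift k))
    (fun U => h _ _ (hG' U)) fun U Y _ a => h _ _ (isStandardV_pullback₁ a _ (hG' U))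

theorem isStandardV_sigmaDesc {T : Scheme.{u}} {E : PreZeroHypercover.{u} T}
    (hE : HTop.IsStandardV E) :
    HTop.IsStandardV (PreZeroHypercover.singleton.{w} (Sigma.desc E.f)) := by
  have := hE.finite_index
  have := hE.isAffine_obj
  refine ⟨hE.isAffine, inferInstanceAs (Finite PUnit), fun _ => inferInstanceAs (IsAffine (∐ E.X)), ?_⟩
  intro V _ _ g
  obtain ⟨W, hW, hW', φ, hφ, j, g', hg'⟩ := hE.lift V g
  refine ⟨W, hW, hW', φ, hφ, PUnit.unit, g' ≫ Sigma.ι E.X j, ?_⟩
  refine (Category.assoc _ _ _).trans ?_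
  exact (congrArg (g' ≫ ·) (Sigma.ι_desc E.f j)).trans hg'

include hF in
theorem isSheafFor_standardPh
    (h₂ : ∀ (U V : Scheme.{u}) (f : V ⟶ U), IsProper f → Surjective f →
      Presieve.IsSheafFor F (Presieve.singleton f))
    {T : Scheme.{u}} {E : PreZeroHypercover.{u} T} (hE : HTop.IsStandardPh E) :
    Presieve.IsSheafFor F E.presieve₀ := by
  obtain ⟨P, f, ι, hp, hs, hι, hfac, hcov⟩ := hE.exists_proper
  exact isSheafFor_of_openCover_source hF f E ι hfac hcov (h₂ _ _ f hp hs)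

theorem isStandardPh_reindex {T : Scheme.{u}} {E : PreZeroHypercover.{w} T}
    (hE : HTop.IsStandardPh E) {ι : Type w'} (e : ι ≃ E.I₀) : HTop.IsStandardPh (E.reindex e) := by
  obtain ⟨P, f, a, hp, hs, ha, hfac, hcov⟩ := hE.exists_proper
  have := hE.finite_index
  refine ⟨hE.isAffine, Finite.of_equiv _ e.symm, fun j => hE.isAffine_obj (e j),
    P, f, fun j => a (e j), hp, hs, fun j => ha (e j), fun j => hfac (e j), fun y => ?_⟩
  obtain ⟨j, hj⟩ := hcov y
  obtain ⟨k, rfl⟩ := e.surjective j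
  exact ⟨k, hj⟩

include hF in
theorem isPhSheaf_of_proper
    (h₂ : ∀ (U V : Scheme.{u}) (f : V ⟶ U), IsProper f → Surjective f →
      Presieve.IsSheafFor F (Presieve.singleton f)) : HTop.IsPhSheaf F := by
  intro X R hR
  rw [presieve_eq_of_mem R] at hR ⊢
  obtain ⟨-, hE⟩ := (HTop.presieve₀_mem_phPrecoverage_iff _).mp hR
  choose G hG hGE using hE
  let G' : ∀ U : X.affineOpens, PreZeroHypercover.{u} ((U : X.Opens) : Scheme.{u}) :=
    fun U : X.affineOpens => (G U).reindex Equiv.ulift.{u}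
  have hG' : ∀ U : X.affineOpens, HTop.IsStandardPh (G' U) := fun U => isStandardPh_reindex (hG U) _
  exact isSheafFor_of_refinements hF _ G' (fun U k => hGE U (Equiv.ulift k))
    (fun U => isSheafFor_standardPh hF h₂ (hG' U))
    fun U Y _ a => isSheafFor_standardPh hF h₂ (isStandardPh_pullback₁ a _ (hG' U))

end Groth.HTopHyper
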