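import Groth.Agent.HTopHyper.SubtrRefine
import Groth.Agent.Limits.OpenPullback
import Groth.Agent.Misc8.SubtrNoeth

/-! Universal subtrusiveness descends along cofiltered limits. -/

set_option autoImplicit false
set_option backward.isDefEq.respectTransparency false

universe u

open CategoryTheory CategoryTheory.Limits AlgebraicGeometry

namespace Groth.HTopHyper.SubtrRefine

variable {X Y Q : Scheme.{u}}

/-- A morphism lifting locally on a proper surjection is universally subtrusive. -/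
theorem univSSubtrusive_of_liftsNear (f : X ⟶ Y) (g : Q ⟶ Y) [UniversallyClosed g] [Surjective g]
    (h : ∀ z, LiftsNear f g z) : Subtr.UnivSSubtrusive f := by
  intro X' Y' i₁ i₂ f' H y y' hy
  let p := pullback.fst i₂ g
  obtain ⟨z', hz'⟩ := p.surjective y'
  obtain ⟨z, hz, hpz⟩ := p.isClosedMap.specializingMap (show p z' ⤳ y from hz' ▸ hy)
  obtain ⟨O, hO, a, ha⟩ := h (pullback.snd i₂ g z)
  let O' : (pullback i₂ g).Opens := pullback.snd i₂ g ⁻¹ᵁ O
  have hz'O : z' ∈ O' := hz.mem_open O'.isOpen hO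
  let l : (O' : Scheme.{u}) ⟶ X' := H.lift (O'.ι ≫ p) ((pullback.snd i₂ g ∣_ O) ≫ a) (by
    rw [Category.assoc, Category.assoc, ha, morphismRestrict_ι_assoc, pullback.condition])
    |> fun l => l
  have hl : l ≫ f' = O'.ι ≫ p := H.lift_fst _ _ _
  have hspec : (⟨z', hz'O⟩ : O') ⤳ ⟨z, hO⟩ := Topology.IsInducing.subtypeVal.specializes_iff.mp hz
  refine ⟨l ⟨z, hO⟩, l ⟨z', hz'O⟩, hspec.map l.continuous, ?_, ?_⟩
  · rw [← Scheme.Hom.comp_apply, hl]; exact hpz
  · rw [← Scheme.Hom.comp_apply, hl]; exact hz'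

/-- Universal subtrusiveness is local on the base. -/
theorem univSSubtrusive_of_openCover {ι : Type u} (f : X ⟶ Y) (P : ι → Scheme.{u})
    (m : ∀ a, P a ⟶ Y) [∀ a, IsOpenImmersion (m a)] (hm : ∀ y, ∃ a, y ∈ Set.range (m a))
    (h : ∀ a, Subtr.UnivSSubtrusive (pullback.snd f (m a))) : Subtr.UnivSSubtrusive f := by
  intro X' Y' i₁ i₂ f' H y y' hy
  obtain ⟨a, t, ht⟩ := hm (i₂ y)
  let W : Y'.Opens := i₂ ⁻¹ᵁ (m a).opensRange
  have hyW : y ∈ W := ⟨t, ht⟩
  have hy'W : y' ∈ W := hy.mem_open W.isOpen hyW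
  let w : (W : Scheme.{u}) ⟶ P a := IsOpenImmersion.lift (m a) (W.ι ≫ i₂) (by
    rintro _ ⟨v, rfl⟩
    exact v.2)
  let W' := pullback (pullback.snd f (m a)) w
  have hspec : (⟨y', hy'W⟩ : W) ⤳ ⟨y, hyW⟩ := Topology.IsInducing.subtypeVal.specializes_iff.mp hy
  obtain ⟨x, x', hx, hxy, hxy'⟩ :=
    h a _ _ _ (IsPullback.of_hasPullback (pullback.snd f (m a)) w).flip hspec
  let l : W' ⟶ X' := H.lift (pullback.snd _ _ ≫ W.ι)
    (pullback.fst _ _ ≫ pullback.fst f (m a)) (by
      rw [Category.assoc, Category.assoc, pullback.condition, pullback.condition_assoc,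
        IsOpenImmersion.lift_fac])
  have hl : l ≫ f' = pullback.snd (pullback.snd f (m a)) w ≫ W.ι := H.lift_fst _ _ _
  refine ⟨l x, l x', hx.map l.continuous, ?_, ?_⟩
  · rw [← Scheme.Hom.comp_apply, hl, Scheme.Hom.comp_apply, hxy]; rfl
  · rw [← Scheme.Hom.comp_apply, hl, Scheme.Hom.comp_apply, hxy']; rfl

section Limit

open Groth.SpectralTopology Groth.Limits

variable {I : Type u} [Category.{u} I] [IsCofiltered I] {D : I ⥤ Scheme.{u}} [∀ i, IsAffine (D.obj i)]
  {c : Cone D} (hc : IsLimit c)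

include hc

/-- Over an affine system a subtrusive limit comes from a subtrusive stage. -/
theorem exists_univSSubtrusive_stage [IsAffine c.pt] (i : I) (f₀ : X ⟶ D.obj i)
    [LocallyOfFinitePresentation f₀] [QuasiCompact f₀]
    (hf : Subtr.UnivSSubtrusive (pullback.snd f₀ (c.π.app i))) :
    ∃ (k : I) (φ : k ⟶ i), Subtr.UnivSSubtrusive (pullback.snd f₀ (D.map φ)) := by
  classical
  obtain ⟨Q, g, hg, hgs, hgf, hl⟩ := exists_affine_case (Y := c.pt)
    (pullback.snd f₀ (c.π.app i) : pullback f₀ (c.π.app i) ⟶ c.pt) hf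
  obtain ⟨iN, N, hN, hNs⟩ := exists_properSurj_stageModel hc g
  let k₀ := IsCofiltered.min i iN
  let φ₀ : k₀ ⟶ i := IsCofiltered.minToLeft _ _
  let N' := N.pull (IsCofiltered.minToRight i iN)
  haveI : IsProper N'.hom := MorphismProperty.pullback_fst _ _ hN
  haveI : Surjective N'.hom := MorphismProperty.pullback_fst _ _ hNs
  let P := Groth.Limits.pullbackDiagram D k₀ N'.hom
  haveI : ∀ j : Over k₀, CompactSpace (P.obj j) := fun j =>
    QuasiCompact.compactSpace_of_compactSpace (pullback.fst (D.map j.hom) N'.hom)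
  haveI : ∀ j : Over k₀, QuasiSeparatedSpace (P.obj j) := fun j =>
    quasiSeparatedSpace_of_quasiSeparated (pullback.fst (D.map j.hom) N'.hom)
  haveI : CompactSpace Q := QuasiCompact.compactSpace_of_compactSpace g
  let e := N'.sq.flip.isoPullback
  -- finitely many affine opens with lifts
  have key : ∀ z : Q, ∃ O : Q.Opens, IsAffineOpen O ∧ z ∈ O ∧
      ∃ a : (O : Scheme.{u}) ⟶ X, a ≫ f₀ = O.ι ≫ g ≫ c.π.app i := fun z => by
    obtain ⟨O, hz, a, ha⟩ := hl z
    obtain ⟨A, hA, hzA, hAO⟩ := exists_isAffineOpen_mem_and_subset hz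
    refine ⟨A, hA, hzA, Q.homOfLE hAO ≫ a ≫ pullback.fst _ _, ?_⟩
    rw [Category.assoc, Category.assoc, pullback.condition, reassoc_of% ha,
      Scheme.homOfLE_ι_assoc]
  choose O hO hzO a ha using key
  obtain ⟨s, hs⟩ := isCompact_univ.elim_finite_subcover (fun z => (O z : Set Q))
    (fun z => (O z).isOpen) (fun z _ => Set.mem_iUnion.mpr ⟨z, hzO z⟩)
  let st : P ⟶ (Functor.const (Over k₀)).obj (D.obj i) :=
    { app := fun j => pullback.snd (D.map j.hom) N'.hom ≫ N'.hom ≫ D.map φ₀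
      naturality := fun _ _ _ => (pullback.lift_snd_assoc _ _ _ _).trans (Category.comp_id _).symm }
  let W : {z // z ∈ s} → (Groth.Limits.pullbackCone D k₀ N'.hom c).pt.Opens :=
    fun z => e.inv ⁻¹ᵁ O z.1
  obtain ⟨j, U, -, hU, hb⟩ := exists_stage_lift P _ (Groth.Limits.isLimitPullbackCone D k₀ N'.hom hc) st
    (q := pullback.snd (c.π.app k₀) N'.hom ≫ N'.hom ≫ D.map φ₀)
    (fun j => by
      show pullback.lift _ _ _ ≫ pullback.snd _ _ ≫ _ = _
      rw [pullback.lift_snd_assoc]; rfl)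
    W (by
      refine top_le_iff.mp fun x _ => TopologicalSpace.Opens.mem_iSup.mpr ?_
      obtain ⟨z, hz, hxz⟩ := Set.mem_iUnion₂.mp (hs (Set.mem_univ (e.inv x)))
      exact ⟨⟨z, hz⟩, hxz⟩)
    (fun z => (hO z.1).preimage_of_isIso _) (fun _ => X) (fun _ => f₀)
    (fun z => e.inv ∣_ O z.1 ≫ a z.1)
    (fun z => by
      rw [Category.assoc, ha, morphismRestrict_ι_assoc]
      have hkey : e.inv ≫ g ≫ c.π.app i =
          pullback.snd (c.π.app k₀) N'.hom ≫ N'.hom ≫ D.map φ₀ := by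
        rw [← Category.assoc, N'.sq.flip.isoPullback_inv_fst, ← c.w φ₀, pullback.condition_assoc]
      exact congrArg ((W z).ι ≫ ·) hkey)
  choose b hb using hb
  refine ⟨j.left, j.hom ≫ φ₀, ?_⟩
  let q : P.obj j ⟶ D.obj j.left := pullback.fst (D.map j.hom) N'.hom
  haveI : IsProper q := MorphismProperty.pullback_fst _ _ ‹IsProper N'.hom›
  haveI : Surjective q := MorphismProperty.pullback_fst _ _ ‹Surjective N'.hom›
  refine univSSubtrusive_of_liftsNear _ q fun z => ?_
  obtain ⟨w, hw⟩ := TopologicalSpace.Opens.mem_iSup.mp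
    (show z ∈ ⨆ w, U w from hU.symm ▸ TopologicalSpace.Opens.mem_top z)
  refine ⟨U w, hw, pullback.lift (b w) ((U w).ι ≫ q) ?_, pullback.lift_snd _ _ _⟩
  rw [hb]
  show (U w).ι ≫ pullback.snd _ _ ≫ N'.hom ≫ D.map φ₀ = _
  rw [← pullback.condition_assoc, D.map_comp, Category.assoc]
  rfl

end Limit

/-- Universal subtrusiveness descends to a stage of a limit with affine transition morphisms. -/
theorem exists_univSSubtrusive_descend {I : Type u} [Category.{u} I] [IsCofiltered I]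
    (D : I ⥤ Scheme.{u}) (c : Cone D) (hc : IsLimit c)
    [∀ (i j : I) (a : i ⟶ j), IsAffineHom (D.map a)] (i₀ : I)
    {X₀ Y₀ : Scheme.{u}} (f₀ : X₀ ⟶ Y₀) (g₀ : Y₀ ⟶ D.obj i₀) [CompactSpace Y₀]
    [LocallyOfFinitePresentation f₀] [QuasiCompact f₀]
    {X Y : Scheme.{u}} (f : X ⟶ Y) (g : Y ⟶ c.pt) (qY : Y ⟶ Y₀) (qX : X ⟶ X₀)
    (hY : IsPullback qY g g₀ (c.π.app i₀)) (hX : IsPullback qX f f₀ qY)
    (hf : Subtr.UnivSSubtrusive f) :
    ∃ (i : I) (φ : i ⟶ i₀), Subtr.UnivSSubtrusive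
      (pullback.snd f₀ (pullback.fst g₀ (D.map φ))) := by
  classical
  haveI : Subtr.UnivSSubtrusive.{u}.IsStableUnderBaseChange :=
    inferInstanceAs (MorphismProperty.universally _).IsStableUnderBaseChange
  obtain ⟨s, hs⟩ := isCompact_univ.elim_finite_subcover
    (fun U : Y₀.affineOpens => ((U : Y₀.Opens) : Set Y₀)) (fun U => U.1.isOpen) (fun y _ => by
      obtain ⟨U, hU, hyU, -⟩ :=
        exists_isAffineOpen_mem_and_subset (x := y) (U := (⊤ : Y₀.Opens)) trivial
      exact Set.mem_iUnion.mpr ⟨⟨U, hU⟩, hyU⟩)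
  have step : ∀ U : {U : Y₀.affineOpens // U ∈ s}, ∃ (k : I) (φ : k ⟶ i₀),
      Subtr.UnivSSubtrusive (pullback.snd f₀
        (pullback.snd (D.map φ) ((U.1 : Y₀.Opens).ι ≫ g₀) ≫ (U.1 : Y₀.Opens).ι)) := by
    intro U
    haveI hUa : IsAffine ((U.1 : Y₀.Opens) : Scheme.{u}) := U.1.2
    let u := (U.1 : Y₀.Opens).ι
    let E := Groth.Limits.pullbackDiagram D i₀ (u ≫ g₀)
    let cE := Groth.Limits.pullbackCone D i₀ (u ≫ g₀) c
    have hcE := Groth.Limits.isLimitPullbackCone D i₀ (u ≫ g₀) hc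
    haveI : ∀ j : Over i₀, IsAffine (E.obj j) := fun j =>
      haveI : IsAffineHom (pullback.snd (D.map j.hom) (u ≫ g₀)) :=
        MorphismProperty.pullback_snd _ _ inferInstance
      isAffine_of_isAffineHom (pullback.snd (D.map j.hom) (u ≫ g₀))
    haveI : IsAffine cE.pt := by
      haveI : IsAffineHom (c.π.app i₀) := isAffineHom_π_app D c hc i₀
      haveI : IsAffineHom (pullback.snd (c.π.app i₀) (u ≫ g₀)) :=
        MorphismProperty.pullback_snd _ _ inferInstance
      exact isAffine_of_isAffineHom (pullback.snd (c.π.app i₀) (u ≫ g₀))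
    let k₀ : Over i₀ := Over.mk (𝟙 i₀)
    let t : E.obj k₀ ⟶ Y₀ := pullback.snd (D.map k₀.hom) (u ≫ g₀) ≫ u
    have hπ : cE.π.app k₀ ≫ t = pullback.snd (c.π.app i₀) (u ≫ g₀) ≫ u :=
      (Category.assoc _ _ _).symm.trans (congrArg (· ≫ u) (pullback.lift_snd _ _ _))
    let l : cE.pt ⟶ Y := hY.lift (pullback.snd (c.π.app i₀) (u ≫ g₀) ≫ u)
      (pullback.fst _ _) (by rw [Category.assoc]; exact pullback.condition.symm)
    have hsub : Subtr.UnivSSubtrusive (pullback.snd (pullback.snd f₀ t) (cE.π.app k₀)) := by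
      have hw : (pullback.fst (pullback.snd f₀ t) (cE.π.app k₀) ≫ pullback.fst f₀ t) ≫ f₀ =
          (pullback.snd (pullback.snd f₀ t) (cE.π.app k₀) ≫ l) ≫ qY := by
        rw [Category.assoc, pullback.condition, pullback.condition_assoc, hπ, Category.assoc,
          hY.lift_fst]
      have hsq : IsPullback (hX.lift _ _ hw) (pullback.snd (pullback.snd f₀ t) (cE.π.app k₀)) f l := by
        refine IsPullback.of_right ?_ (hX.lift_snd _ _ _) hX
        rw [hX.lift_fst, hY.lift_fst, ← hπ]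
        exact (IsPullback.of_hasPullback _ _).paste_horiz (IsPullback.of_hasPullback f₀ t)
      exact MorphismProperty.of_isPullback hsq hf
    obtain ⟨j, ψ, hj⟩ := exists_univSSubtrusive_stage hcE k₀ (pullback.snd f₀ t) hsub
    refine ⟨j.left, j.hom, ?_⟩
    have hψ : E.map ψ ≫ t = pullback.snd (D.map j.hom) (u ≫ g₀) ≫ u :=
      (Category.assoc _ _ _).symm.trans (congrArg (· ≫ u) (pullback.lift_snd _ _ _))
    have sq := (IsPullback.of_hasPullback (pullback.snd f₀ t) (E.map ψ)).paste_horiz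
      (IsPullback.of_hasPullback f₀ t)
    rw [hψ] at sq
    haveI : Subtr.UnivSSubtrusive.{u}.RespectsIso :=
      inferInstanceAs (MorphismProperty.universally _).RespectsIso
    rw [← sq.isoPullback_inv_snd]
    exact (MorphismProperty.cancel_left_of_respectsIso Subtr.UnivSSubtrusive _ _).mpr hj
  choose k φ hφ using step
  obtain ⟨m, ξ, ξ', hξ⟩ : ∃ (m : I) (ξ : m ⟶ i₀) (ξ' : ∀ U, m ⟶ k U), ∀ U, ξ' U ≫ φ U = ξ := by
    obtain ⟨m, ξ, θ, hθ⟩ := IsCofiltered.wideCospan φ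
    exact ⟨m, ξ, θ, hθ⟩
  refine ⟨m, ξ, ?_⟩
  let mU : ∀ U : {U : Y₀.affineOpens // U ∈ s},
      pullback (D.map ξ) ((U.1 : Y₀.Opens).ι ≫ g₀) ⟶ pullback g₀ (D.map ξ) :=
    fun U => pullback.lift (pullback.snd _ _ ≫ (U.1 : Y₀.Opens).ι) (pullback.fst _ _)
      (by rw [Category.assoc]; exact pullback.condition.symm)
  have hmU : ∀ U, IsPullback (pullback.snd (D.map ξ) ((U.1 : Y₀.Opens).ι ≫ g₀)) (mU U)
      (U.1 : Y₀.Opens).ι (pullback.fst g₀ (D.map ξ)) := fun U =>
    IsPullback.of_bot (by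
      rw [pullback.lift_snd]; exact (IsPullback.of_hasPullback _ _).flip)
      (pullback.lift_fst _ _ _).symm (IsPullback.of_hasPullback g₀ (D.map ξ))
  haveI : ∀ U, IsOpenImmersion (mU U) := fun U =>
    MorphismProperty.of_isPullback (P := @IsOpenImmersion) (hmU U) inferInstance
  refine univSSubtrusive_of_openCover _ _ mU (fun y => ?_) fun U => ?_
  · obtain ⟨U, hU, hy⟩ := Set.mem_iUnion₂.mp (hs (Set.mem_univ (pullback.fst g₀ (D.map ξ) y)))
    refine ⟨⟨U, hU⟩, ?_⟩
    obtain ⟨v, -, hv⟩ := Scheme.Pullback.exists_preimage_pullback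
      (f := (U : Y₀.Opens).ι) (g := pullback.fst g₀ (D.map ξ)) ⟨_, hy⟩ y rfl
    refine ⟨(hmU ⟨U, hU⟩).isoPullback.inv v, ?_⟩
    rw [← Scheme.Hom.comp_apply, (hmU ⟨U, hU⟩).isoPullback_inv_snd]
    exact hv
  · let u := (U.1 : Y₀.Opens).ι
    let T : pullback (D.map ξ) (u ≫ g₀) ⟶ pullback (D.map (φ U)) (u ≫ g₀) :=
      pullback.lift (pullback.fst _ _ ≫ D.map (ξ' U)) (pullback.snd _ _)
        (by rw [Category.assoc, ← D.map_comp, hξ, pullback.condition])
    have hT : T ≫ pullback.snd (D.map (φ U)) (u ≫ g₀) ≫ u = mU U ≫ pullback.fst g₀ (D.map ξ) := by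
      rw [pullback.lift_fst, pullback.lift_snd_assoc]
    have sqA := (IsPullback.of_hasPullback (pullback.snd f₀ (pullback.fst g₀ (D.map ξ)))
      (mU U)).paste_horiz (IsPullback.of_hasPullback f₀ (pullback.fst g₀ (D.map ξ)))
    rw [← hT] at sqA
    exact MorphismProperty.of_isPullback
      (IsPullback.of_right' sqA (IsPullback.of_hasPullback f₀ _)) (hφ U)

end Groth.HTopHyper.SubtrRefine

namespace Groth.HTopHyper.SubtrRefine

open Groth.SpectralTopology in
/-- Universally subtrusive morphisms come from universally subtrusive morphisms over finitely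
generated subrings. -/
theorem exists_noetherian_model {A : CommRingCat.{u}} {X : Scheme.{u}} (f : X ⟶ Spec A)
    [LocallyOfFinitePresentation f] [QuasiCompact f] [QuasiSeparated f]
    (hf : Subtr.UnivSSubtrusive f) :
    ∃ (s : FGSub A) (X₀ : Scheme.{u}) (f₀ : X₀ ⟶ (fgSchemes A).obj (Opposite.op s)) (q : X ⟶ X₀),
      IsPullback q f f₀ ((fgCone A).π.app (Opposite.op s)) ∧ LocallyOfFinitePresentation f₀ ∧
        QuasiCompact f₀ ∧ QuasiSeparated f₀ ∧ Subtr.UnivSSubtrusive f₀ := by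
  haveI : ∀ i, IsAffine ((fgSchemes A).obj i) := fun i => inferInstanceAs (IsAffine (Spec _))
  haveI : IsAffine (fgCone A).pt := inferInstanceAs (IsAffine (Spec A))
  haveI : Subtr.UnivSSubtrusive.{u}.RespectsIso :=
    inferInstanceAs (MorphismProperty.universally _).RespectsIso
  obtain ⟨i, ⟨M⟩⟩ := exists_stageModel (isLimitFgCone A) (f : X ⟶ (fgCone A).pt)
  haveI := M.qs
  obtain ⟨k, φ, hk⟩ := exists_univSSubtrusive_stage (isLimitFgCone A) i M.hom (by
    rw [← M.sq.isoPullback_inv_snd]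
    exact (MorphismProperty.cancel_left_of_respectsIso Subtr.UnivSSubtrusive _ _).mpr hf)
  have hw : M.map ≫ M.hom = (f ≫ (fgCone A).π.app k) ≫ (fgSchemes A).map φ := by
    rw [M.sq.w, Category.assoc, Cone.w]
  refine ⟨k.unop, _, pullback.snd M.hom ((fgSchemes A).map φ),
    pullback.lift M.map (f ≫ (fgCone A).π.app k) hw, ?_, inferInstance, inferInstance,
    inferInstance, hk⟩
  refine IsPullback.of_right ?_ (pullback.lift_snd _ _ _)
    (IsPullback.of_hasPullback M.hom ((fgSchemes A).map φ))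
  rw [pullback.lift_fst]
  exact (Cone.w (fgCone A) φ).symm ▸ M.sq

/-- The Noetherian model criterion. -/
theorem univSSubtrusive_iff_model (A : Type u) [CommRing A] {X : Scheme.{u}}
    (f : X ⟶ Spec (CommRingCat.of A)) [LocallyOfFinitePresentation f] [QuasiCompact f]
    [QuasiSeparated f] :
    Subtr.UnivSSubtrusive f ↔
      ∃ (A₀ : Subalgebra ℤ A) (_ : A₀.FG) (X₀ : Scheme.{u}) (f₀ : X₀ ⟶ Spec (CommRingCat.of A₀))
        (q : X ⟶ X₀), IsPullback q f f₀ (Spec.map (CommRingCat.ofHom A₀.val.toRingHom)) ∧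
        LocallyOfFinitePresentation f₀ ∧ QuasiCompact f₀ ∧ QuasiSeparated f₀ ∧
        SGA1.UnivSubmersive f₀ := by
  constructor
  · intro hf
    obtain ⟨s, X₀, f₀, q, h₁, h₂, h₃, h₄, h₅⟩ := exists_noetherian_model f hf
    exact ⟨s.1, s.2, X₀, f₀, q, h₁, h₂, h₃, h₄, Groth.Misc8.Subtr.univSubmersive_of_univSSubtrusive f₀ h₅⟩
  · rintro ⟨A₀, hA₀, X₀, f₀, q, hq, hl, hc, hs, hu⟩
    haveI : IsNoetherianRing A₀ := by
      have : Algebra.FiniteType ℤ A₀ := A₀.fg_iff_finiteType.1 hA₀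
      exact Algebra.FiniteType.isNoetherianRing ℤ A₀
    haveI : Subtr.UnivSSubtrusive.{u}.IsStableUnderBaseChange :=
      inferInstanceAs (MorphismProperty.universally _).IsStableUnderBaseChange
    exact MorphismProperty.of_isPullback hq (Groth.Misc8.Subtr.univSSubtrusive_of_univSubmersive f₀ hu)

end Groth.HTopHyper.SubtrRefine
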