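import Groth.Prelude.Def_W4c2submetdescSubtr
import Groth.Agent.HTopHyper.HFinitePresentation
import Groth.Agent.HTopHyper.PhGlue
import Groth.Agent.HTopHyper.StdHDescent
import Groth.Agent.HTopHyper.QfhRefine
import Groth.Agent.SpectralTopology.NoethSystem
import Groth.Agent.Limits.PointwiseDescent

/-! Refinements of universally subtrusive morphisms of finite presentation. -/

set_option autoImplicit false
set_option backward.isDefEq.respectTransparency false

universe w u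

open CategoryTheory CategoryTheory.Limits AlgebraicGeometry

namespace Groth.HTopHyper.SubtrRefine

variable {X Y Q : Scheme.{u}}

/-- `g` lifts to `X` near `z`. -/
def LiftsNear (f : X ⟶ Y) (g : Q ⟶ Y) (z : Q) : Prop :=
  ∃ O : Q.Opens, z ∈ O ∧ ∃ h : (O : Scheme.{u}) ⟶ X, h ≫ f = O.ι ≫ g

theorem hasValLift_of_univSSubtrusive (f : X ⟶ Y) (hf : Subtr.UnivSSubtrusive f) :
    HTop.HasValLift (PreZeroHypercover.singleton.{0} f) := by
  rw [hasValLift_iff]
  intro V _ _ g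
  obtain ⟨x, x', hx, hx₀, hx'⟩ :=
    hf _ _ _ (IsPullback.of_hasPullback g f) (genPt_specializes (clPt V))
  exact ⟨PUnit.unit, x', x, hx, hx', hx₀⟩

theorem isHCover_of_univSSubtrusive (f : X ⟶ Y) [LocallyOfFinitePresentation f] [QuasiCompact f]
    (hf : Subtr.UnivSSubtrusive f) : HTop.IsHCover (PreZeroHypercover.singleton.{0} f) :=
  have : Finite (PreZeroHypercover.singleton.{0} f).I₀ := inferInstanceAs (Finite PUnit)
  ⟨fun _ => ‹LocallyOfFinitePresentation f›,
    isVCover_of_hasValLift (fun _ => ‹QuasiCompact f›) (hasValLift_of_univSSubtrusive f hf)⟩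

theorem univSSubtrusive_restrict (f : X ⟶ Y) (hf : Subtr.UnivSSubtrusive f) (U : Y.Opens) :
    Subtr.UnivSSubtrusive (f ∣_ U) :=
  haveI : Subtr.UnivSSubtrusive.{u}.IsStableUnderBaseChange :=
    inferInstanceAs (MorphismProperty.universally _).IsStableUnderBaseChange
  MorphismProperty.of_isPullback (isPullback_morphismRestrict f U).flip hf

theorem exists_affine_case [IsAffine Y] (f : X ⟶ Y) [LocallyOfFinitePresentation f] [QuasiCompact f]
    (hf : Subtr.UnivSSubtrusive f) :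
    ∃ (Q : Scheme.{u}) (g : Q ⟶ Y), IsProper g ∧ Surjective g ∧ LocallyOfFinitePresentation g ∧
      ∀ z, LiftsNear f g z := by
  obtain ⟨Q, g, n, V, hg, hgs, hgf, -, hV, hl⟩ :=
    exists_fp_refinement _ (isHCover_of_univSSubtrusive f hf)
  refine ⟨Q, g, hg, hgs, hgf, fun z => ?_⟩
  obtain ⟨j, hj⟩ := TopologicalSpace.Opens.mem_iSup.mp
    (show z ∈ ⨆ j, V j from hV ▸ TopologicalSpace.Opens.mem_top z)
  obtain ⟨j', h, hh⟩ := hl j
  exact ⟨V j, hj, h, hh⟩

theorem exists_noetherian_case [IsNoetherian Y] (f : X ⟶ Y) [LocallyOfFinitePresentation f]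
    [QuasiCompact f] (hf : Subtr.UnivSSubtrusive f) :
    ∃ (Q : Scheme.{u}) (g : Q ⟶ Y), IsProper g ∧ Surjective g ∧ LocallyOfFinitePresentation g ∧
      ∀ z, LiftsNear f g z := by
  obtain ⟨s, hs⟩ := isCompact_univ.elim_finite_subcover
    (fun U : Y.affineOpens => ((U : Y.Opens) : Set Y)) (fun U => U.1.isOpen) (fun y _ => by
      obtain ⟨U, hU, hyU, -⟩ :=
        exists_isAffineOpen_mem_and_subset (x := y) (U := (⊤ : Y.Opens)) trivial
      exact Set.mem_iUnion.mpr ⟨⟨U, hU⟩, hyU⟩)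
  obtain ⟨n, ⟨e⟩⟩ := Finite.exists_equiv_fin s
  let O : Fin n → Y.Opens := fun k => ((e.symm k).1 : Y.Opens)
  have hO : ∀ k, IsAffineOpen (O k) := fun k => (e.symm k).1.2
  have hk : ∀ k, ∃ (Q : Scheme.{u}) (g : Q ⟶ (O k : Scheme.{u})), IsProper g ∧ Surjective g ∧
      LocallyOfFinitePresentation g ∧ ∀ z, LiftsNear (f ∣_ O k) g z := fun k => by
    have : IsAffine (O k : Scheme.{u}) := hO k
    exact exists_affine_case (f ∣_ O k) (univSSubtrusive_restrict f hf _)
  choose V g hg hgs _ hl using hk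
  obtain ⟨P, q, hq, hqs, hP⟩ := exists_proper_dominating O hO V g hg hgs
  refine ⟨P, q, hq, hqs, LocallyOfFinitePresentation.iff_locallyOfFiniteType.mpr inferInstance,
    fun z => ?_⟩
  obtain ⟨U, hU, hzU⟩ := Set.mem_iUnion₂.mp (hs (Set.mem_univ (q z)))
  obtain ⟨k, hk⟩ := e.symm.surjective ⟨U, hU⟩
  have hz : z ∈ q ⁻¹ᵁ O k := by
    show q z ∈ O k
    simp only [O, hk]; exact hzU
  obtain ⟨h, hh⟩ := hP k
  obtain ⟨W, hW, a, ha⟩ := hl k (h ⟨z, hz⟩)
  let W' : (q ⁻¹ᵁ O k : Scheme.{u}).Opens := h ⁻¹ᵁ W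
  refine ⟨(q ⁻¹ᵁ O k).ι ''ᵁ W', ⟨⟨z, hz⟩, hW, rfl⟩,
    ((q ⁻¹ᵁ O k).ι.isoImage W').inv ≫ (h ∣_ W) ≫ a ≫ (f ⁻¹ᵁ O k).ι, ?_⟩
  simp only [Category.assoc]
  rw [← morphismRestrict_ι, reassoc_of% ha, morphismRestrict_ι_assoc, hh,
    Scheme.Hom.isoImage_inv_ι_assoc]

/-- Assemble the local lifts into one covering of the refinement. -/
theorem assemble (f : X ⟶ Y) (g : Q ⟶ Y) [CompactSpace Q] [QuasiSeparatedSpace Q]
    (h : ∀ z, LiftsNear f g z) :
    ∃ (X' : Scheme.{u}) (h : X' ⟶ X) (p : X' ⟶ Q), h ≫ f = p ≫ g ∧ Surjective p ∧ Flat p ∧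
      LocallyOfFinitePresentation p ∧ QuasiCompact p ∧ QuasiSeparated p ∧
      ∀ x : X', ∃ U : X'.Opens, x ∈ U ∧ IsOpenImmersion (U.ι ≫ p) := by
  have key : ∀ z : Q, ∃ O : Q.Opens, IsAffineOpen O ∧ z ∈ O ∧
      ∃ a : (O : Scheme.{u}) ⟶ X, a ≫ f = O.ι ≫ g := fun z => by
    obtain ⟨O, hz, a, ha⟩ := h z
    obtain ⟨A, hA, hzA, hAO⟩ := exists_isAffineOpen_mem_and_subset hz
    exact ⟨A, hA, hzA, Q.homOfLE hAO ≫ a, by rw [Category.assoc, ha, Scheme.homOfLE_ι_assoc]⟩
  choose O hO hzO a ha using key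
  obtain ⟨s, hs⟩ := isCompact_univ.elim_finite_subcover (fun z => (O z : Set Q))
    (fun z => (O z).isOpen) (fun z _ => Set.mem_iUnion.mpr ⟨z, hzO z⟩)
  let U : {z // z ∈ s} → Scheme.{u} := fun z => (O z.1 : Scheme.{u})
  let p : ∐ U ⟶ Q := Sigma.desc fun z => (O z.1).ι
  have : ∀ z, IsAffine (U z) := fun z => hO z.1
  have : CompactSpace ↥(∐ U) := inferInstance
  have : QuasiCompact p := quasiCompact_of_compactSpace p
  have hs' : ∀ y : Q, ∃ z : {z // z ∈ s}, y ∈ Set.range (O z.1).ι := fun y => by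
    obtain ⟨z, hz, hy⟩ := Set.mem_iUnion₂.mp (hs (Set.mem_univ y))
    exact ⟨⟨z, hz⟩, by rw [Scheme.Opens.range_ι]; exact hy⟩
  have hloc : ∀ (P : MorphismProperty Scheme.{u}) [IsZariskiLocalAtSource P],
      (∀ z, P (O z).ι) → P p := fun P _ hP => by
    rw [IsZariskiLocalAtSource.iff_of_openCover (P := P) (sigmaOpenCover U)]
    intro z
    show P (Sigma.ι U z ≫ p)
    rw [Sigma.ι_desc]
    exact hP z.1
  refine ⟨∐ U, Sigma.desc fun z => a z.1, p, Sigma.hom_ext _ _ fun z => ?_,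
    surjective_sigmaDesc _ hs', hloc @Flat fun z => inferInstance,
    hloc @LocallyOfFinitePresentation fun z => inferInstance, inferInstance, inferInstance,
    fun x => ?_⟩
  · rw [Sigma.ι_desc_assoc, Sigma.ι_desc_assoc, ha]
  · obtain ⟨z, y, rfl⟩ := (sigmaOpenCover U).exists_eq x
    have : IsOpenImmersion (Sigma.ι U z) := inferInstance
    refine ⟨(Sigma.ι U z).opensRange, ⟨y, rfl⟩, ?_⟩
    rw [show (Sigma.ι U z).opensRange.ι ≫ p = (Sigma.ι U z).isoOpensRange.inv ≫ (O z.1).ι by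
      rw [← Scheme.Hom.isoOpensRange_inv_comp (Sigma.ι U z), Category.assoc, Sigma.ι_desc]]
    infer_instance

/-! ### The quasi-finite case -/

/-- A finite affine family with the lifting property, quasi-finite, over an affine scheme. -/
theorem exists_finite_case_affine {A : CommRingCat.{u}} (f : X ⟶ Spec A)
    [LocallyOfFinitePresentation f] [QuasiCompact f] [QuasiSeparated f] [LocallyQuasiFinite f]
    (hf : Subtr.UnivSSubtrusive f) :
    ∃ (Q : Scheme.{u}) (g : Q ⟶ Spec A), IsFinite g ∧ Surjective g ∧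
      LocallyOfFinitePresentation g ∧ ∀ z, LiftsNear f g z := by
  classical
  let c := SpectralTopology.fgCone A
  let D := SpectralTopology.fgSchemes A
  haveI : ∀ i, IsAffine (D.obj i) := fun i => inferInstanceAs (IsAffine (Spec _))
  haveI : IsAffine c.pt := inferInstanceAs (IsAffine (Spec A))
  haveI : CompactSpace X := QuasiCompact.compactSpace_of_compactSpace f
  let 𝒰 := X.affineCover.finiteSubcover
  let m : ∀ a : 𝒰.I₀, 𝒰.X a ⟶ c.pt := fun a => 𝒰.f a ≫ f
  haveI : ∀ a, IsAffine (𝒰.X a) := fun a => inferInstanceAs (IsAffine (X.affineCover.X _))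
  haveI : ∀ a, IsOpenImmersion (𝒰.f a) := 𝒰.map_prop
  haveI hlfp : ∀ a, LocallyOfFinitePresentation (m a) := fun a =>
    inferInstanceAs (LocallyOfFinitePresentation (𝒰.f a ≫ f))
  haveI hlqf : ∀ a, LocallyQuasiFinite (m a) := fun a =>
    inferInstanceAs (LocallyQuasiFinite (𝒰.f a ≫ f))
  haveI hqc : ∀ a, QuasiCompact (m a) := fun a => quasiCompact_of_compactSpace _
  let V : PreZeroHypercover.{u} c.pt := ⟨𝒰.I₀, fun a => 𝒰.X a, m⟩
  haveI : Finite V.I₀ := inferInstanceAs (Finite 𝒰.I₀)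
  have hV : HTop.IsStandardH V := by
    refine ⟨inferInstance, inferInstance, fun a => inferInstanceAs (IsAffine (𝒰.X a)), hlfp,
      isVCover_of_hasValLift hqc fun R _ _ r => ?_⟩
    obtain ⟨W, hW, hW', φ, hφ, j', g', hg'⟩ := hasValLift_of_univSSubtrusive f hf R r
    obtain ⟨a, ha⟩ : ∃ a, g' (clPt W) ∈ Set.range (𝒰.f a) := 𝒰.exists_eq _
    obtain ⟨l, hl⟩ := exists_lift_openImmersion (𝒰.f a) g' ha
    refine ⟨W, hW, hW', φ, hφ, a, l, ?_⟩
    show l ≫ 𝒰.f a ≫ f = _
    rw [← Category.assoc, hl]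
    exact hg'
  obtain ⟨i, W, hW, σ, e, he⟩ :=
    exists_isStandardH_descends (SpectralTopology.isLimitFgCone A) V hV
  haveI : ∀ b, IsAffine (W.X b) := hW.isAffine_obj
  haveI : ∀ b, LocallyOfFinitePresentation (W.f b) := hW.finitePresentation
  have hstage : ∀ a : V.I₀, ∃ j : Over i,
      LocallyQuasiFinite (pullback.snd (W.f (σ a)) (pullback.snd (D.map j.hom) (𝟙 (D.obj i)))) := by
    intro a
    have hX : IsPullback ((e a).hom ≫ pullback.snd _ _) (m a) (W.f (σ a)) (c.π.app i) :=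
      (IsPullback.of_hasPullback (c.π.app i) (W.f (σ a))).flip.of_iso (e a).symm (Iso.refl _)
        (Iso.refl _) (Iso.refl _)
        (by simp only [Iso.refl_hom, Category.comp_id, Iso.symm_hom, Iso.inv_hom_id_assoc]; rfl)
        (by
          have h1 : (e a).hom ≫ pullback.fst (c.π.app i) (W.f (σ a)) = m a := he a
          simp [← h1]) (by simp) (by simp)
    exact Groth.Limits.exists_locallyQuasiFinite_stage (f := m a)
      (SpectralTopology.isLimitFgCone A)
      (g := 𝟙 _) (IsPullback.of_vert_isIso ⟨by simp; rfl⟩) hX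
  choose j hj using hstage
  haveI : Finite W.I₀ := hW.finite_index
  obtain ⟨k, ξ, ξ', hξ⟩ : ∃ (k : (SpectralTopology.FGSub A)ᵒᵖ) (ξ : k ⟶ i)
      (ξ' : ∀ a, k ⟶ (j a).left), ∀ a, ξ' a ≫ (j a).hom = ξ := by
    obtain ⟨k, ξ, θ, hθ⟩ := IsCofiltered.wideCospan (fun a => (j a).hom)
    exact ⟨k, ξ, θ, hθ⟩
  let E : PreZeroHypercover.{u} (D.obj k) := W.pullback₁ (D.map ξ)
  haveI : Finite E.I₀ := inferInstanceAs (Finite W.I₀)
  haveI hEft : ∀ b, LocallyOfFiniteType (E.f b) := fun b =>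
    inferInstanceAs (LocallyOfFiniteType (pullback.fst (D.map ξ) (W.f b)))
  haveI hEqf : ∀ b, LocallyQuasiFinite (E.f b) := fun b => by
    obtain ⟨a, rfl⟩ := σ.surjective b
    let t : D.obj k ⟶ pullback (D.map (j a).hom) (𝟙 (D.obj i)) :=
      pullback.lift (D.map (ξ' a)) (D.map ξ) (by rw [← D.map_comp, hξ, Category.comp_id])
    have hsq : IsPullback (pullback.snd (D.map ξ) (W.f (σ a))) (pullback.fst (D.map ξ) (W.f (σ a)))
        (W.f (σ a)) (t ≫ pullback.snd (D.map (j a).hom) (𝟙 (D.obj i))) := by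
      rw [pullback.lift_snd]; exact (IsPullback.of_hasPullback _ _).flip
    exact MorphismProperty.of_isPullback (IsPullback.of_right' hsq
      (IsPullback.of_hasPullback _ _)) (hj a)
  have hE : HTop.HasValLift E :=
    hasValLift_of_isVCover (isVCover_pullback₁ _ W hW.isVCover)
  obtain ⟨P, p, n, U, hp, hps, hU, hl⟩ := QfhRefine.exists_finite_refinement E hE
  haveI : LocallyOfFinitePresentation p :=
    LocallyOfFinitePresentation.iff_locallyOfFiniteType.mpr inferInstance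
  let g : pullback (c.π.app k) p ⟶ c.pt := pullback.fst _ _
  refine ⟨_, g, MorphismProperty.pullback_fst _ _ hp, MorphismProperty.pullback_fst _ _ hps,
    MorphismProperty.pullback_fst _ _ ‹LocallyOfFinitePresentation p›, fun z => ?_⟩
  obtain ⟨l, hlz⟩ := TopologicalSpace.Opens.mem_iSup.mp
    (show pullback.snd (c.π.app k) p z ∈ ⨆ l, U l from hU ▸ TopologicalSpace.Opens.mem_top _)
  obtain ⟨b, h, hh⟩ := hl l
  obtain ⟨a, rfl⟩ := σ.surjective b
  let O : (pullback (c.π.app k) p).Opens := pullback.snd (c.π.app k) p ⁻¹ᵁ U l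
  let d : (O : Scheme.{u}) ⟶ pullback (c.π.app i) (W.f (σ a)) :=
    pullback.lift (O.ι ≫ g) ((pullback.snd (c.π.app k) p ∣_ U l) ≫ h ≫ pullback.snd _ _) (by
      have h1 : h ≫ pullback.fst (D.map ξ) (W.f (σ a)) = (U l).ι ≫ p := hh
      simp only [Category.assoc]
      rw [← pullback.condition, reassoc_of% h1, morphismRestrict_ι_assoc, ← reassoc_of%
        (pullback.condition (f := c.π.app k) (g := p)), c.w])
  refine ⟨O, hlz, (d ≫ (e a).inv) ≫ 𝒰.f a, ?_⟩
  show (d ≫ (e a).inv ≫ 𝒰.f a) ≫ f = O.ι ≫ g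
  have h1 : (e a).inv ≫ 𝒰.f a ≫ f = pullback.fst (c.π.app i) (W.f (σ a)) := by
    rw [Iso.inv_comp_eq]; exact (he a).symm
  rw [Category.assoc, Category.assoc, h1]
  exact pullback.lift_fst _ _ _

theorem exists_finite_case (f : X ⟶ Y) (hY : IsAffine Y ∨ IsNoetherian Y)
    [LocallyOfFinitePresentation f] [QuasiCompact f] [QuasiSeparated f] [LocallyQuasiFinite f]
    (hf : Subtr.UnivSSubtrusive f) :
    ∃ (Q : Scheme.{u}) (g : Q ⟶ Y), IsFinite g ∧ Surjective g ∧
      LocallyOfFinitePresentation g ∧ ∀ z, LiftsNear f g z := by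
  rcases hY with hY | hY
  · haveI : Subtr.UnivSSubtrusive.{u}.RespectsIso :=
      inferInstanceAs (MorphismProperty.universally _).RespectsIso
    have hf' : Subtr.UnivSSubtrusive (f ≫ Y.isoSpec.hom) :=
      (MorphismProperty.cancel_right_of_respectsIso Subtr.UnivSSubtrusive f Y.isoSpec.hom).mpr hf
    obtain ⟨Q, g, hg, hgs, hgf, hl⟩ := exists_finite_case_affine (f ≫ Y.isoSpec.hom) hf'
    refine ⟨Q, g ≫ Y.isoSpec.inv, inferInstance, inferInstance, inferInstance, fun z => ?_⟩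
    obtain ⟨O, hz, h, hh⟩ := hl z
    exact ⟨O, hz, h, by rw [← reassoc_of% hh, Iso.hom_inv_id, Category.comp_id]⟩
  · let E : PreZeroHypercover.{u} Y := PreZeroHypercover.singleton f
    haveI : ∀ j : E.I₀, LocallyOfFiniteType (E.f j) := fun _ =>
      inferInstanceAs (LocallyOfFiniteType f)
    haveI : ∀ j : E.I₀, LocallyQuasiFinite (E.f j) := fun _ =>
      inferInstanceAs (LocallyQuasiFinite f)
    have hE : HTop.HasValLift E := fun V _ _ g => by
      obtain ⟨W, hW, hW', φ, hφ, j', g', hg'⟩ := hasValLift_of_univSSubtrusive f hf V g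
      exact ⟨W, hW, hW', φ, hφ, PUnit.unit, g', hg'⟩
    obtain ⟨P, p, n, U, hp, hps, hU, hl⟩ := QfhRefine.exists_finite_refinement E hE
    refine ⟨P, p, hp, hps, LocallyOfFinitePresentation.iff_locallyOfFiniteType.mpr inferInstance,
      fun z => ?_⟩
    obtain ⟨l, hlz⟩ := TopologicalSpace.Opens.mem_iSup.mp
      (show z ∈ ⨆ l, U l from hU ▸ TopologicalSpace.Opens.mem_top z)
    obtain ⟨j', h, hh⟩ := hl l
    exact ⟨U l, hlz, h, hh⟩

theorem exists_proper_case (f : X ⟶ Y) (hY : IsAffine Y ∨ IsNoetherian Y)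
    [LocallyOfFinitePresentation f] [QuasiCompact f] (hf : Subtr.UnivSSubtrusive f) :
    ∃ (Q : Scheme.{u}) (g : Q ⟶ Y), IsProper g ∧ Surjective g ∧ LocallyOfFinitePresentation g ∧
      ∀ z, LiftsNear f g z := by
  rcases hY with hY | hY
  · exact exists_affine_case f hf
  · exact exists_noetherian_case f hf

theorem compactSpace_qsSpace_base (hY : IsAffine Y ∨ IsNoetherian Y) :
    CompactSpace Y ∧ QuasiSeparatedSpace Y := by
  rcases hY with hY | hY <;> exact ⟨inferInstance, inferInstance⟩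

/-- A refinement by a Zariski covering followed by a proper surjection. -/
theorem exists_openCover_then_proper (f : X ⟶ Y) (hY : IsAffine Y ∨ IsNoetherian Y)
    [LocallyOfFinitePresentation f] [QuasiCompact f] (hf : Subtr.UnivSSubtrusive f) :
    ∃ (X' Y' : Scheme.{u}) (h : X' ⟶ X) (p : X' ⟶ Y') (q : Y' ⟶ Y), h ≫ f = p ≫ q ∧
      Surjective p ∧ Flat p ∧ LocallyOfFinitePresentation p ∧ QuasiCompact p ∧ QuasiSeparated p ∧
      (∀ x : X', ∃ U : X'.Opens, x ∈ U ∧ IsOpenImmersion (U.ι ≫ p)) ∧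
      IsProper q ∧ Surjective q ∧ LocallyOfFinitePresentation q := by
  obtain ⟨Q, g, hg, hgs, hgf, hl⟩ := exists_proper_case f hY hf
  obtain ⟨_, _⟩ := compactSpace_qsSpace_base hY
  haveI : CompactSpace Q := QuasiCompact.compactSpace_of_compactSpace g
  haveI : QuasiSeparatedSpace Q := quasiSeparatedSpace_of_quasiSeparated g
  obtain ⟨X', h, p, e, h1, h2, h3, h4, h5, h6⟩ := assemble f g hl
  exact ⟨X', Q, h, p, g, e, h1, h2, h3, h4, h5, h6, hg, hgs, hgf⟩

/-- A refinement by a Zariski covering followed by a finite surjection. -/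
theorem exists_openCover_then_finite (f : X ⟶ Y) (hY : IsAffine Y ∨ IsNoetherian Y)
    [LocallyOfFinitePresentation f] [QuasiCompact f] [QuasiSeparated f] [LocallyQuasiFinite f]
    (hf : Subtr.UnivSSubtrusive f) :
    ∃ (X' Y' : Scheme.{u}) (h : X' ⟶ X) (p : X' ⟶ Y') (q : Y' ⟶ Y), h ≫ f = p ≫ q ∧
      Surjective p ∧ QuasiCompact p ∧ QuasiSeparated p ∧
      (∀ x : X', ∃ U : X'.Opens, x ∈ U ∧ IsOpenImmersion (U.ι ≫ p)) ∧
      IsFinite q ∧ Surjective q ∧ LocallyOfFinitePresentation q := by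
  obtain ⟨Q, g, hg, hgs, hgf, hl⟩ := exists_finite_case f hY hf
  obtain ⟨_, _⟩ := compactSpace_qsSpace_base hY
  haveI : CompactSpace Q := QuasiCompact.compactSpace_of_compactSpace g
  haveI : QuasiSeparatedSpace Q := quasiSeparatedSpace_of_quasiSeparated g
  obtain ⟨X', h, p, e, h1, -, -, h4, h5, h6⟩ := assemble f g hl
  exact ⟨X', Q, h, p, g, e, h1, h4, h5, h6, hg, hgs, hgf⟩

end Groth.HTopHyper.SubtrRefine
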