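import Mathlib.Algebra.Polynomial.Laurent
import Mathlib.Algebra.CharP.Lemmas
import Mathlib.Algebra.CharP.Basic
import Mathlib.Algebra.CharP.Frobenius
import Mathlib.Tactic.LinearCombination
import Mathlib.RingTheory.Ideal.Maps
import Mathlib.RingTheory.Ideal.Span

/-!
# Functions on the two charts of a blow-up in two equations

The charts `A[t]/(x t - y)` and `A[s]/(y s - x)` glue to a scheme with global functions `A`, up to
square-zero elements.  Quotients by torsion ideals only cost a bounded Frobenius twist.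
-/

set_option autoImplicit false

universe u

namespace Groth.HTopHyper.TwoChart

open Polynomial LaurentPolynomial

variable {A : Type u} [CommRing A]

theorem exists_decomp (L : A[T;T⁻¹]) :
    ∃ U V : A[X], L = toLaurent U + T (-1) * invert (toLaurent V) := by
  induction L using LaurentPolynomial.induction_on' with
  | add L L' h h' =>
    obtain ⟨U, V, rfl⟩ := h
    obtain ⟨U', V', rfl⟩ := h'
    exact ⟨U + U', V + V', by rw [map_add, map_add, map_add]; ring⟩
  | C_mul_T n a =>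
    obtain ⟨k, rfl⟩ | ⟨k, rfl⟩ : (∃ k : ℕ, n = k) ∨ ∃ k : ℕ, n = -(k + 1) := by
      rcases n with k | k
      · exact Or.inl ⟨k, rfl⟩
      · exact Or.inr ⟨k, by omega⟩
    · exact ⟨Polynomial.C a * Polynomial.X ^ k, 0, by simp⟩
    · refine ⟨0, Polynomial.C a * Polynomial.X ^ k, ?_⟩
      rw [map_zero, zero_add, toLaurent_C_mul_eq, toLaurent_X_pow, map_mul, invert_C, invert_T,
        mul_left_comm, ← T_add]
      congr 2
      omega

theorem trunc_invert (g : A[X]) :
    LaurentPolynomial.trunc (invert (toLaurent g)) = Polynomial.C (g.coeff 0) := by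
  induction g using Polynomial.induction_on' with
  | add g g' h h' => simp only [map_add, h, h', Polynomial.coeff_add]
  | monomial n a =>
    rw [← Polynomial.C_mul_X_pow_eq_monomial, toLaurent_C_mul_eq, toLaurent_X_pow, map_mul,
      invert_C, invert_T, trunc_C_mul_T]
    rcases n with _ | n
    · simp
    · rw [if_neg (by omega)]
      simp

theorem eq_C_of_invert_eq {f g : A[X]} (h : toLaurent f = invert (toLaurent g)) :
    f = Polynomial.C (g.coeff 0) ∧ g = Polynomial.C (g.coeff 0) := by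
  have hf : f = Polynomial.C (g.coeff 0) := by
    rw [← trunc_toLaurent f, h, trunc_invert]
  refine ⟨hf, ?_⟩
  have h' : toLaurent g = invert (toLaurent f) := by
    rw [h]; exact (involutive_invert _).symm
  apply toLaurent_injective
  rw [h', hf, toLaurent_C, invert_C]

variable (x y : A)

/-- The equation of the first chart. -/
noncomputable abbrev I₁ : Ideal A[X] := Ideal.span {Polynomial.C x * Polynomial.X - Polynomial.C y}

/-- The equation of the overlap. -/
noncomputable abbrev I₁₂ : Ideal A[T;T⁻¹] :=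
  Ideal.span {LaurentPolynomial.C x * T 1 - LaurentPolynomial.C y}

/-- Functions on the two charts agreeing on the overlap come from `A`. -/
theorem glue {P R : A[X]} (h : toLaurent P - invert (toLaurent R) ∈ I₁₂ x y) :
    ∃ a, P - Polynomial.C a ∈ I₁ x y ∧ R - Polynomial.C a ∈ I₁ y x := by
  obtain ⟨L, hL⟩ := Ideal.mem_span_singleton'.mp h
  obtain ⟨U, V, rfl⟩ := exists_decomp L
  let f := P - U * (Polynomial.C x * Polynomial.X - Polynomial.C y)
  let g := R - V * (Polynomial.C y * Polynomial.X - Polynomial.C x)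
  have hfg : toLaurent f = invert (toLaurent g) := by
    have hT : (T (-1) : A[T;T⁻¹]) * T 1 = 1 := by rw [← T_add]; exact T_zero
    simp only [f, g, map_sub, map_mul, toLaurent_C, toLaurent_X, invert_C, invert_T]
    linear_combination hL.symm + (LaurentPolynomial.C x * invert (toLaurent V)) * hT
  obtain ⟨hf, hg⟩ := eq_C_of_invert_eq hfg
  refine ⟨g.coeff 0, Ideal.mem_span_singleton'.mpr ⟨U, ?_⟩, Ideal.mem_span_singleton'.mpr ⟨V, ?_⟩⟩
  · rw [← hf]; simp [f]
  · rw [← hg]; simp [g]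

theorem coeff_mul_linear (q : A[X]) (k : ℕ) :
    (q * (Polynomial.C x * Polynomial.X - Polynomial.C y)).coeff (k + 1) =
      x * q.coeff k - y * q.coeff (k + 1) := by
  rw [mul_sub, Polynomial.coeff_sub, ← mul_assoc, Polynomial.coeff_mul_X, Polynomial.coeff_mul_C,
    Polynomial.coeff_mul_C, mul_comm x, mul_comm y]

/-- A function vanishing on both charts squares to zero. -/
theorem sq_eq_zero {c : A} (h₁ : Polynomial.C c ∈ I₁ x y) (h₂ : Polynomial.C c ∈ I₁ y x) :
    c ^ 2 = 0 := by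
  obtain ⟨q, hq⟩ := Ideal.mem_span_singleton'.mp h₁
  obtain ⟨r, hr⟩ := Ideal.mem_span_singleton'.mp h₂
  have hq0 : c = -(y * q.coeff 0) := by
    have := congrArg (fun P => Polynomial.coeff P 0) hq
    simp only [Polynomial.mul_coeff_zero, Polynomial.coeff_sub, Polynomial.coeff_C_zero,
      Polynomial.coeff_X_zero, mul_zero, zero_sub] at this
    rw [← this]; ring
  have hr0 : c = -(x * r.coeff 0) := by
    have := congrArg (fun P => Polynomial.coeff P 0) hr
    simp only [Polynomial.mul_coeff_zero, Polynomial.coeff_sub, Polynomial.coeff_C_zero,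
      Polynomial.coeff_X_zero, mul_zero, zero_sub] at this
    rw [← this]; ring
  have hqk : ∀ k, x * q.coeff k = y * q.coeff (k + 1) := fun k => by
    have := coeff_mul_linear x y q k
    rw [hq, Polynomial.coeff_C_succ] at this
    linear_combination -this
  have hrk : ∀ k, y * r.coeff k = x * r.coeff (k + 1) := fun k => by
    have := coeff_mul_linear y x r k
    rw [hr, Polynomial.coeff_C_succ] at this
    linear_combination -this
  have hT : ∀ k, (x * q.coeff 0) * (y * r.coeff 0) = (x * q.coeff k) * (y * r.coeff k) := fun k => by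
    induction k with
    | zero => rfl
    | succ k ih => rw [ih, hqk k, hrk k]; ring
  have h0 := hT (q.natDegree + 1)
  rw [Polynomial.coeff_eq_zero_of_natDegree_lt (Nat.lt_succ_self _), mul_zero, zero_mul] at h0
  rw [sq]
  nth_rewrite 1 [hq0]
  nth_rewrite 1 [hr0]
  linear_combination h0

theorem pow_mem_of_torsion {R : Type u} [CommRing R] {I : Ideal R} {t e : R} {m q : ℕ}
    (h : t ^ m * (t * e) ∈ I) (hq : m + 1 ≤ q) : (t * e) ^ q ∈ I := by
  obtain ⟨d, rfl⟩ := Nat.exists_eq_add_of_le hq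
  have : (t * e) ^ (m + 1 + d) = t ^ m * (t * e) * (t ^ d * e ^ (m + d)) := by ring
  rw [this]
  exact I.mul_mem_right _ h

theorem sub_pow_p {R : Type u} [CommRing R] (p : ℕ) [Fact p.Prime] (hR : (p : R) = 0) (a b : R)
    (k : ℕ) : (a - b) ^ p ^ k = a ^ p ^ k - b ^ p ^ k := by
  cases subsingleton_or_nontrivial R with
  | inl h => exact Subsingleton.elim _ _
  | inr h =>
    haveI : CharP R p := (CharP.charP_iff_prime_eq_zero (Fact.out : p.Prime)).mpr hR
    exact sub_pow_char_pow ..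

variable {x y} {B₁ B₂ B₁₂ : Type u} [CommRing B₁] [CommRing B₂] [CommRing B₁₂]
  (φ₁ : A[X] →+* B₁) (φ₂ : A[X] →+* B₂) (φ₁₂ : A[T;T⁻¹] →+* B₁₂)
  (r₁ : B₁ →+* B₁₂) (r₂ : B₂ →+* B₁₂) {m : ℕ}

/-- Uniqueness on the two charts. -/
theorem pow_eq_zero_of_charts (h₁ : ∀ P, φ₁ P = 0 → Polynomial.C x ^ m * P ∈ I₁ x y)
    (h₂ : ∀ P, φ₂ P = 0 → Polynomial.C y ^ m * P ∈ I₁ y x) {a : A} (ha : a ∈ Ideal.span {x, y})
    (ha₁ : φ₁ (Polynomial.C a) = 0) (ha₂ : φ₂ (Polynomial.C a) = 0) {q : ℕ} (hq : m + 1 ≤ q) :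
    a ^ (q * 2) = 0 := by
  obtain ⟨α, β, rfl⟩ := Ideal.mem_span_pair.mp ha
  rw [pow_mul]
  refine sq_eq_zero x y ?_ ?_
  · set e : A[X] := Polynomial.C α + Polynomial.C β * Polynomial.X
    have hd : Polynomial.C (α * x + β * y) - Polynomial.C x * e ∈ I₁ x y :=
      Ideal.mem_span_singleton'.mpr ⟨-Polynomial.C β, by simp [e]; ring⟩
    have he : (Polynomial.C x * e) ^ q ∈ I₁ x y := by
      refine pow_mem_of_torsion (m := m) ?_ hq
      have := sub_mem (h₁ _ ha₁) ((I₁ x y).mul_mem_left (Polynomial.C x ^ m) hd)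
      rwa [← mul_sub, sub_sub_cancel] at this
    rw [map_pow, ← sub_add_cancel (Polynomial.C (α * x + β * y) ^ q) ((Polynomial.C x * e) ^ q)]
    exact add_mem (Ideal.mem_of_dvd _ (sub_dvd_pow_sub_pow _ _ q) hd) he
  · set e : A[X] := Polynomial.C β + Polynomial.C α * Polynomial.X
    have hd : Polynomial.C (α * x + β * y) - Polynomial.C y * e ∈ I₁ y x :=
      Ideal.mem_span_singleton'.mpr ⟨-Polynomial.C α, by simp [e]; ring⟩
    have he : (Polynomial.C y * e) ^ q ∈ I₁ y x := by
      refine pow_mem_of_torsion (m := m) ?_ hq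
      have := sub_mem (h₂ _ ha₂) ((I₁ y x).mul_mem_left (Polynomial.C y ^ m) hd)
      rwa [← mul_sub, sub_sub_cancel] at this
    rw [map_pow, ← sub_add_cancel (Polynomial.C (α * x + β * y) ^ q) ((Polynomial.C y * e) ^ q)]
    exact add_mem (Ideal.mem_of_dvd _ (sub_dvd_pow_sub_pow _ _ q) hd) he

variable {p : ℕ} [Fact p.Prime] (hp : (p : A) = 0)
include hp

/-- Existence on the two charts, for functions vanishing on the centre. -/
theorem exists_glue (hφ₁ : φ₁ (Polynomial.C x * Polynomial.X - Polynomial.C y) = 0)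
    (hφ₂ : φ₂ (Polynomial.C y * Polynomial.X - Polynomial.C x) = 0)
    (h₁₂ : ∀ L, φ₁₂ L = 0 → LaurentPolynomial.C x ^ m * L ∈ I₁₂ x y)
    (hr₁ : ∀ P, r₁ (φ₁ P) = φ₁₂ (toLaurent P)) (hr₂ : ∀ R, r₂ (φ₂ R) = φ₁₂ (invert (toLaurent R)))
    (W₁ W₂ : A[X]) (hW : r₁ (φ₁ (Polynomial.C x * W₁)) = r₂ (φ₂ (Polynomial.C y * W₂)))
    (M : ℕ) (hM : m + 1 ≤ p ^ M) :
    ∃ a ∈ Ideal.span {x, y}, φ₁ (Polynomial.C a) = φ₁ (Polynomial.C x * W₁) ^ p ^ M ∧
      φ₂ (Polynomial.C a) = φ₂ (Polynomial.C y * W₂) ^ p ^ M := by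
  set D : A[T;T⁻¹] :=
    toLaurent (Polynomial.C x * W₁) - invert (toLaurent (Polynomial.C y * W₂)) with hD
  set E : A[T;T⁻¹] := toLaurent W₁ - T 1 * invert (toLaurent W₂)
  have hDE : D - LaurentPolynomial.C x * E ∈ I₁₂ x y :=
    Ideal.mem_span_singleton'.mpr ⟨invert (toLaurent W₂), by
      simp only [D, E, map_mul, toLaurent_C, invert_C]; ring⟩
  have hD0 : φ₁₂ D = 0 := by rw [hD, map_sub, ← hr₁, ← hr₂, hW, sub_self]
  have hE : (LaurentPolynomial.C x * E) ^ p ^ M ∈ I₁₂ x y := by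
    refine pow_mem_of_torsion (m := m) ?_ hM
    have := sub_mem (h₁₂ _ hD0) ((I₁₂ x y).mul_mem_left (LaurentPolynomial.C x ^ m) hDE)
    rwa [← mul_sub, sub_sub_cancel] at this
  have hpL : (p : A[T;T⁻¹]) = 0 := by
    rw [← map_natCast LaurentPolynomial.C p, hp, map_zero]
  have hDq : D ^ p ^ M ∈ I₁₂ x y := by
    rw [← sub_add_cancel (D ^ p ^ M) ((LaurentPolynomial.C x * E) ^ p ^ M)]
    exact add_mem (Ideal.mem_of_dvd _ (sub_dvd_pow_sub_pow _ _ _) hDE) hE
  obtain ⟨a, ha₁, ha₂⟩ := glue x y (P := (Polynomial.C x * W₁) ^ p ^ M)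
    (R := (Polynomial.C y * W₂) ^ p ^ M) (by
      rw [map_pow, map_pow, map_pow, ← sub_pow_p p hpL]; exact hDq)
  obtain ⟨U, hU⟩ := Ideal.mem_span_singleton'.mp ha₁
  obtain ⟨V, hV⟩ := Ideal.mem_span_singleton'.mp ha₂
  refine ⟨a, ?_, ?_, ?_⟩
  · have h0 := congrArg (Polynomial.eval 0) hU
    simp only [Polynomial.eval_mul, Polynomial.eval_sub, Polynomial.eval_pow, Polynomial.eval_C,
      Polynomial.eval_X, mul_zero, zero_sub] at h0
    obtain ⟨k, hk⟩ := Nat.exists_eq_succ_of_ne_zero (n := p ^ M) (by omega)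
    rw [hk, pow_succ] at h0
    exact Ideal.mem_span_pair.mpr ⟨(x * W₁.eval 0) ^ k * W₁.eval 0, U.eval 0,
      by linear_combination -h0⟩
  · have := congrArg φ₁ hU
    rw [map_mul, hφ₁, mul_zero, map_sub, map_pow] at this
    exact (sub_eq_zero.mp this.symm).symm
  · have := congrArg φ₂ hV
    rw [map_mul, hφ₂, mul_zero, map_sub, map_pow] at this
    exact (sub_eq_zero.mp this.symm).symm

end Groth.HTopHyper.TwoChart
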