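import Groth.Agent.HTopHyper.StdV
import Mathlib.AlgebraicGeometry.AffineTransitionLimit
import Mathlib.CategoryTheory.Limits.Constructions.Over.Connected

/-! Valuative liftings and cofiltered limits of affine schemes. -/

set_option autoImplicit false

universe w w' u

open CategoryTheory CategoryTheory.Limits AlgebraicGeometry IsLocalRing

namespace Groth.HTopHyper

section Ring

variable {V A : Type u} [CommRing V] [IsDomain V] [ValuationRing V] [CommRing A] (ρ : V →+* A)

/-- The obstruction: some element congruent to `1` modulo the maximal ideal is torsion over `V`. -/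
def NoLift : Prop :=
  ∃ (c : V) (m : V) (b : A), c ≠ 0 ∧ m ∈ maximalIdeal V ∧ ρ c * (1 - ρ m * b) = 0

/-- The ideal of torsion elements plus the extension of the maximal ideal. -/
def torsPlus : Ideal A where
  carrier := {a | ∃ (c : V) (m : V) (b : A), c ≠ 0 ∧ m ∈ maximalIdeal V ∧ ρ c * (a - ρ m * b) = 0}
  zero_mem' := ⟨1, 0, 0, one_ne_zero, zero_mem _, by simp⟩
  add_mem' := by
    rintro a a' ⟨c, m, b, hc, hm, h⟩ ⟨c', m', b', hc', hm', h'⟩
    obtain ⟨r, hr | hr⟩ := ValuationRing.cond m m'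
    · refine ⟨c * c', m, b + ρ r * b', mul_ne_zero hc hc', hm, ?_⟩
      subst hr
      simp only [map_mul] at h h' ⊢
      linear_combination (ρ c') * h + (ρ c) * h'
    · refine ⟨c * c', m', ρ r * b + b', mul_ne_zero hc hc', hm', ?_⟩
      subst hr
      simp only [map_mul] at h h' ⊢
      linear_combination (ρ c') * h + (ρ c) * h'
  smul_mem' := by
    rintro x a ⟨c, m, b, hc, hm, h⟩
    exact ⟨c, m, x * b, hc, hm, by simp only [smul_eq_mul]; linear_combination x * h⟩

theorem exists_primes_of_not_noLift (h : ¬ NoLift ρ) : ∃ q P : PrimeSpectrum A, q ≤ P ∧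
    q.asIdeal.comap ρ = ⊥ ∧ P.asIdeal.comap ρ = maximalIdeal V := by
  have hne : torsPlus ρ ≠ ⊤ := fun e => h ((Ideal.eq_top_iff_one _).mp e)
  obtain ⟨P, hP, hle⟩ := Ideal.exists_le_maximal _ hne
  have hm : maximalIdeal V ≤ P.comap ρ := fun m hm =>
    hle ⟨1, m, 1, one_ne_zero, hm, by simp⟩
  let M : Submonoid A :=
    { carrier := {a | ∃ (c : V) (s : A), c ≠ 0 ∧ s ∉ P ∧ a = ρ c * s}
      one_mem' := ⟨1, 1, one_ne_zero, hP.isPrime.one_notMem, by simp⟩
      mul_mem' := by
        rintro _ _ ⟨c, s, hc, hs, rfl⟩ ⟨c', s', hc', hs', rfl⟩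
        refine ⟨c * c', s * s', mul_ne_zero hc hc', hP.isPrime.mul_notMem hs hs', ?_⟩
        rw [map_mul]; ring }
  have h0 : Disjoint ((⊥ : Ideal A) : Set A) M := by
    rw [Set.disjoint_left]
    intro a ha hM
    rw [SetLike.mem_coe, Ideal.mem_bot] at ha
    subst ha
    obtain ⟨c, s, hc, hs, hcs⟩ := hM
    exact hs (hle ⟨c, 0, 0, hc, zero_mem _, by simpa using hcs.symm⟩)
  obtain ⟨q, hq, -, hqM⟩ := Ideal.exists_le_prime_disjoint ⊥ M h0
  refine ⟨⟨q, hq⟩, ⟨P, hP.isPrime⟩, fun a ha => ?_, ?_, ?_⟩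
  · by_contra hn
    exact Set.disjoint_left.mp hqM ha ⟨1, a, one_ne_zero, hn, by simp⟩
  · refine le_bot_iff.mp fun c hc => ?_
    by_contra hn
    exact Set.disjoint_left.mp hqM hc ⟨c, 1, hn, hP.isPrime.one_notMem, by simp⟩
  · exact ((maximalIdeal.isMaximal V).eq_of_le (Ideal.IsPrime.comap ρ (K := P)).ne_top hm).symm

theorem not_noLift_of_comp {W : Type u} [CommRing W] [IsDomain W] [IsLocalRing W] (ψ : A →+* W)
    (hinj : Function.Injective (ψ.comp ρ)) [IsLocalHom (ψ.comp ρ)] : ¬ NoLift ρ := by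
  rintro ⟨c, m, b, hc, hm, h⟩
  have h' := congrArg ψ h
  rw [map_mul, map_zero, mul_eq_zero] at h'
  have h1 : ψ (ρ c) ≠ 0 := fun e => hc (hinj (e.trans (map_zero (ψ.comp ρ)).symm))
  have h2 : ψ (ρ m) ∈ maximalIdeal W := fun hu => hm ((isUnit_map_iff (ψ.comp ρ) m).mp hu)
  rcases h' with h' | h'
  · exact h1 h'
  · rw [map_sub, map_one, map_mul, sub_eq_zero] at h'
    exact (maximalIdeal.isMaximal W).ne_top
      ((Ideal.eq_top_iff_one _).mpr (h'.symm ▸ Ideal.mul_mem_right _ _ h2))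

end Ring

/-- The structure map on global sections of an affine scheme over `Spec V`. -/
noncomputable def ringMap {V : CommRingCat.{u}} {P : Scheme.{u}} [IsAffine P] (p : P ⟶ Spec V) :
    V ⟶ Γ(P, ⊤) :=
  Spec.preimage (P.isoSpec.inv ≫ p)

theorem ringMap_comp {V : CommRingCat.{u}} {P Q : Scheme.{u}} [IsAffine P] [IsAffine Q]
    (π : P ⟶ Q) (p : Q ⟶ Spec V) : ringMap p ≫ π.appTop = ringMap (π ≫ p) := by
  apply Spec.map_injective
  rw [Spec.map_comp, ringMap, ringMap, Spec.map_preimage, Spec.map_preimage,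
    Scheme.isoSpec_inv_naturality_assoc]

theorem ringMap_comp_apply {V : CommRingCat.{u}} {P Q : Scheme.{u}} [IsAffine P] [IsAffine Q]
    (π : P ⟶ Q) (p : Q ⟶ Spec V) (p' : P ⟶ Spec V) (h : π ≫ p = p') (x : V) :
    π.appTop.hom ((ringMap p).hom x) = (ringMap p').hom x := by
  subst h
  rw [← ringMap_comp]
  rfl

theorem hasValLift_singleton_of_affine {X Y : Scheme.{u}} [IsAffine X] [IsAffine Y] (f : X ⟶ Y)
    (h : ∀ (V : CommRingCat.{u}) [IsDomain V] [ValuationRing V] (g : Spec V ⟶ Y),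
      ¬ NoLift (ringMap (pullback.snd f g)).hom) :
    HTop.HasValLift (PreZeroHypercover.singleton.{w} f) := by
  intro V _ _ g
  obtain ⟨q, P, hqP, hq, hP⟩ := exists_primes_of_not_noLift _ (h V g)
  let e := (pullback f g).isoSpec.inv
  have he : e ≫ pullback.snd f g = Spec.map (ringMap (pullback.snd f g)) :=
    (Spec.map_preimage _).symm
  have hspec : e q ⤳ e P := ((PrimeSpectrum.le_iff_specializes q P).mp hqP).map e.continuous
  obtain ⟨W, hW, hW', φ, hφ, l, hl, -, -⟩ := exists_ext_of_specializes (pullback.snd f g) hspec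
    ((Scheme.Hom.comp_apply e (pullback.snd f g) q).symm.trans <|
      (congrArg (fun k : Spec _ ⟶ Spec V => k q) he).trans (PrimeSpectrum.ext hq))
    ((Scheme.Hom.comp_apply e (pullback.snd f g) P).symm.trans <|
      (congrArg (fun k : Spec _ ⟶ Spec V => k P) he).trans (PrimeSpectrum.ext hP))
  exact ⟨W, hW, hW', φ, hφ, PUnit.unit, l ≫ pullback.fst f g,
    (Category.assoc _ _ _).trans ((congrArg (l ≫ ·) pullback.condition).trans
      ((Category.assoc _ _ _).symm.trans (congrArg (· ≫ g) hl)))⟩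

theorem not_noLift_of_hasValLift {X Y : Scheme.{u}} [IsAffine X] [IsAffine Y] (f : X ⟶ Y)
    (h : HTop.HasValLift (PreZeroHypercover.singleton.{w} f)) (V : CommRingCat.{u}) [IsDomain V]
    [ValuationRing V] (g : Spec V ⟶ Y) : ¬ NoLift (ringMap (pullback.snd f g)).hom := by
  obtain ⟨W, _, _, φ, ⟨hinj, hloc⟩, -, (g' : Spec W ⟶ X), (hg' : g' ≫ f = Spec.map φ ≫ g)⟩ := h V g
  let l : Spec W ⟶ pullback f g := pullback.lift g' (Spec.map φ) hg'
  let ψ : Γ(pullback f g, ⊤) ⟶ W := Spec.preimage (l ≫ (pullback f g).isoSpec.hom)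
  have hψ : ringMap (pullback.snd f g) ≫ ψ = φ := by
    apply Spec.map_injective
    simp only [ψ, ringMap, Spec.map_comp, Spec.map_preimage, Category.assoc, Iso.hom_inv_id_assoc,
      l, pullback.lift_snd]
  have heq : ψ.hom.comp (ringMap (pullback.snd f g)).hom = φ.hom := by
    rw [← CommRingCat.hom_comp, hψ]
  have : IsLocalHom (ψ.hom.comp (ringMap (pullback.snd f g)).hom) := heq ▸ hloc
  exact not_noLift_of_comp _ ψ.hom (heq ▸ hinj)

theorem hasValLift_of_isLimit {Y : Scheme.{u}} [IsAffine Y]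
    {I : Type u} [SmallCategory I] [IsCofiltered I] (D : I ⥤ Over Y) [∀ i, IsAffine (D.obj i).left]
    (c : Cone D) (hc : IsLimit ((Over.forget Y).mapCone c))
    (h : ∀ i, HTop.HasValLift (PreZeroHypercover.singleton.{w} (D.obj i).hom)) :
    HTop.HasValLift (PreZeroHypercover.singleton.{w'} c.pt.hom) := by
  have : IsConnected I := IsCofiltered.isConnected I
  have : ∀ i, IsAffine ((D ⋙ Over.forget Y).obj i) := fun i => inferInstanceAs (IsAffine (D.obj i).left)
  have : IsAffine c.pt.left := Scheme.isAffine_of_isLimit _ hc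
  refine hasValLift_singleton_of_affine c.pt.hom fun V _ _ g hno => ?_
  have hlim : IsLimit ((Over.forget (Spec V)).mapCone ((Over.pullback g).mapCone c)) :=
    isLimitOfPreserves _ (isLimitOfPreserves _ (isLimitOfReflects (Over.forget Y) hc))
  let D' := (D ⋙ Over.pullback g) ⋙ Over.forget (Spec V)
  have hD' : ∀ i, IsAffine (D'.obj i) := fun i =>
    inferInstanceAs (IsAffine (pullback (D.obj i).hom g))
  let π : ∀ i, pullback c.pt.hom g ⟶ D'.obj i := fun i =>
    ((Over.forget (Spec V)).mapCone ((Over.pullback g).mapCone c)).π.app i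
  have hπ : ∀ i, π i ≫ pullback.snd (D.obj i).hom g = pullback.snd c.pt.hom g := fun i =>
    Over.w ((Over.pullback g).map (c.π.app i))
  have hD'w : ∀ {i j : I} (a : i ⟶ j),
      D'.map a ≫ pullback.snd (D.obj j).hom g = pullback.snd (D.obj i).hom g := fun a =>
    Over.w ((Over.pullback g).map (D.map a))
  obtain ⟨t, m, b, ht, hm, he⟩ := hno
  obtain ⟨i, bi, hbi⟩ := exists_appTop_π_eq_of_isAffine_of_isLimit D' _ hlim b
  let ρ : ∀ i, V ⟶ Γ(D'.obj i, ⊤) := fun i => ringMap (P := D'.obj i) (pullback.snd (D.obj i).hom g)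
  have hρπ : ∀ i x, (π i).appTop.hom ((ρ i).hom x) = (ringMap (pullback.snd c.pt.hom g)).hom x :=
    fun i x => ringMap_comp_apply (Q := D'.obj i) (π i) _ _ (hπ i) x
  have hzero : (π i).appTop.hom ((ρ i).hom t * (1 - (ρ i).hom m * bi)) = 0 := by
    rw [map_mul, map_sub, map_one, map_mul, hρπ, hρπ]
    exact (show (π i).appTop.hom bi = b from hbi) ▸ he
  obtain ⟨j, a, ha⟩ := exists_appTop_map_eq_zero_of_isAffine_of_isLimit D' _ hlim i _ hzero
  refine not_noLift_of_hasValLift _ (h j) V g ⟨t, m, (D'.map a).appTop bi, ht, hm, ?_⟩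
  have hρ : ∀ x, (D'.map a).appTop.hom ((ρ i).hom x) = (ρ j).hom x := fun x =>
    ringMap_comp_apply (P := D'.obj j) (Q := D'.obj i) (D'.map a) _ _ (hD'w a) x
  have ha' : (D'.map a).appTop.hom ((ρ i).hom t * (1 - (ρ i).hom m * bi)) = 0 := ha
  rw [map_mul, map_sub, map_one, map_mul, hρ, hρ] at ha'
  exact ha'

theorem isStandardV_iff_of_isLimit {Y : Scheme.{u}} [IsAffine Y]
    {I : Type u} [SmallCategory I] [IsCofiltered I] (D : I ⥤ Over Y) [∀ i, IsAffine (D.obj i).left]
    (c : Cone D) (hc : IsLimit ((Over.forget Y).mapCone c)) :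
    HTop.IsStandardV (PreZeroHypercover.singleton.{w} c.pt.hom) ↔
      ∀ i, HTop.IsStandardV (PreZeroHypercover.singleton.{w} (D.obj i).hom) := by
  constructor
  · intro h i
    refine ⟨inferInstance, inferInstanceAs (Finite PUnit), fun _ => inferInstanceAs (IsAffine (D.obj i).left), ?_⟩
    intro V _ _ g
    obtain ⟨W, hW, hW', φ, hφ, -, (g' : Spec W ⟶ c.pt.left), (hg' : g' ≫ c.pt.hom = Spec.map φ ≫ g)⟩ := h.lift V g
    refine ⟨W, hW, hW', φ, hφ, PUnit.unit, g' ≫ (c.π.app i).left, ?_⟩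
    exact (Category.assoc _ _ _).trans ((congrArg (g' ≫ ·) (Over.w (c.π.app i))).trans hg')
  · intro h
    have : ∀ i, IsAffine ((D ⋙ Over.forget Y).obj i) := fun i =>
      inferInstanceAs (IsAffine (D.obj i).left)
    have hpt : IsAffine c.pt.left := Scheme.isAffine_of_isLimit _ hc
    exact ⟨inferInstance, inferInstanceAs (Finite PUnit), fun _ => hpt,
      hasValLift_of_isLimit D c hc fun i => (h i).lift⟩

end Groth.HTopHyper
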