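import Groth.Agent.HTopHyper.HSheafCriterion
import Groth.Agent.HTopHyper.SheafGlue
import Groth.Agent.HTopHyper.VCover
import Groth.Agent.Limits.RelApproxCor
import Mathlib.CategoryTheory.Limits.Types.Filtered

/-! Limit preserving h sheaves are V sheaves. -/

set_option autoImplicit false
set_option backward.isDefEq.respectTransparency false

universe w v u

open CategoryTheory CategoryTheory.Limits AlgebraicGeometry Opposite

namespace Groth.HTopHyper

section SelfProd

variable {I : Type u} [Category.{u} I] [IsCofiltered I] {T : Scheme.{u}} (D : I ⥤ Over T)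

/-- The system of self fibre products over `T`. -/
noncomputable def selfProd : I ⥤ Scheme.{u} where
  obj i := pullback (D.obj i).hom (D.obj i).hom
  map {i j} f := pullback.map _ _ _ _ (D.map f).left (D.map f).left (𝟙 T) (by simp) (by simp)
  map_id i := by ext <;> simp
  map_comp f g := by ext <;> simp

/-- The cone of self fibre products. -/
noncomputable def selfProdCone (c : Cone D) : Cone (selfProd D) where
  pt := pullback c.pt.hom c.pt.hom
  π :=
  { app := fun i => pullback.map _ _ _ _ (c.π.app i).left (c.π.app i).left (𝟙 T) (by simp) (by simp)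
    naturality := fun i j f => by
      apply pullback.hom_ext <;> simp [selfProd, ← Over.comp_left] }

/-- The self fibre product of a limit is the limit of the self fibre products. -/
noncomputable def isLimitSelfProdCone {c : Cone D} (hc : IsLimit ((Over.forget T).mapCone c)) :
    IsLimit (selfProdCone D c) :=
  let c₁ (s : Cone (selfProd D)) : Cone (D ⋙ Over.forget T) :=
    { pt := s.pt
      π :=
      { app := fun i => s.π.app i ≫ pullback.fst _ _
        naturality := fun i j f => by simp [← s.w f, selfProd] } }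
  let c₂ (s : Cone (selfProd D)) : Cone (D ⋙ Over.forget T) :=
    { pt := s.pt
      π :=
      { app := fun i => s.π.app i ≫ pullback.snd _ _
        naturality := fun i j f => by simp [← s.w f, selfProd] } }
  { lift := fun s => pullback.lift (hc.lift (c₁ s)) (hc.lift (c₂ s)) (by
      obtain ⟨i⟩ := IsCofiltered.nonempty (C := I)
      have key : ∀ c' : Cone (D ⋙ Over.forget T),
          hc.lift c' ≫ c.pt.hom = c'.π.app i ≫ (D.obj i).hom := fun c' =>
        (congrArg (hc.lift c' ≫ ·) (Over.w (c.π.app i)).symm).trans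
          ((Category.assoc _ _ _).symm.trans (congrArg (· ≫ (D.obj i).hom) (hc.fac c' i)))
      refine (key (c₁ s)).trans (Eq.trans ?_ (key (c₂ s)).symm)
      simp [c₁, c₂, Category.assoc, pullback.condition])
    fac := fun s i => by
      apply pullback.hom_ext <;> simp only [selfProdCone, Category.assoc, pullback.lift_fst,
        pullback.lift_snd, pullback.lift_fst_assoc, pullback.lift_snd_assoc]
      · exact hc.fac (c₁ s) i
      · exact hc.fac (c₂ s) i
    uniq := fun s m hm => by
      apply pullback.hom_ext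
      · refine hc.hom_ext fun i => ?_
        rw [pullback.lift_fst, hc.fac]
        simp [c₁, ← hm i, selfProdCone]
      · refine hc.hom_ext fun i => ?_
        rw [pullback.lift_snd, hc.fac]
        simp [c₂, ← hm i, selfProdCone] }

end SelfProd

variable {S : Scheme.{u}} {F : (Over S)ᵒᵖ ⥤ Type v}

variable (F) in
/-- The limit preservation property. -/
def LimitPreserving : Prop :=
  ∀ (I : Type u) [SmallCategory I] [IsCofiltered I] (D : I ⥤ Over S),
      (∀ i, IsAffine (D.obj i).left) → ∀ (c : Cone D), IsLimit ((Over.forget S).mapCone c) →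
        Nonempty (IsColimit (F.mapCocone c.op))

theorem isSheaf_zariski_of_isHSheafOver (h1 : HTop.IsHSheafOver S F) :
    Presieve.IsSheaf (Scheme.zariskiTopology.over S) F := by
  rw [Scheme.zariskiTopology, Scheme.grothendieckTopology,
    over_toGrothendieck_eq_toGrothendieck_comap_forget,
    Precoverage.isSheaf_toGrothendieck_iff_of_isStableUnderBaseChange]
  intro Y R hR
  refine h1 R ?_
  obtain ⟨(𝒰 : Y.left.OpenCover), h⟩ := Scheme.exists_cover_of_mem_pretopology
    (show R.map (Over.forget S) ∈ Scheme.zariskiPrecoverage Y.left from hR)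
  rw [h]
  refine (HTop.presieve₀_mem_hPrecoverage_iff _).mpr ⟨fun i => ?_, isVCover_openCover 𝒰⟩
  have : IsOpenImmersion (𝒰.f i) := 𝒰.map_prop i
  infer_instance

theorem isSheafFor_standardV_affine (h1 : HTop.IsHSheafOver S F) (h2 : LimitPreserving F)
    {A B : Over S} (π : B ⟶ A) [IsAffine A.left] [IsAffine B.left]
    (hV : HTop.HasValLift (PreZeroHypercover.singleton.{0} π.left)) :
    Presieve.IsSheafFor F (Presieve.singleton π) := by
  have : IsAffineHom π.left := isAffineHom_of_isAffine _
  obtain ⟨R, hR⟩ := Groth.Limits.exists_affineRelSystem π.left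
  have : IsConnected R.Iᵒᵖ := IsCofiltered.isConnected _
  have hlim : IsLimit R.leftCone := isLimitOfPreserves (Over.forget A.left) R.isLimit
  have haff : ∀ i, IsAffine (R.D.obj i).left := fun i =>
    have := hR i; isAffine_of_isAffineHom (R.D.obj i).hom
  -- the system over `S`
  let D : R.Iᵒᵖ ⥤ Over S := R.D ⋙ Over.map A.hom
  let c : Cone D := (Over.map A.hom).mapCone R.cone
  have hc : IsLimit ((Over.forget S).mapCone c) := hlim
  obtain ⟨colD⟩ := h2 _ D haff c hc
  let e : c.pt ≅ B := Over.isoMk (Iso.refl _) (by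
    refine (Category.id_comp _).trans ?_
    exact (Over.w π).symm)
  let q : ∀ i, D.obj i ⟶ A := fun i => Over.homMk (R.D.obj i).hom rfl
  have hq : ∀ i, c.π.app i ≫ q i = e.hom ≫ π := fun i => by
    ext
    exact (Over.w (R.π.app i)).trans (Category.id_comp _).symm
  have hqm : ∀ {i j} (f : i ⟶ j), D.map f ≫ q j = q i := fun f => by
    ext
    exact Over.w (R.D.map f)
  have hsh : ∀ i, Presieve.IsSheafFor F (Presieve.singleton (q i)) := fun i => by
    refine h1 _ ?_
    rw [show (Presieve.singleton (q i)).map (Over.forget S) = Presieve.singleton (R.D.obj i).hom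
      from Presieve.map_singleton (F := Over.forget S) (q i)]
    rw [show Presieve.singleton (R.D.obj i).hom =
      (PreZeroHypercover.singleton.{0} (R.D.obj i).hom).presieve₀ from
        (Presieve.ofArrows_pUnit _).symm]
    refine (HTop.presieve₀_mem_hPrecoverage_iff _).mpr
      ⟨fun _ => R.locallyOfFinitePresentation i, ?_⟩
    have : Finite (PreZeroHypercover.singleton.{0} (R.D.obj i).hom).I₀ :=
      inferInstanceAs (Finite PUnit)
    refine isVCover_of_hasValLift (fun _ => R.quasiCompact i) fun V _ _ g => ?_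
    obtain ⟨W, hW, hW', φ, hφ, -, (g' : Spec W ⟶ B.left), (hg' : g' ≫ π.left = Spec.map φ ≫ g)⟩ :=
      hV V g
    exact ⟨W, hW, hW', φ, hφ, PUnit.unit, g' ≫ (R.π.app i).left, by
      refine (Category.assoc _ _ _).trans (Eq.trans ?_ hg')
      exact congrArg (g' ≫ ·) (Over.w (R.π.app i))⟩
  -- the system of self fibre products over `S`
  let E : R.Iᵒᵖ ⥤ Over S :=
    { obj := fun i => Over.mk (pullback.fst (R.D.obj i).hom (R.D.obj i).hom ≫ (D.obj i).hom)
      map := fun {i j} f => Over.homMk ((selfProd R.D).map f) (by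
        show (selfProd R.D).map f ≫ pullback.fst (R.D.obj j).hom (R.D.obj j).hom ≫ (D.obj j).hom =
          pullback.fst (R.D.obj i).hom (R.D.obj i).hom ≫ (D.obj i).hom
        rw [← Category.assoc, show (selfProd R.D).map f ≫ pullback.fst (R.D.obj j).hom _ =
          pullback.fst _ _ ≫ (R.D.map f).left from pullback.lift_fst _ _ _, Category.assoc]
        exact congrArg _ (Over.w (D.map f)))
      map_id := fun i => by ext : 1; exact (selfProd R.D).map_id i
      map_comp := fun f g => by ext : 1; exact (selfProd R.D).map_comp f g }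
  let cE : Cone E :=
    { pt := Over.mk (pullback.fst R.cone.pt.hom R.cone.pt.hom ≫ c.pt.hom)
      π :=
      { app := fun i => Over.homMk ((selfProdCone R.D R.cone).π.app i) (by
          show (selfProdCone R.D R.cone).π.app i ≫
              pullback.fst (R.D.obj i).hom (R.D.obj i).hom ≫ (D.obj i).hom =
            pullback.fst R.cone.pt.hom R.cone.pt.hom ≫ c.pt.hom
          rw [← Category.assoc, show (selfProdCone R.D R.cone).π.app i ≫
            pullback.fst (R.D.obj i).hom _ = pullback.fst _ _ ≫ (R.π.app i).left from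
              pullback.lift_fst _ _ _, Category.assoc]
          exact congrArg _ (Over.w (c.π.app i)))
        naturality := fun i j f => by
          ext : 1
          exact (selfProdCone R.D R.cone).π.naturality f } }
  have haffE : ∀ i, IsAffine (E.obj i).left := fun i => by
    have := haff i
    exact inferInstanceAs (IsAffine (pullback (R.D.obj i).hom (R.D.obj i).hom))
  obtain ⟨colE⟩ := h2 _ E haffE cE (isLimitSelfProdCone R.D hlim)
  let p₁ : ∀ i, E.obj i ⟶ D.obj i := fun i => Over.homMk (pullback.fst _ _) rfl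
  let p₂ : ∀ i, E.obj i ⟶ D.obj i := fun i => Over.homMk (pullback.snd _ _) (by
    show pullback.snd _ _ ≫ (R.D.obj i).hom ≫ A.hom = pullback.fst _ _ ≫ (R.D.obj i).hom ≫ A.hom
    rw [pullback.condition_assoc])
  let P₁ : cE.pt ⟶ c.pt := Over.homMk (pullback.fst _ _) rfl
  let P₂ : cE.pt ⟶ c.pt := Over.homMk (pullback.snd _ _) (by
    show pullback.snd _ _ ≫ R.cone.pt.hom ≫ A.hom = pullback.fst _ _ ≫ R.cone.pt.hom ≫ A.hom
    rw [pullback.condition_assoc])
  have hp₁ : ∀ i, cE.π.app i ≫ p₁ i = P₁ ≫ c.π.app i := fun i => by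
    ext; exact pullback.lift_fst _ _ _
  have hp₂ : ∀ i, cE.π.app i ≫ p₂ i = P₂ ≫ c.π.app i := fun i => by
    ext; exact pullback.lift_snd _ _ _
  have hp₁m : ∀ {i j} (f : i ⟶ j), E.map f ≫ p₁ j = p₁ i ≫ D.map f := fun f => by
    ext; exact pullback.lift_fst _ _ _
  have hp₂m : ∀ {i j} (f : i ⟶ j), E.map f ≫ p₂ j = p₂ i ≫ D.map f := fun f => by
    ext; exact pullback.lift_snd _ _ _
  rw [show Presieve.singleton π = Presieve.ofArrows (fun _ : PUnit.{1} => B) (fun _ => π) from
    (Presieve.ofArrows_pUnit π).symm, Presieve.isSheafFor_arrows_iff]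
  intro x hx
  replace hx : ∀ (Z : Over S) (a b : Z ⟶ B), a ≫ π = b ≫ π →
      F.map a.op (x PUnit.unit) = F.map b.op (x PUnit.unit) :=
    fun Z a b h => hx PUnit.unit PUnit.unit Z a b h
  -- uniqueness
  have uniq : ∀ t t' : F.obj (op A), F.map π.op t = F.map π.op t' → t = t' := by
    intro t t' h
    obtain ⟨i₀⟩ := IsCofiltered.nonempty (C := R.Iᵒᵖ)
    obtain ⟨k, f, g, hk⟩ := (Types.FilteredColimit.isColimit_eq_iff _ colD
      (xi := F.map (q i₀).op t) (xj := F.map (q i₀).op t') (i := op i₀) (j := op i₀)).mp (by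
        show F.map (c.π.app i₀).op (F.map (q i₀).op t) = F.map (c.π.app i₀).op (F.map (q i₀).op t')
        rw [← map_over, ← map_over, hq, map_over, map_over, h])
    refine (hsh k.unop).isSeparatedFor.ext fun W e' he' => ?_
    obtain ⟨⟩ := he'
    have hk' : F.map (D.map f.unop).op (F.map (q i₀).op t) =
        F.map (D.map g.unop).op (F.map (q i₀).op t') := hk
    rwa [← map_over, ← map_over, hqm, hqm] at hk'
  obtain ⟨i, (s : F.obj (op (D.obj i.unop))), (hs : F.map (c.π.app i.unop).op s = _)⟩ :=
    Types.jointly_surjective _ colD (F.map e.hom.op (x PUnit.unit))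
  obtain ⟨k, f, g, hk⟩ := (Types.FilteredColimit.isColimit_eq_iff _ colE
      (xi := F.map (p₁ i.unop).op s) (xj := F.map (p₂ i.unop).op s) (i := i) (j := i)).mp (by
        show F.map (cE.π.app i.unop).op (F.map (p₁ i.unop).op s) =
          F.map (cE.π.app i.unop).op (F.map (p₂ i.unop).op s)
        rw [← map_over, ← map_over, hp₁, hp₂, map_over, map_over]
        erw [hs]
        rw [← map_over, ← map_over]
        refine hx _ _ _ ?_
        rw [Category.assoc, Category.assoc, ← hq i.unop, ← Category.assoc, ← Category.assoc,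
          ← hp₁, ← hp₂, Category.assoc, Category.assoc]
        refine congrArg (cE.π.app i.unop ≫ ·) ?_
        ext
        exact pullback.condition)
  -- equalise the two maps of the index category
  obtain ⟨l, h, hh⟩ : ∃ (l : R.Iᵒᵖᵒᵖ) (h : k ⟶ l), f ≫ h = g ≫ h :=
    ⟨IsFiltered.coeq f g, IsFiltered.coeqHom f g, IsFiltered.coeq_condition f g⟩
  have hkl : F.map (E.map (f ≫ h).unop).op (F.map (p₁ i.unop).op s) =
      F.map (E.map (f ≫ h).unop).op (F.map (p₂ i.unop).op s) := by
    have hk' : F.map (E.map f.unop).op (F.map (p₁ i.unop).op s) =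
        F.map (E.map g.unop).op (F.map (p₂ i.unop).op s) := hk
    conv_rhs => rw [hh]
    rw [unop_comp, unop_comp, E.map_comp, E.map_comp, map_over, map_over, hk']
  rw [← map_over, ← map_over, hp₁m, hp₂m, map_over, map_over] at hkl
  let sl : F.obj (op (D.obj l.unop)) := F.map (D.map (f ≫ h).unop).op s
  have hl := hsh l.unop
  rw [show Presieve.singleton (q l.unop) = Presieve.ofArrows (fun _ : PUnit.{1} => D.obj l.unop)
    (fun _ => q l.unop) from (Presieve.ofArrows_pUnit _).symm, Presieve.isSheafFor_arrows_iff] at hl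
  obtain ⟨t, ht, -⟩ := hl (fun _ => sl) fun _ _ Z a b hab => by
    let m : Z ⟶ E.obj l.unop := Over.homMk (pullback.lift a.left b.left
      (congrArg CommaMorphism.left hab)) (by
        show pullback.lift _ _ _ ≫ pullback.fst _ _ ≫ _ = _
        rw [pullback.lift_fst_assoc]
        exact Over.w a)
    have ha : m ≫ p₁ l.unop = a := by ext; exact pullback.lift_fst _ _ _
    have hb : m ≫ p₂ l.unop = b := by ext; exact pullback.lift_snd _ _ _
    show F.map a.op sl = F.map b.op sl
    rw [← ha, ← hb, map_over, map_over, hkl]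
  refine ⟨t, fun _ => ?_, fun t' ht' => uniq t' t ?_⟩
  · have h' : π = e.inv ≫ c.π.app l.unop ≫ q l.unop := by rw [hq, Iso.inv_hom_id_assoc]
    show F.map π.op t = x PUnit.unit
    rw [h', map_over, map_over, show F.map (q l.unop).op t = sl from ht PUnit.unit, ← map_over,
      ← map_over, Category.assoc, c.w, map_over]
    erw [hs]
    rw [← map_over, Iso.inv_hom_id, op_id, F.map_id]
    rfl
  · have h' : π = e.inv ≫ c.π.app l.unop ≫ q l.unop := by rw [hq, Iso.inv_hom_id_assoc]
    rw [ht' PUnit.unit]
    rw [h', map_over, map_over, show F.map (q l.unop).op t = sl from ht PUnit.unit, ← map_over,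
      ← map_over, Category.assoc, c.w, map_over]
    erw [hs]
    rw [← map_over, Iso.inv_hom_id, op_id, F.map_id]
    rfl

theorem standardV_mem_sheafTopology (h1 : HTop.IsHSheafOver S F) (h2 : LimitPreserving F)
    {P U : Scheme.{u}} [IsAffine P] [IsAffine U] (g : P ⟶ U)
    (hg : HTop.IsStandardV (PreZeroHypercover.singleton.{0} g)) :
    Sieve.generate (Presieve.singleton g) ∈ sheafTopology F U := by
  intro Y q W f
  refine isSheafFor_of_affine_pullbacks (isSheaf_zariski_of_isHSheafOver h1) _ fun A a hA => ?_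
  rw [← Sieve.pullback_comp]
  let c : A.left ⟶ U := (a ≫ f).left ≫ q
  let B : Over S := Over.mk (pullback.fst c g ≫ A.hom)
  let π : B ⟶ A := Over.homMk (pullback.fst c g) rfl
  have : IsAffine B.left := inferInstanceAs (IsAffine (pullback c g))
  have hπ := isSheafFor_standardV_affine h1 h2 π (by
    intro V _ _ r
    obtain ⟨W', hW, hW', φ, hφ, j, g', hg'⟩ := hg.lift V (r ≫ c)
    exact ⟨W', hW, hW', φ, hφ, PUnit.unit, pullback.lift (Spec.map φ ≫ r) g'
      ((Category.assoc _ _ _).trans hg'.symm), pullback.lift_fst _ _ _⟩)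
  rw [Presieve.isSheafFor_iff_generate] at hπ
  convert hπ using 2
  apply (Sieve.overEquiv A).injective
  rw [Sieve.overEquiv_pullback, OrderIso.apply_symm_apply, ← Sieve.pullback_comp]
  ext Z z
  rw [Sieve.overEquiv_iff]
  constructor
  · rintro ⟨_, b, _, ⟨⟩, hb⟩
    refine ⟨B, Over.homMk (pullback.lift z b hb.symm) ?_, π, ⟨⟩, ?_⟩
    · simp [B]
    · ext; simp [π]
  · rintro ⟨_, e, _, ⟨⟩, he⟩
    refine ⟨P, e.left ≫ pullback.snd c g, g, ⟨⟩, ?_⟩
    have he' : e.left ≫ pullback.fst c g = z := congrArg CommaMorphism.left he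
    rw [Category.assoc, ← pullback.condition, reassoc_of% he']

theorem vCover_mem_sheafTopology (h1 : HTop.IsHSheafOver S F) (h2 : LimitPreserving F)
    {X : Scheme.{u}} (E : PreZeroHypercover.{w} X) (hE : HTop.IsVCover E) :
    Sieve.generate E.presieve₀ ∈ sheafTopology F X := by
  have hF := isSheaf_zariski_of_isHSheafOver h1
  refine (sheafTopology F).transitive (zariski_le_sheafTopology hF _
    (X.openCoverOfIsOpenCover (fun U : X.affineOpens => (U : X.Opens))
      (iSup_affineOpens_eq_top X)).mem_grothendieckTopology) _ fun Z a ha => ?_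
  obtain ⟨(U : X.affineOpens), b, rfl⟩ := (Sieve.mem_ofArrows_iff _ _ _).mp ha
  rw [Sieve.pullback_comp]
  refine (sheafTopology F).pullback_stable b ?_
  have : IsAffine ((U : X.Opens) : Scheme.{u}) := U.2
  obtain ⟨G, hG, hr⟩ := hE U
  have := hG.isAffine_obj
  let G' : PreZeroHypercover.{u} ((U : X.Opens) : Scheme.{u}) := G.reindex Equiv.ulift.{u}
  have hG' : HTop.IsStandardV G' := isStandardV_reindex hG _
  have := hG'.finite_index
  have := hG'.isAffine_obj
  refine (sheafTopology F).transitive
    (standardV_mem_sheafTopology h1 h2 _ (isStandardV_sigmaDesc.{0} hG')) _ fun Z' a' ha' => ?_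
  obtain ⟨_, b', _, ⟨⟩, rfl⟩ := ha'
  rw [Sieve.pullback_comp]
  refine (sheafTopology F).pullback_stable b' ?_
  refine (sheafTopology F).superset_covering ?_ (zariski_le_sheafTopology hF _
    (sigmaOpenCover G'.X).mem_grothendieckTopology)
  rw [Sieve.generate_le_iff]
  rintro Q q hq
  obtain ⟨k⟩ := hq
  obtain ⟨i, r, hi⟩ := hr (Equiv.ulift.{u} k)
  refine ⟨E.X i, r, E.f i, ⟨i⟩, ?_⟩
  show r ≫ E.f i = (Sigma.ι G'.X k ≫ Sigma.desc G'.f) ≫ (U : X.Opens).ι
  rw [Sigma.ι_desc]
  exact hi

theorem isVSheafOver_of_limitPreserving (h1 : HTop.IsHSheafOver S F) (h2 : LimitPreserving F) :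
    HTop.IsVSheafOver S F := by
  intro X R hR
  obtain ⟨ι, Y, f, rfl⟩ := R.exists_eq_ofArrows
  rw [Presieve.map_ofArrows] at hR
  let E : PreZeroHypercover X.left := ⟨ι, fun i => (Y i).left, fun i => (f i).left⟩
  have hE : HTop.IsVCover E := (HTop.presieve₀_mem_vPrecoverage_iff E).mp hR
  have h := vCover_mem_sheafTopology h1 h2 E hE X (𝟙 _) X (𝟙 _)
  rw [Sieve.pullback_id, Sieve.pullback_id] at h
  rw [Presieve.isSheafFor_iff_generate]
  convert h using 2
  apply (Sieve.overEquiv X).injective
  rw [OrderIso.apply_symm_apply]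
  exact Sieve.overEquiv_ofArrows _ _

end Groth.HTopHyper
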